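import Mathlib

/-!
Elementary facts about the alternating group of degree five used in the analysis of groups of
Hall–Janko type.
-/

set_option autoImplicit false
set_option synthInstance.maxSize 4000
set_option synthInstance.maxHeartbeats 400000

namespace Cfsg.Agent.HJ

open Equiv

/-- The alternating group of degree five. -/
abbrev A5 := alternatingGroup (Fin 5)

/-- Apply an element of `A5`. -/
abbrev ap (g : A5) (i : Fin 5) : Fin 5 := (g : Perm (Fin 5)) i

theorem card_A5 : Nat.card A5 = 60 := by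
  rw [nat_card_alternatingGroup, Nat.card_fin]; rfl

/-- An involution fixes one point and interchanges the others in pairs. -/
theorem invol_shape : ∀ σ : A5, σ * σ = 1 → σ ≠ 1 → ∃ i a c : Fin 5,
    [i, a, ap σ a, c, ap σ c].Nodup ∧ ap σ i = i ∧ ∀ j, ap σ j = j → j = i := by decide +kernel

theorem invol_conj : ∀ σ τ : A5, σ * σ = 1 → σ ≠ 1 → τ * τ = 1 → τ ≠ 1 →
    ∃ g : A5, g * σ * g⁻¹ = τ := by decide +kernel

theorem card_invol : (Finset.univ.filter fun σ : A5 => σ * σ = 1 ∧ σ ≠ 1).card = 15 := by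
  decide +kernel

theorem commute_fix : ∀ σ τ : A5, σ * σ = 1 → σ ≠ 1 → τ * τ = 1 → τ ≠ 1 → σ * τ = τ * σ →
    ∀ i, ap σ i = i → ap τ i = i := by decide +kernel

theorem stab_sq_mul : ∀ i : Fin 5, ∀ σ τ : A5, ap σ i = i → ap τ i = i → σ * σ = 1 →
    τ * τ = 1 → σ * τ * (σ * τ) = 1 ∧ σ * τ = τ * σ := by decide +kernel

theorem stab_pow_four : ∀ i : Fin 5, ∀ σ : A5, ap σ i = i → σ ^ 4 = 1 → σ * σ = 1 := by
  decide +kernel

theorem card_stab : ∀ i : Fin 5, (Finset.univ.filter fun σ : A5 => ap σ i = i).card = 12 := by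
  decide +kernel

theorem card_stab_invol : ∀ i : Fin 5,
    (Finset.univ.filter fun σ : A5 => ap σ i = i ∧ σ * σ = 1).card = 4 := by decide +kernel

theorem card_pair_stab : ∀ i j : Fin 5, i ≠ j → (Finset.univ.filter fun σ : A5 =>
    (ap σ i = i ∧ ap σ j = j) ∨ (ap σ i = j ∧ ap σ j = i)).card = 6 := by decide +kernel

theorem transitive : ∀ i j : Fin 5, ∃ g : A5, ap g i = j := by decide +kernel

theorem order_three_fix : ∀ i : Fin 5, ∀ σ : A5, ap σ i = i → σ ^ 3 = 1 → σ ≠ 1 →
    ∃ j, j ≠ i ∧ ap σ j = j ∧ ∀ k, ap σ k = k → k = i ∨ k = j := by decide +kernel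

/-- An involution fixing `j` is determined by the orders of its products with those fixing `i`. -/
theorem pair_rigid : ∀ i j : Fin 5, i ≠ j → ∀ σ τ : A5,
    ap σ j = j → σ * σ = 1 → σ ≠ 1 → ap τ j = j → τ * τ = 1 → τ ≠ 1 →
    (∀ e : A5, ap e i = i → e * e = 1 → ((e * σ) ^ 3 = 1 ↔ (e * τ) ^ 3 = 1)) → σ = τ := by
  decide +kernel

theorem pair_orders : ∀ i j : Fin 5, i ≠ j →
    (∃ e f : A5, ap e i = i ∧ e * e = 1 ∧ ap f j = j ∧ f * f = 1 ∧ (e * f) ^ 3 = 1 ∧ e * f ≠ 1) ∧
    (∃ e f : A5, ap e i = i ∧ e * e = 1 ∧ ap f j = j ∧ f * f = 1 ∧ (e * f) ^ 5 = 1 ∧ e * f ≠ 1) := by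
  decide +kernel

theorem card_odd_pairs : (Finset.univ.filter fun p : A5 × A5 =>
    p.1 * p.1 = 1 ∧ p.1 ≠ 1 ∧ p.2 * p.2 = 1 ∧ (p.1 * p.2) ^ 15 = 1).card = 195 := by
  decide +kernel

theorem exponent_thirty : ∀ σ : A5, σ ^ 30 = 1 := by decide +kernel

theorem three_three : ∀ σ : A5, σ * σ = 1 → σ ≠ 1 → ∃ g : A5, g ^ 3 = 1 ∧ (g * σ) ^ 3 = 1 := by
  decide +kernel

/-- A subgroup of order twelve fixes a unique point. -/
theorem exists_fixed (M : Subgroup A5) (hM : Nat.card M = 12) :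
    ∃ i, (∀ g ∈ M, ap g i = i) ∧ ∀ j, (∀ g ∈ M, ap g j = j) → j = i := by
  classical
  have hle : ∀ (p : A5 → Prop) [DecidablePred p], (∀ g ∈ M, p g) →
      12 ≤ (Finset.univ.filter p).card := by
    intro p _ h
    rw [← hM, Nat.card_eq_fintype_card, Fintype.card_subtype]
    exact Finset.card_le_card fun g hg => by
      simp only [Finset.mem_filter, Finset.mem_univ, true_and] at hg ⊢
      exact h g hg
  have huniq : ∀ i j, (∀ g ∈ M, ap g i = i) → (∀ g ∈ M, ap g j = j) → j = i := by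
    intro i j hi hj
    by_contra hne
    have := hle (fun σ => (ap σ i = i ∧ ap σ j = j) ∨ (ap σ i = j ∧ ap σ j = i))
      fun g hg => Or.inl ⟨hi g hg, hj g hg⟩
    rw [card_pair_stab i j (Ne.symm hne)] at this
    omega
  suffices ∃ i, ∀ g ∈ M, ap g i = i from this.elim fun i hi => ⟨i, hi, fun j hj => huniq i j hi hj⟩
  by_contra hno
  push Not at hno
  -- every orbit has between two and four points, so one has two
  let orb : Fin 5 → Finset (Fin 5) := fun i => Finset.univ.filter fun j => ∃ g ∈ M, ap g i = j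
  have hmem : ∀ i, i ∈ orb i := fun i => by
    simp only [orb, Finset.mem_filter, Finset.mem_univ, true_and]
    exact ⟨1, M.one_mem, rfl⟩
  have h2 : ∀ i, 2 ≤ (orb i).card := fun i => by
    obtain ⟨g, hg, hgi⟩ := hno i
    refine Finset.one_lt_card.2 ⟨i, hmem i, ap g i, ?_, Ne.symm hgi⟩
    simp only [orb, Finset.mem_filter, Finset.mem_univ, true_and]
    exact ⟨g, hg, rfl⟩
  have hdvd : ∀ i, (orb i).card ∣ 12 := fun i => by
    have h := Subgroup.index_dvd_card (MulAction.stabilizer M i)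
    rw [hM, MulAction.index_stabilizer] at h
    convert h using 1
    rw [← Set.ncard_coe_finset]
    congr 1
    ext j
    simp only [orb, Finset.coe_filter, Finset.mem_univ, true_and, Set.mem_setOf_eq,
      MulAction.mem_orbit_iff]
    exact ⟨fun ⟨g, hg, h⟩ => ⟨⟨g, hg⟩, h⟩, fun ⟨g, h⟩ => ⟨g, g.2, h⟩⟩
  have hclosed : ∀ i j, j ∈ orb i → orb j ⊆ orb i := by
    intro i j hj k hk
    simp only [orb, Finset.mem_filter, Finset.mem_univ, true_and] at hj hk ⊢
    obtain ⟨g, hg, rfl⟩ := hj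
    obtain ⟨g', hg', rfl⟩ := hk
    exact ⟨g' * g, M.mul_mem hg' hg, rfl⟩
  have hsym : ∀ i j, j ∈ orb i → i ∈ orb j := by
    intro i j hj
    simp only [orb, Finset.mem_filter, Finset.mem_univ, true_and] at hj ⊢
    obtain ⟨g, hg, rfl⟩ := hj
    exact ⟨g⁻¹, M.inv_mem hg, by simp [ap]⟩
  obtain ⟨i, hi⟩ : ∃ i, (orb i).card = 2 := by
    by_contra hcon
    push Not at hcon
    have hlarge : ∀ i, 3 ≤ (orb i).card := fun i => by have := h2 i; have := hcon i; omega
    obtain ⟨k, hk⟩ : ((orb 0)ᶜ).Nonempty := by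
      rw [← Finset.card_pos, Finset.card_compl, Fintype.card_fin]
      have := Finset.card_le_univ (orb 0)
      rw [Fintype.card_fin] at this
      have : (orb 0).card ≠ 5 := fun h => absurd (h ▸ hdvd 0) (by norm_num)
      omega
    rw [Finset.mem_compl] at hk
    have hdis : Disjoint (orb 0) (orb k) := Finset.disjoint_left.2 fun x hx hx' =>
      hk (hclosed 0 x hx (hsym k x hx'))
    have := Finset.card_le_univ (orb 0 ∪ orb k)
    rw [Finset.card_union_of_disjoint hdis, Fintype.card_fin] at this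
    have := hlarge 0; have := hlarge k
    omega
  obtain ⟨a, b, hab, hset⟩ := Finset.card_eq_two.1 hi
  have ha : a ∈ orb i := by rw [hset]; simp
  have hb : b ∈ orb i := by rw [hset]; simp
  have := hle (fun σ => (ap σ a = a ∧ ap σ b = b) ∨ (ap σ a = b ∧ ap σ b = a)) fun g hg => by
    have hga : ap g a ∈ orb i := hclosed i a ha (by
      simp only [orb, Finset.mem_filter, Finset.mem_univ, true_and]; exact ⟨g, hg, rfl⟩)
    have hgb : ap g b ∈ orb i := hclosed i b hb (by
      simp only [orb, Finset.mem_filter, Finset.mem_univ, true_and]; exact ⟨g, hg, rfl⟩)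
    rw [hset] at hga hgb
    simp only [Finset.mem_insert, Finset.mem_singleton] at hga hgb
    rcases hga with h | h <;> rcases hgb with h' | h'
    · exact absurd ((g : Perm (Fin 5)).injective (h.trans h'.symm)) hab
    · exact Or.inl ⟨h, h'⟩
    · exact Or.inr ⟨h, h'⟩
    · exact absurd ((g : Perm (Fin 5)).injective (h.trans h'.symm)) hab
  rw [card_pair_stab a b hab] at this
  omega

end Cfsg.Agent.HJ
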