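import Cfsg.Agent.Lib.HJ.Extra

/-!
The involutions of the centraliser outside the extraspecial subgroup, and fusion of involutions.
-/

set_option autoImplicit false

namespace Cfsg.Agent.HJ

variable {G : Type*} [Group G] [Finite G] {z : G} {Q : Subgroup G}
  {φ : ↥(Subgroup.centralizer ({z} : Set G)) →* A5}

/-- An involution of `H` outside `Q`. -/
def Outer (z : G) (Q : Subgroup G) (t : G) : Prop := t * z = z * t ∧ t * t = 1 ∧ t ∉ Q

namespace Setup

variable (S : Setup z Q φ)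
include S

section Four

variable {a b c d : G}

/-- The product of four non-central involutions belonging to distinct points. -/
theorem four_prod (ha : Nci z Q a) (hb : Nci z Q b) (hc : Nci z Q c) (hd : Nci z Q d)
    (hab : pt φ a ≠ pt φ b) (hac : pt φ a ≠ pt φ c) (had : pt φ a ≠ pt φ d)
    (hbc : pt φ b ≠ pt φ c) (hbd : pt φ b ≠ pt φ d) (hcd : pt φ c ≠ pt φ d) :
    a * b * (a * b) = z ∧ c * d * (c * d) = z ∧ a * b * (c * d) = c * d * (a * b) ∧
    Nci z Q (a * b * (c * d)) ∧ pt φ (a * b * (c * d)) ≠ pt φ a ∧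
    pt φ (a * b * (c * d)) ≠ pt φ b ∧ pt φ (a * b * (c * d)) ≠ pt φ c ∧
    pt φ (a * b * (c * d)) ≠ pt φ d := by
  have nab := S.nc_of_pt_ne ha hb hab
  have nac := S.nc_of_pt_ne ha hc hac
  have nad := S.nc_of_pt_ne ha hd had
  have nbc := S.nc_of_pt_ne hb hc hbc
  have nbd := S.nc_of_pt_ne hb hd hbd
  have ncd := S.nc_of_pt_ne hc hd hcd
  have e1 : a * b * (a * b) = z := by rw [S.sq_nc ha.1 hb.1 nab, ha.2.1, hb.2.1, one_mul, one_mul]
  have e2 : c * d * (c * d) = z := by rw [S.sq_nc hc.1 hd.1 ncd, hc.2.1, hd.2.1, one_mul, one_mul]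
  have c1 := S.comm_of_nc ha.1 hb.1 hc.1 nac nbc
  have c2 := S.comm_of_nc ha.1 hb.1 hd.1 nad nbd
  have c3 := S.comm_of_nc hc.1 hd.1 ha.1 (Ne.symm nac) (Ne.symm nad)
  have c4 := S.comm_of_nc hc.1 hd.1 hb.1 (Ne.symm nbc) (Ne.symm nbd)
  have e3 : a * b * (c * d) = c * d * (a * b) := (by
    exact (show Commute (a * b) (c * d) from Commute.mul_right c1 c2))
  have hpQ : a * b * (c * d) ∈ Q := Q.mul_mem (Q.mul_mem ha.1 hb.1) (Q.mul_mem hc.1 hd.1)
  have hp2 : a * b * (c * d) * (a * b * (c * d)) = 1 := by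
    calc a * b * (c * d) * (a * b * (c * d))
        = a * b * (c * d * (a * b)) * (c * d) := by group
      _ = (a * b * (a * b)) * (c * d * (c * d)) := by rw [← e3]; group
      _ = 1 := by rw [e1, e2, S.zz]
  have na : a * b * (c * d) * a ≠ a * (a * b * (c * d)) :=
    nc_of_nc_comm (nc_of_comm_nc rfl (Ne.symm nab)) c3
  have nb : a * b * (c * d) * b ≠ b * (a * b * (c * d)) :=
    nc_of_nc_comm (nc_of_nc_comm nab rfl) c4
  have nc : a * b * (c * d) * c ≠ c * (a * b * (c * d)) :=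
    nc_of_comm_nc c1 (nc_of_comm_nc rfl (Ne.symm ncd))
  have nd : a * b * (c * d) * d ≠ d * (a * b * (c * d)) :=
    nc_of_comm_nc c2 (nc_of_nc_comm ncd rfl)
  have hp : Nci z Q (a * b * (c * d)) := by
    refine ⟨hpQ, hp2, ?_, ?_⟩
    · intro h; rw [h] at na; simp at na
    · intro h; rw [h] at na; exact na (S.Q_comm_z ha.1).symm
  have hne : ∀ w, Nci z Q w → a * b * (c * d) * w ≠ w * (a * b * (c * d)) →
      pt φ (a * b * (c * d)) ≠ pt φ w := by
    intro w hw hn h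
    rcases (S.pt_eq_iff hw hp).1 h with e | e <;> rw [e] at hn
    · exact hn rfl
    · exact hn (comm_mul rfl (S.Q_comm_z hw.1).symm)
  exact ⟨e1, e2, e3, hp, hne a ha na, hne b hb nb, hne c hc nc, hne d hd nd⟩

/-- An element commuting with four such involutions is central. -/
theorem cent_four (ha : Nci z Q a) (hb : Nci z Q b) (hc : Nci z Q c) (hd : Nci z Q d)
    (hab : pt φ a ≠ pt φ b) (hac : pt φ a ≠ pt φ c) (had : pt φ a ≠ pt φ d)
    (hbc : pt φ b ≠ pt φ c) (hbd : pt φ b ≠ pt φ d) (hcd : pt φ c ≠ pt φ d)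
    {y : G} (hy : y ∈ Q) (hya : y * a = a * y) (hyb : y * b = b * y) (hyc : y * c = c * y)
    (hyd : y * d = d * y) : y = 1 ∨ y = z := by
  have nab := S.nc_of_pt_ne ha hb hab
  have nac := S.nc_of_pt_ne ha hc hac
  have nad := S.nc_of_pt_ne ha hd had
  have nbc := S.nc_of_pt_ne hb hc hbc
  have nbd := S.nc_of_pt_ne hb hd hbd
  have ncd := S.nc_of_pt_ne hc hd hcd
  let A1 := Q ⊓ Subgroup.centralizer ({a} : Set G)
  let A2 := A1 ⊓ Subgroup.centralizer ({b} : Set G)
  let A3 := A2 ⊓ Subgroup.centralizer ({c} : Set G)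
  let A4 := A3 ⊓ Subgroup.centralizer ({d} : Set G)
  have h1 : Nat.card A1 = 16 := S.card_cent ha.1 ha.2.2.1 ha.2.2.2
  have h2 : 2 * Nat.card A2 = Nat.card A1 :=
    S.card_cent_step A1 inf_le_left hb.1 ⟨a, ⟨ha.1, mem_cent.2 rfl⟩, nab⟩
  have habd : a * b * d ∈ Q := Q.mul_mem (Q.mul_mem ha.1 hb.1) hd.1
  have habc : a * b * c ∈ Q := Q.mul_mem (Q.mul_mem ha.1 hb.1) hc.1
  have xa : ∀ w, Nci z Q w → a * w ≠ w * a → a * b * w * a = a * (a * b * w) := fun w hw hn =>
    S.comm_of_nc (Q.mul_mem ha.1 hb.1) hw.1 ha.1 (nc_of_comm_nc rfl (Ne.symm nab)) (Ne.symm hn)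
  have xb : ∀ w, Nci z Q w → b * w ≠ w * b → a * b * w * b = b * (a * b * w) := fun w hw hn =>
    S.comm_of_nc (Q.mul_mem ha.1 hb.1) hw.1 hb.1 (nc_of_nc_comm nab rfl) (Ne.symm hn)
  have h3 : 2 * Nat.card A3 = Nat.card A2 := by
    refine S.card_cent_step A2 (inf_le_left.trans inf_le_left) hc.1
      ⟨a * b * d, ⟨⟨habd, mem_cent.2 (xa d hd nad)⟩, mem_cent.2 (xb d hd nbd)⟩, ?_⟩
    exact nc_of_comm_nc (S.comm_of_nc ha.1 hb.1 hc.1 nac nbc) (Ne.symm ncd)
  have h4 : 2 * Nat.card A4 = Nat.card A3 := by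
    refine S.card_cent_step A3 (inf_le_left.trans (inf_le_left.trans inf_le_left)) hd.1
      ⟨a * b * c, ⟨⟨⟨habc, mem_cent.2 (xa c hc nac)⟩, mem_cent.2 (xb c hc nbc)⟩,
        mem_cent.2 (comm_mul (S.comm_of_nc ha.1 hb.1 hc.1 nac nbc) rfl)⟩, ?_⟩
    exact nc_of_comm_nc (S.comm_of_nc ha.1 hb.1 hd.1 nad nbd) ncd
  by_contra hcon
  push Not at hcon
  have hyA : y ∈ A4 := ⟨⟨⟨⟨hy, mem_cent.2 hya⟩, mem_cent.2 hyb⟩, mem_cent.2 hyc⟩, mem_cent.2 hyd⟩
  have hzA : z ∈ A4 := ⟨⟨⟨⟨S.zQ, mem_cent.2 (S.Q_comm_z ha.1).symm⟩,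
    mem_cent.2 (S.Q_comm_z hb.1).symm⟩, mem_cent.2 (S.Q_comm_z hc.1).symm⟩,
    mem_cent.2 (S.Q_comm_z hd.1).symm⟩
  have hsub : ({1, z, y} : Set G) ⊆ (A4 : Set G) := by
    intro w hw
    simp only [Set.mem_insert_iff, Set.mem_singleton_iff] at hw
    rcases hw with rfl | rfl | rfl
    exacts [A4.one_mem, hzA, hyA]
  have h5 := Set.ncard_le_ncard hsub
  have hn : ({1, z, y} : Set G).ncard = 3 :=
    Set.ncard_eq_three.2 ⟨1, z, y, Ne.symm S.zne, Ne.symm hcon.1, Ne.symm hcon.2, rfl⟩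
  rw [hn, ← Nat.card_coe_set_eq] at h5
  change 3 ≤ Nat.card A4 at h5
  omega

/-- Elements whose commutation pattern is symmetric form a subgroup of order eight. -/
theorem span_eight (ha : Nci z Q a) (hb : Nci z Q b) (hc : Nci z Q c) (hd : Nci z Q d)
    (hab : pt φ a ≠ pt φ b) (hac : pt φ a ≠ pt φ c) (had : pt φ a ≠ pt φ d)
    (hbc : pt φ b ≠ pt φ c) (hbd : pt φ b ≠ pt φ d) (hcd : pt φ c ≠ pt φ d)
    {x : G} (hx : x ∈ Q) (hxab : x * a = a * x ↔ x * b = b * x)
    (hxcd : x * c = c * x ↔ x * d = d * x) :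
    x ∈ ({1, z, a * b, a * b * z, c * d, c * d * z, a * b * (c * d), a * b * (c * d) * z} :
      Set G) := by
  obtain ⟨e1, e2, e3, hp, -⟩ := S.four_prod ha hb hc hd hab hac had hbc hbd hcd
  have nab := S.nc_of_pt_ne ha hb hab
  have nac := S.nc_of_pt_ne ha hc hac
  have nad := S.nc_of_pt_ne ha hd had
  have nbc := S.nc_of_pt_ne hb hc hbc
  have nbd := S.nc_of_pt_ne hb hd hbd
  have ncd := S.nc_of_pt_ne hc hd hcd
  have q1 : a * b ∈ Q := Q.mul_mem ha.1 hb.1
  have q2 : c * d ∈ Q := Q.mul_mem hc.1 hd.1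
  have d1a : a * b * a ≠ a * (a * b) := nc_of_comm_nc rfl (Ne.symm nab)
  have d1b : a * b * b ≠ b * (a * b) := nc_of_nc_comm nab rfl
  have d1c := S.comm_of_nc ha.1 hb.1 hc.1 nac nbc
  have d1d := S.comm_of_nc ha.1 hb.1 hd.1 nad nbd
  have d2a := S.comm_of_nc hc.1 hd.1 ha.1 (Ne.symm nac) (Ne.symm nad)
  have d2b := S.comm_of_nc hc.1 hd.1 hb.1 (Ne.symm nbc) (Ne.symm nbd)
  have d2c : c * d * c ≠ c * (c * d) := nc_of_comm_nc rfl (Ne.symm ncd)
  have d2d : c * d * d ≠ d * (c * d) := nc_of_nc_comm ncd rfl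
  simp only [Set.mem_insert_iff, Set.mem_singleton_iff]
  by_cases h1 : x * a = a * x <;> by_cases h2 : x * c = c * x
  · rcases S.cent_four ha hb hc hd hab hac had hbc hbd hcd hx h1 (hxab.1 h1) h2 (hxcd.1 h2)
      with h | h
    exacts [Or.inl h, Or.inr (Or.inl h)]
  · have hxe : ∀ w, x * (c * d) = w → x = w * (c * d) * z := by
      rintro w rfl
      rw [mul_assoc x, e2, S.mul_z_z]
    rcases S.cent_four ha hb hc hd hab hac had hbc hbd hcd (Q.mul_mem hx q2)
      (comm_mul h1 d2a) (comm_mul (hxab.1 h1) d2b) (S.comm_of_nc hx q2 hc.1 h2 d2c)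
      (S.comm_of_nc hx q2 hd.1 (fun h => h2 (hxcd.2 h)) d2d) with h | h
    · have := hxe _ h; rw [one_mul] at this; tauto
    · have := hxe _ h
      rw [← S.Q_comm_z q2, S.mul_z_z] at this; tauto
  · have hxe : ∀ w, x * (a * b) = w → x = w * (a * b) * z := by
      rintro w rfl
      rw [mul_assoc x, e1, S.mul_z_z]
    rcases S.cent_four ha hb hc hd hab hac had hbc hbd hcd (Q.mul_mem hx q1)
      (S.comm_of_nc hx q1 ha.1 h1 d1a) (S.comm_of_nc hx q1 hb.1 (fun h => h1 (hxab.2 h)) d1b)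
      (comm_mul h2 d1c) (comm_mul (hxcd.1 h2) d1d) with h | h
    · have := hxe _ h; rw [one_mul] at this; tauto
    · have := hxe _ h
      rw [← S.Q_comm_z q1, S.mul_z_z] at this; tauto
  · have hxe : ∀ w, x * (a * b * (c * d)) = w → x = w * (a * b * (c * d)) := by
      rintro w rfl
      rw [mul_assoc x, hp.2.1, mul_one]
    rcases S.cent_four ha hb hc hd hab hac had hbc hbd hcd (Q.mul_mem hx hp.1)
      (S.comm_of_nc hx hp.1 ha.1 h1 (nc_of_nc_comm d1a d2a))
      (S.comm_of_nc hx hp.1 hb.1 (fun h => h1 (hxab.2 h)) (nc_of_nc_comm d1b d2b))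
      (S.comm_of_nc hx hp.1 hc.1 h2 (nc_of_comm_nc d1c d2c))
      (S.comm_of_nc hx hp.1 hd.1 (fun h => h2 (hxcd.2 h)) (nc_of_comm_nc d1d d2d)) with h | h
    · have := hxe _ h; rw [one_mul] at this; tauto
    · have := hxe _ h
      rw [← S.Q_comm_z hp.1] at this; tauto

end Four

theorem outer_psi {t : G} (ht : Outer z Q t) : psi φ t * psi φ t = 1 ∧ psi φ t ≠ 1 := by
  refine ⟨?_, fun h => ht.2.2 ((S.psi_eq_one ht.1).1 h)⟩
  rw [← S.psi_mul ht.1 ht.1, ht.2.1, S.psi_eq_one (by simp)]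
  exact Q.one_mem

/-- The action of an outer involution on `Q`. -/
theorem outer_data {t : G} (ht : Outer z Q t) :
    ∃ p, Nci z Q p ∧ (∀ x ∈ Q, t * x = x * t ↔ x = 1 ∨ x = z ∨ x = p ∨ x = p * z) ∧
      ap (psi φ t) (pt φ p) = pt φ p ∧
      Nat.card {y // ∃ g ∈ Q, g * t * g⁻¹ = y} = 8 ∧
      ∀ y, y * y = 1 → t⁻¹ * y ∈ Q → ∃ g ∈ Q, g * t * g⁻¹ = y := by
  classical
  obtain ⟨hσ, hσ1⟩ := S.outer_psi ht
  obtain ⟨i, pa, pc, hnd, hfix, huniq⟩ := invol_shape _ hσ hσ1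
  obtain ⟨a, ha, rfl⟩ := S.pt_surj pa
  obtain ⟨c, hc, rfl⟩ := S.pt_surj pc
  have hti : t⁻¹ = t := inv_of_sq ht.2.1
  obtain ⟨b, hbdef⟩ : ∃ b, b = t * a * t⁻¹ := ⟨_, rfl⟩
  obtain ⟨d, hddef⟩ : ∃ d, d = t * c * t⁻¹ := ⟨_, rfl⟩
  have hb : Nci z Q b := hbdef ▸ S.nci_conj ht.1 ha
  have hd : Nci z Q d := hddef ▸ S.nci_conj ht.1 hc
  have hb' : t * b * t⁻¹ = a := by
    rw [hbdef, conj_conj, ht.2.1]; group
  have hd' : t * d * t⁻¹ = c := by
    rw [hddef, conj_conj, ht.2.1]; group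
  rw [← S.pt_conj ht.1 ha, ← S.pt_conj ht.1 hc, ← hbdef, ← hddef] at hnd
  simp only [List.nodup_cons, List.mem_cons, List.not_mem_nil, or_false, not_or,
    List.nodup_nil, and_true] at hnd
  obtain ⟨⟨-, -, -, -⟩, ⟨hab, hac, had⟩, ⟨hbc, hbd⟩, hcd, -⟩ := hnd
  obtain ⟨e1, e2, e3, hp, -⟩ := S.four_prod ha hb hc hd hab hac had hbc hbd hcd
  set p := a * b * (c * d) with hpdef
  have k1 : t * (a * b) * t⁻¹ = a * b * z := by
    rw [conj_mul', hb', ← hbdef, S.nc_eq hb.1 ha.1 (Ne.symm (S.nc_of_pt_ne ha hb hab))]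
  have k2 : t * (c * d) * t⁻¹ = c * d * z := by
    rw [conj_mul', hd', ← hddef, S.nc_eq hd.1 hc.1 (Ne.symm (S.nc_of_pt_ne hc hd hcd))]
  have kp : t * p * t⁻¹ = p := by
    rw [hpdef, conj_mul', k1, k2]
    calc a * b * z * (c * d * z) = a * b * (z * (c * d)) * z := by group
      _ = a * b * (c * d * z) * z := by rw [← S.Q_comm_z (Q.mul_mem hc.1 hd.1)]
      _ = p * z * z := by rw [hpdef]; group
      _ = p := S.mul_z_z _
  have kz : t * z * t⁻¹ = z := conj_eq_iff_comm.2 ht.1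
  have kmz : ∀ w, t * (w * z) * t⁻¹ = t * w * t⁻¹ * z := fun w => by rw [conj_mul', kz]
  -- conjugation by `t` swaps the commutation conditions
  have hsym : ∀ x ∈ Q, (t * x * t⁻¹ = x ∨ t * x * t⁻¹ = x * z) →
      (x * a = a * x ↔ x * b = b * x) ∧ (x * c = c * x ↔ x * d = d * x) := by
    intro x hx hxc
    have hiff : ∀ w ∈ Q, t * x * t⁻¹ * w = w * (t * x * t⁻¹) ↔ x * w = w * x := by
      intro w hw
      rcases hxc with e | e <;> rw [e]
      constructor
      · intro h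
        have := congrArg (· * z) h
        calc x * w = x * w * z * z := (S.mul_z_z _).symm
          _ = x * (w * z) * z := by group
          _ = x * (z * w) * z := by rw [S.Q_comm_z hw]
          _ = x * z * w * z := by group
          _ = w * (x * z) * z := this
          _ = w * x * (z * z) := by group
          _ = w * x := by rw [S.zz, mul_one]
      · intro h
        calc x * z * w = x * (z * w) := mul_assoc _ _ _
          _ = x * w * z := by rw [← S.Q_comm_z hw, mul_assoc]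
          _ = w * x * z := by rw [h]
          _ = _ := mul_assoc _ _ _
    constructor
    · rw [← hiff b hb.1]
      constructor
      · intro h; rw [hbdef]; exact conj_comm t h
      · intro h; rw [hbdef] at h; rw [← conj_mul', ← conj_mul'] at h; exact conj_inj' h
    · rw [← hiff d hd.1]
      constructor
      · intro h; rw [hddef]; exact conj_comm t h
      · intro h; rw [hddef] at h; rw [← conj_mul', ← conj_mul'] at h; exact conj_inj' h
  have hzne : ∀ w : G, w * z ≠ w := fun w h => S.ne_mul_z w h.symm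
  have hfixset : ∀ x ∈ Q, t * x = x * t ↔ x = 1 ∨ x = z ∨ x = p ∨ x = p * z := by
    intro x hx
    rw [← conj_eq_iff_comm]
    constructor
    · intro h
      obtain ⟨h1, h2⟩ := hsym x hx (Or.inl h)
      have := S.span_eight ha hb hc hd hab hac had hbc hbd hcd hx h1 h2
      simp only [Set.mem_insert_iff, Set.mem_singleton_iff] at this
      rcases this with e | e | e | e | e | e | e | e
      · tauto
      · tauto
      · rw [e, k1] at h; exact absurd h (hzne _)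
      · rw [e, kmz, k1] at h; exact absurd h (hzne _)
      · rw [e, k2] at h; exact absurd h (hzne _)
      · rw [e, kmz, k2] at h; exact absurd h (hzne _)
      · tauto
      · tauto
    · rintro (rfl | rfl | rfl | rfl)
      · simp
      · exact kz
      · exact kp
      · rw [kmz, kp]
  have hcardC : Nat.card ↥(Q ⊓ Subgroup.centralizer ({t} : Set G)) = 4 := by
    have hset : ((Q ⊓ Subgroup.centralizer ({t} : Set G) : Subgroup G) : Set G) =
        {1, z, p, p * z} := by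
      ext x
      simp only [SetLike.mem_coe, Subgroup.mem_inf, mem_cent, Set.mem_insert_iff,
        Set.mem_singleton_iff]
      constructor
      · rintro ⟨hx, h⟩; exact (hfixset x hx).1 h.symm
      · intro h
        have hx : x ∈ Q := by
          rcases h with rfl | rfl | rfl | rfl
          exacts [Q.one_mem, S.zQ, hp.1, Q.mul_mem hp.1 S.zQ]
        exact ⟨hx, ((hfixset x hx).2 h).symm⟩
    show Nat.card ((Q ⊓ Subgroup.centralizer ({t} : Set G) : Subgroup G) : Set G) = 4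
    have n1 := (S.nci_mul_z hp).2.2.1
    have n2 := (S.nci_mul_z hp).2.2.2
    rw [hset, Nat.card_coe_set_eq, Set.ncard_insert_of_notMem
      (by simp [Ne.symm S.zne, Ne.symm hp.2.2.1, Ne.symm n1]),
      Set.ncard_insert_of_notMem (by simp [Ne.symm hp.2.2.2, Ne.symm n2]),
      Set.ncard_pair (S.ne_mul_z p)]
  have horb := card_conj_orbit Q t
  rw [hcardC, S.card] at horb
  have h8 : Nat.card {y // ∃ g ∈ Q, g * t * g⁻¹ = y} = 8 := by omega
  refine ⟨p, hp, hfixset, ?_, h8, ?_⟩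
  · rw [S.pt_fix_iff ht.1 hp]
    exact Or.inl kp
  · intro y hy hyQ
    let O : Set G := {y | ∃ g ∈ Q, g * t * g⁻¹ = y}
    let I : Set G := {y | y * y = 1 ∧ t⁻¹ * y ∈ Q}
    have hOI : O ⊆ I := by
      rintro _ ⟨g, hg, rfl⟩
      refine ⟨conj_sq g ht.2.1, ?_⟩
      rw [show t⁻¹ * (g * t * g⁻¹) = t⁻¹ * g * t * g⁻¹ by group]
      refine Q.mul_mem ?_ (Q.inv_mem hg)
      have := S.conj_mem_Q (S.H_inv ht.1) hg
      rwa [inv_inv] at this
    have hI8 : I.ncard ≤ 8 := by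
      have hsub : I ⊆ (fun x => t * x) ''
          ({1, z, a * b, a * b * z, c * d, c * d * z, p, p * z} : Set G) := by
        rintro y ⟨hy, hyQ⟩
        refine ⟨t⁻¹ * y, ?_, by simp⟩
        set x := t⁻¹ * y
        have hy' : y = t * x := by simp [x]
        have hx : t * x * t⁻¹ = x⁻¹ := by
          rw [hy'] at hy
          rw [hti, eq_inv_iff_mul_eq_one]
          calc t * x * t * x = t * x * (t * x) := by group
            _ = 1 := hy
        have hx' : t * x * t⁻¹ = x ∨ t * x * t⁻¹ = x * z := by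
          rw [hx]
          rcases S.sq x hyQ with e | e
          · exact Or.inl (inv_of_sq e)
          · right
            rw [inv_eq_iff_mul_eq_one, ← mul_assoc, e, S.zz]
        obtain ⟨h1, h2⟩ := hsym x hyQ hx'
        exact S.span_eight ha hb hc hd hab hac had hbc hbd hcd hyQ h1 h2
      refine (Set.ncard_le_ncard hsub).trans ((Set.ncard_image_le).trans ?_)
      have hl : ({1, z, a * b, a * b * z, c * d, c * d * z, p, p * z} : Set G) =
          ↑([1, z, a * b, a * b * z, c * d, c * d * z, p, p * z].toFinset) := by simp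
      rw [hl, Set.ncard_coe_finset]
      exact (List.toFinset_card_le _).trans le_rfl
    have hO8 : O.ncard = 8 := h8 ▸ (Nat.card_coe_set_eq O).symm
    have hOeq := Set.eq_of_subset_of_ncard_le hOI (by rw [hO8]; exact hI8)
    have : y ∈ O := hOeq ▸ ⟨hy, hyQ⟩
    exact this

/-- Outer involutions are conjugate in `H`. -/
theorem outer_conj {t t' : G} (ht : Outer z Q t) (ht' : Outer z Q t') :
    ∃ h, h * z = z * h ∧ h * t * h⁻¹ = t' := by
  obtain ⟨g, hg⟩ := invol_conj _ _ (S.outer_psi ht).1 (S.outer_psi ht).2 (S.outer_psi ht').1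
    (S.outer_psi ht').2
  obtain ⟨h, hh, rfl⟩ := S.psi_surj g
  have hin : Outer z Q (h * t * h⁻¹) := by
    refine ⟨S.H_mul (S.H_mul hh ht.1) (S.H_inv hh), conj_sq h ht.2.1, fun e => ?_⟩
    rw [← S.psi_eq_one (S.H_mul (S.H_mul hh ht.1) (S.H_inv hh)), S.psi_conj hh ht.1, hg] at e
    exact (S.outer_psi ht').2 e
  obtain ⟨-, -, -, -, -, hall⟩ := S.outer_data hin
  obtain ⟨q, hq, hqt⟩ := hall t' ht'.2.1 (by
    rw [← S.psi_eq_one (S.H_mul (S.H_inv hin.1) ht'.1), S.psi_mul (S.H_inv hin.1) ht'.1,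
      S.psi_inv hin.1, S.psi_conj hh ht.1, hg, inv_mul_cancel])
  exact ⟨q * h, S.H_mul (S.Q_comm_z hq) hh, by rw [← conj_conj]; exact hqt⟩

theorem card_outer {t : G} (ht : Outer z Q t) : Nat.card {y // Outer z Q y} = 120 := by
  classical
  haveI := Fintype.ofFinite G
  let T : Finset G := Finset.univ.filter fun y => Outer z Q y
  have hT : Nat.card {y // Outer z Q y} = T.card := by
    rw [Nat.card_eq_fintype_card, Fintype.card_subtype]
  rw [hT, Finset.card_eq_sum_card_fiberwise (f := psi φ)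
    (t := Finset.univ.filter fun σ : A5 => σ * σ = 1 ∧ σ ≠ 1) (fun y hy => by
      simp only [T, Finset.coe_filter, Finset.mem_univ, true_and, Set.mem_setOf_eq] at hy ⊢
      exact S.outer_psi hy), Finset.sum_const_nat (m := 8), card_invol]
  intro σ hσ
  simp only [Finset.mem_filter, Finset.mem_univ, true_and] at hσ
  obtain ⟨g, hg⟩ := invol_conj _ σ (S.outer_psi ht).1 (S.outer_psi ht).2 hσ.1 hσ.2
  obtain ⟨h, hh, rfl⟩ := S.psi_surj g
  have hH : h * t * h⁻¹ * z = z * (h * t * h⁻¹) := S.H_mul (S.H_mul hh ht.1) (S.H_inv hh)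
  have hin : Outer z Q (h * t * h⁻¹) := by
    refine ⟨hH, conj_sq h ht.2.1, fun e => hσ.2 ?_⟩
    rw [← hg, ← S.psi_conj hh ht.1, (S.psi_eq_one hH).2 e]
  obtain ⟨-, -, -, -, h8, hall⟩ := S.outer_data hin
  rw [← h8, Nat.card_eq_fintype_card, Fintype.card_subtype]
  congr 1
  ext y
  simp only [T, Finset.mem_filter, Finset.mem_univ, true_and]
  constructor
  · rintro ⟨hy, hyσ⟩
    apply hall y hy.2.1
    rw [← S.psi_eq_one (S.H_mul (S.H_inv hH) hy.1), S.psi_mul (S.H_inv hH) hy.1, S.psi_inv hH,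
      S.psi_conj hh ht.1, hg, hyσ, inv_mul_cancel]
  · rintro ⟨q, hq, rfl⟩
    have hqH := S.Q_comm_z hq
    have hH' := S.H_mul (S.H_mul hqH hH) (S.H_inv hqH)
    have hψ : psi φ (q * (h * t * h⁻¹) * q⁻¹) = σ := by
      rw [S.psi_conj hqH hH, (S.psi_eq_one hqH).2 hq, S.psi_conj hh ht.1, hg]
      simp
    refine ⟨⟨hH', conj_sq q hin.2.1, fun e => hσ.2 ?_⟩, hψ⟩
    rw [← hψ, (S.psi_eq_one hH').2 e]

theorem card_CH_outer {t : G} (ht : Outer z Q t) :
    Nat.card ↥(Subgroup.centralizer ({z} : Set G) ⊓ Subgroup.centralizer ({t} : Set G)) = 16 := by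
  have h := card_conj_orbit (Subgroup.centralizer ({z} : Set G)) t
  have e : Nat.card {y : G // ∃ g ∈ Subgroup.centralizer ({z} : Set G), g * t * g⁻¹ = y} = 120 := by
    rw [← S.card_outer ht]
    refine Nat.card_congr (Equiv.subtypeEquivRight fun y => ⟨?_, ?_⟩)
    · rintro ⟨g, hg, rfl⟩
      have hg' := mem_cent.1 hg
      refine ⟨S.H_mul (S.H_mul hg' ht.1) (S.H_inv hg'), conj_sq g ht.2.1, fun e => ?_⟩
      apply ht.2.2
      have := S.conj_mem_Q (S.H_inv hg') e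
      rwa [show g⁻¹ * (g * t * g⁻¹) * g⁻¹⁻¹ = t by group] at this
    · intro hy
      obtain ⟨g, hg, hgy⟩ := S.outer_conj ht hy
      exact ⟨g, mem_cent.2 hg, hgy⟩
  rw [e, S.card_H] at h
  omega

open Pointwise in
/-- Every involution is conjugate into `H`. -/
theorem conj_into_H {x : G} (hx : x * x = 1) :
    ∃ g, g * x * g⁻¹ * z = z * (g * x * g⁻¹) := by
  haveI : Fact (Nat.Prime 2) := ⟨Nat.prime_two⟩
  set H := Subgroup.centralizer ({z} : Set G) with hH
  obtain ⟨R⟩ : Nonempty (Sylow 2 ↥H) := inferInstance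
  set R' : Subgroup G := (R : Subgroup ↥H).map H.subtype with hR'
  have hRc : Nat.card R' = 128 := by
    rw [hR', Subgroup.card_map_of_injective (Subgroup.subtype_injective H),
      R.card_eq_multiplicity, S.card_H]
    have : Nat.factorization 1920 2 = 7 := by
      rw [show 1920 = 2 ^ 7 * 15 by norm_num, Nat.factorization_mul (by norm_num) (by norm_num),
        Finsupp.add_apply, Nat.factorization_pow_self Nat.prime_two,
        Nat.factorization_eq_zero_of_not_dvd (by norm_num)]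
    rw [this]; norm_num
  have hRH : R' ≤ H := Subgroup.map_subtype_le _
  have hRp : IsPGroup 2 R' := IsPGroup.of_card (n := 7) (by rw [hRc]; norm_num)
  obtain ⟨P, hRP⟩ := hRp.exists_le_sylow
  -- the maximal 2-subgroups of `H` have order 128
  have hmax : ∀ B : Subgroup G, B ≤ H → IsPGroup 2 B → Nat.card B ≤ 128 := by
    intro B hBH hB
    obtain ⟨n, hn⟩ := IsPGroup.iff_card.1 hB
    have hd := Subgroup.card_dvd_of_le hBH
    rw [hH, S.card_H, hn] at hd
    rw [hn]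
    by_contra hcon
    have h7 : 7 < n := (Nat.pow_lt_pow_iff_right (a := 2) (by norm_num)).1 (by norm_num at hcon ⊢; omega)
    have := (pow_dvd_pow 2 h7).trans hd
    norm_num at this
  have hQR : Q ≤ R' := by
    intro q hq
    have hqH := S.Q_le hq
    haveI hn : (Q.subgroupOf H).Normal := ⟨fun m hm g => by
      rw [Subgroup.mem_subgroupOf] at hm ⊢
      exact S.conj_mem_Q (mem_cent.1 g.2) hm⟩
    have hp : IsPGroup 2 (Q.subgroupOf H) := IsPGroup.of_card (n := 5) (by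
      rw [Nat.card_congr (Subgroup.subgroupOfEquivOfLe (fun x hx => S.Q_le hx)).toEquiv, S.card]
      norm_num)
    refine ⟨⟨q, hqH⟩, ?_, rfl⟩
    exact hp.le_sylow_of_normal R (by exact hq)
  have hPR : (P : Subgroup G) = R' := by
    by_contra hne
    have hlt : R'.subgroupOf (P : Subgroup G) < ⊤ :=
      lt_top_iff_ne_top.2 fun h => hne (le_antisymm (Subgroup.subgroupOf_eq_top.1 h) hRP)
    haveI : Group.IsNilpotent (P : Subgroup G) := P.2.isNilpotent
    obtain ⟨⟨n, hnP⟩, hnN, hnR⟩ := SetLike.exists_of_lt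
      (Group.normalizerCondition_of_isNilpotent (G := (P : Subgroup G)) _ hlt)
    apply hnR
    rw [Subgroup.mem_subgroupOf]
    -- `n` centralises `z`
    have hnz : n * z = z * n := by
      rw [← conj_eq_iff_comm]
      have hconjR : ∀ w ∈ R', n * w * n⁻¹ ∈ R' ∧ n⁻¹ * w * n ∈ R' := by
        intro w hw
        have h1 := (Subgroup.mem_normalizer_iff.1 hnN ⟨w, hRP hw⟩).1
          (Subgroup.mem_subgroupOf.2 hw)
        have h2 := (Subgroup.mem_normalizer_iff.1 (inv_mem hnN) ⟨w, hRP hw⟩).1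
          (Subgroup.mem_subgroupOf.2 hw)
        simp only [Subgroup.mem_subgroupOf, Subgroup.coe_mul, InvMemClass.coe_inv, inv_inv] at h1 h2
        exact ⟨h1, h2⟩
      have hwz : ∀ q ∈ Q, n * z * n⁻¹ * q = q * (n * z * n⁻¹) := by
        intro q hq
        have h1 : z * (n⁻¹ * q * n) = n⁻¹ * q * n * z :=
          (mem_cent.1 (hRH (hconjR q (hQR hq)).2)).symm
        calc n * z * n⁻¹ * q = n * (z * (n⁻¹ * q * n)) * n⁻¹ := by group
          _ = n * (n⁻¹ * q * n * z) * n⁻¹ := by rw [h1]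
          _ = _ := by group
      have hwH : n * z * n⁻¹ * z = z * (n * z * n⁻¹) :=
        mem_cent.1 (hRH (hconjR z (hQR S.zQ)).1)
      have hwQ := S.self _ hwH hwz
      rcases S.center _ hwQ hwz with h | h
      · exact absurd h (conj_ne_one n S.zne)
      · exact h
    have hB : Nat.card ↥((P : Subgroup G) ⊓ H) ≤ 128 :=
      hmax _ inf_le_right (P.2.to_le inf_le_left)
    have heq := Subgroup.eq_of_le_of_card_ge (le_inf hRP hRH) (by rw [hRc]; exact hB)
    rw [heq]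
    exact ⟨hnP, mem_cent.2 hnz⟩
  have hp : IsPGroup 2 (Subgroup.zpowers x) := by
    intro y
    refine ⟨1, ?_⟩
    obtain ⟨y, hy⟩ := y
    obtain ⟨k, rfl⟩ := Subgroup.mem_zpowers_iff.1 hy
    apply Subtype.ext
    show (x ^ k) ^ (2 ^ 1) = 1
    rw [pow_one, pow_two, ← _root_.zpow_add, ← two_mul, _root_.zpow_mul, zpow_two, hx, one_zpow]
  obtain ⟨P', hxP⟩ := hp.exists_le_sylow
  obtain ⟨g, rfl⟩ := MulAction.exists_smul_eq G P' P
  refine ⟨g, mem_cent.1 (hRH ?_)⟩
  rw [← hPR]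
  have hm : MulAut.conj g • x ∈ MulAut.conj g • (P' : Subgroup G) :=
    Subgroup.smul_mem_pointwise_smul _ _ _ (hxP (Subgroup.mem_zpowers x))
  exact hm

theorem nci_conj_z {u : G} (hu : Nci z Q u) : ∃ g, g * z * g⁻¹ = u := by
  obtain ⟨g, hg⟩ := S.exists_nci
  obtain ⟨h, -, hhu⟩ := S.nci_trans hg hu
  exact ⟨h * g, by rw [← conj_conj]; exact hhu⟩

theorem inQ_conj_z {y : G} (hy : y ∈ Q) (h2 : y * y = 1) (h1 : y ≠ 1) :
    ∃ g, g * z * g⁻¹ = y := by
  by_cases h : y = z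
  · exact ⟨1, by simp [h]⟩
  · exact S.nci_conj_z ⟨hy, h2, h1, h⟩

theorem exists_outer : ∃ t, Outer z Q t ∧ ∀ g, g * z * g⁻¹ ≠ t := by
  obtain ⟨x, hx, hx1, hxz⟩ := S.two
  obtain ⟨g, hg⟩ := S.conj_into_H hx
  have hnot : ∀ k, k * z * k⁻¹ ≠ g * x * g⁻¹ := fun k hk => hxz (g⁻¹ * k) (by
    rw [← conj_conj, hk]; group)
  refine ⟨g * x * g⁻¹, ⟨hg, conj_sq g hx, fun e => ?_⟩, hnot⟩
  obtain ⟨k, hk⟩ := S.inQ_conj_z e (conj_sq g hx) (conj_ne_one g hx1)
  exact hnot k hk

theorem outer_not_conj {t : G} (ht : Outer z Q t) (g : G) : g * z * g⁻¹ ≠ t := by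
  intro hg
  obtain ⟨t₀, ht₀, hn⟩ := S.exists_outer
  obtain ⟨h, -, hh⟩ := S.outer_conj ht ht₀
  exact hn (h * g) (by rw [← conj_conj, hg, hh])

/-- An involution of `H` conjugate to `z` lies in `Q`. -/
theorem conj_z_inQ {y : G} (hy : y * z = z * y) (h : ∃ g, g * z * g⁻¹ = y) : y ∈ Q := by
  by_contra hn
  obtain ⟨g, rfl⟩ := h
  exact S.outer_not_conj ⟨hy, conj_sq g S.zz, hn⟩ g rfl

/-- There are only two classes of involutions. -/
theorem two_classes {t : G} (ht : Outer z Q t) {x : G} (hx : x * x = 1) (hx1 : x ≠ 1) :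
    (∃ g, g * z * g⁻¹ = x) ∨ ∃ g, g * t * g⁻¹ = x := by
  obtain ⟨g, hg⟩ := S.conj_into_H hx
  by_cases h : g * x * g⁻¹ ∈ Q
  · obtain ⟨k, hk⟩ := S.inQ_conj_z h (conj_sq g hx) (conj_ne_one g hx1)
    exact Or.inl ⟨g⁻¹ * k, by rw [← conj_conj, hk]; group⟩
  · obtain ⟨k, -, hk⟩ := S.outer_conj ht ⟨hg, conj_sq g hx, h⟩
    exact Or.inr ⟨g⁻¹ * k, by rw [← conj_conj, hk]; group⟩

end Setup

end Cfsg.Agent.HJ
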