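import Mathlib

/-!
Involutions in the quotient by a central subgroup of odd order, and a group of order
`2` or `4` normal among involutions with small centralisers.
-/

set_option autoImplicit false

namespace Cfsg.Agent.HJ

variable {M : Type*} [Group M] [Finite M] (X : Subgroup M) [X.Normal]

theorem sq_eq_one_of_odd (hX : Odd (Nat.card X)) {w : M} (hw : w ∈ X) (h : w * w = 1) : w = 1 := by
  obtain ⟨j, hj⟩ := hX
  have h1 : (⟨w, hw⟩ : X) ^ Nat.card X = 1 := pow_card_eq_one'
  have h2 : w ^ Nat.card X = 1 := congrArg Subtype.val h1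
  rwa [hj, pow_add, pow_mul, pow_two, h, one_pow, one_mul, pow_one] at h2

theorem lift_invol (hX : Odd (Nat.card X)) {q : M ⧸ X} (hq : q * q = 1) (hq1 : q ≠ 1) :
    ∃ t : M, t * t = 1 ∧ t ≠ 1 ∧ QuotientGroup.mk' X t = q := by
  obtain ⟨g, rfl⟩ := QuotientGroup.mk'_surjective X q
  have hgg : g * g ∈ X := (QuotientGroup.eq_one_iff _).1 (by
    show QuotientGroup.mk' X (g * g) = 1
    rw [map_mul, hq])
  have h1 : (⟨g * g, hgg⟩ : X) ^ Nat.card X = 1 := pow_card_eq_one'
  have h2 : (g * g) ^ Nat.card X = 1 := congrArg Subtype.val h1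
  have hmk : QuotientGroup.mk' X (g ^ Nat.card X) = QuotientGroup.mk' X g := by
    obtain ⟨j, hj⟩ := hX
    rw [map_pow, hj, pow_add, pow_mul, pow_two, hq, one_pow, one_mul, pow_one]
  refine ⟨g ^ Nat.card X, ?_, fun h => hq1 ?_, hmk⟩
  · rw [← (Commute.refl g).mul_pow, h2]
  · rw [← hmk, h, map_one]

/-- The centraliser of an involution of the quotient is covered. -/
theorem card_cent_quot (hX : Odd (Nat.card X)) (hc : ∀ w ∈ X, ∀ g : M, w * g = g * w) {t : M}
    (ht : t * t = 1) :
    Nat.card X * Nat.card (Subgroup.centralizer ({QuotientGroup.mk' X t} : Set (M ⧸ X))) =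
      Nat.card (Subgroup.centralizer ({t} : Set M)) := by
  have h : (Subgroup.centralizer ({QuotientGroup.mk' X t} : Set (M ⧸ X))).comap (QuotientGroup.mk' X) =
      Subgroup.centralizer ({t} : Set M) := by
    ext g
    rw [Subgroup.mem_comap, Subgroup.mem_centralizer_singleton_iff,
      Subgroup.mem_centralizer_singleton_iff, ← map_mul, ← map_mul]
    refine ⟨fun he => ?_, fun he => by rw [he]⟩
    have hw : (t * g)⁻¹ * (g * t) ∈ X := QuotientGroup.eq.1 he.symm
    obtain ⟨w, hwdef⟩ : ∃ w, w = (t * g)⁻¹ * (g * t) := ⟨_, rfl⟩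
    rw [← hwdef] at hw
    have htg : g * t = t * g * w := by rw [hwdef]; group
    have hgt : g * t * g⁻¹ = t * w := by
      rw [htg, mul_assoc t g w, ← hc w hw g]; group
    have hw2 : w * w = 1 := by
      have h2 : g * t * g⁻¹ * (g * t * g⁻¹) = 1 := by
        calc g * t * g⁻¹ * (g * t * g⁻¹) = g * (t * t) * g⁻¹ := by group
          _ = 1 := by rw [ht]; group
      rw [hgt] at h2
      calc w * w = (t * t) * (w * w) := by rw [ht, one_mul]
        _ = t * (t * w) * w := by group
        _ = t * (w * t) * w := by rw [← hc w hw t]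
        _ = t * w * (t * w) := by group
        _ = 1 := h2
    rw [htg, sq_eq_one_of_odd X hX hw hw2, mul_one]
  have hsurj := QuotientGroup.mk'_surjective X
  rw [← h]
  set C := Subgroup.centralizer ({QuotientGroup.mk' X t} : Set (M ⧸ X))
  have h1 := (X.subgroupOf (C.comap (QuotientGroup.mk' X))).card_mul_index
  have hle : X ≤ C.comap (QuotientGroup.mk' X) := fun w hw => by
    rw [Subgroup.mem_comap, show QuotientGroup.mk' X w = 1 from (QuotientGroup.eq_one_iff w).2 hw]
    exact C.one_mem
  rw [Nat.card_congr (Subgroup.subgroupOfEquivOfLe hle).toEquiv] at h1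
  rw [← h1]
  congr 1
  show _ = X.relIndex (C.comap (QuotientGroup.mk' X))
  have h2 := Subgroup.relIndex_comap (f := QuotientGroup.mk' X) (⊥ : Subgroup (M ⧸ X))
    (C.comap (QuotientGroup.mk' X))
  rw [MonoidHom.comap_bot, QuotientGroup.ker_mk', Subgroup.map_comap_eq_self_of_surjective hsurj,
    Subgroup.relIndex_bot_left] at h2
  exact h2.symm

end Cfsg.Agent.HJ
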