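import Cfsg.Agent.Lib.HJ.Main
import Cfsg.Agent.Lib.HJ.QuotCent

/-!
The centralisers of elements of order three and five which centralise an outer involution.
-/

set_option autoImplicit false
set_option linter.style.haveILetI false

namespace Cfsg.Agent.HJ

theorem A5_cent_three : ∀ σ : A5, σ ^ 3 = 1 → σ ≠ 1 →
    (Finset.univ.filter fun τ : A5 => τ * σ = σ * τ).card = 3 := by decide +kernel

theorem A5_cent_five : ∀ σ : A5, σ ^ 5 = 1 → σ ≠ 1 →
    (Finset.univ.filter fun τ : A5 => τ * σ = σ * τ).card = 5 := by decide +kernel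

variable {G : Type*} [Group G] [Finite G]

/-- All the data. -/
structure Ctx (z : G) (Q : Subgroup G) (φ : ↥(Subgroup.centralizer ({z} : Set G)) →* A5)
    (u a x s : G) (K V : Subgroup G) : Prop where
  S : Setup z Q φ
  L : Loc z Q u a x s
  D : CentData z Q u a x s K V
  iso : Nonempty (K ≃* A5)
  xK : ∀ k ∈ K, x * k = k * x

variable {z : G} {Q : Subgroup G} {φ : ↥(Subgroup.centralizer ({z} : Set G)) →* A5}
  {u a x s : G} {K V : Subgroup G}

theorem Setup.exists_ctx (S : Setup z Q φ) : ∃ u a x s K V, Ctx z Q φ u a x s K V := by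
  obtain ⟨u, a, x, s, K, V, L, D, h, hx, -⟩ := S.exists_main
  exact ⟨u, a, x, s, K, V, S, L, D, h, hx⟩

theorem Setup.card_G (S : Setup z Q φ) : Nat.card G = 604800 := by
  obtain ⟨u, a, x, s, K, V, -, -, -, -, h⟩ := S.exists_main
  exact h

namespace Ctx

variable (C : Ctx z Q φ u a x s K V)
include C

omit [Finite G] in
theorem s_ne : s ≠ 1 := fun e => C.L.hs.2.2 (by rw [e]; exact Q.one_mem)

omit [Finite G] in
theorem xs' : x * s * x⁻¹ ∈ V := (C.D.hV _).2 (Or.inr (Or.inr (Or.inl rfl)))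

theorem card_cent_K {p : ℕ} (hp : p = 3 ∨ p = 5) {y : G} (hy : y ∈ K) (hyp : y ^ p = 1) (hy1 : y ≠ 1) :
    Nat.card ↥(K ⊓ Subgroup.centralizer ({y} : Set G)) = p := by
  classical
  obtain ⟨ε⟩ := C.iso
  have h1 : ε ⟨y, hy⟩ ≠ 1 := fun h =>
    hy1 (congrArg Subtype.val (ε.injective (h.trans (map_one ε).symm)))
  have hpow : ε ⟨y, hy⟩ ^ p = 1 := by
    rw [← map_pow, ← map_one ε]; exact congrArg ε (Subtype.ext hyp)
  have hc : Nat.card ↥(K ⊓ Subgroup.centralizer ({y} : Set G)) =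
      (Finset.univ.filter fun τ : A5 => τ * ε ⟨y, hy⟩ = ε ⟨y, hy⟩ * τ).card := by
    rw [← Fintype.card_subtype, ← Nat.card_eq_fintype_card]
    refine Nat.card_congr
      { toFun := fun k => ⟨ε ⟨k, k.2.1⟩, ?_⟩
        invFun := fun τ => ⟨(ε.symm τ.1 : K), ⟨(ε.symm τ.1).2, mem_cent.2 ?_⟩⟩
        left_inv := fun k => by simp
        right_inv := fun τ => by simp }
    · rw [← map_mul, ← map_mul]
      exact congrArg ε (Subtype.ext (mem_cent.1 k.2.2))
    · have h := congrArg (fun w => ((ε.symm w : K) : G)) τ.2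
      simpa using h
  rw [hc]
  rcases hp with rfl | rfl
  · exact A5_cent_three _ hpow h1
  · exact A5_cent_five _ hpow h1

omit [Finite G] in
theorem mem_K_of_comm {p : ℕ} (hp : Odd p) {y : G} (hys : y * s = s * y) (hyp : y ^ p = 1) : y ∈ K := by
  obtain ⟨k, hk, v, hv, rfl⟩ := C.D.decomp y hys
  rw [(show Commute k v from C.D.comm k hk v hv).mul_pow] at hyp
  have hvp := (C.D.unique (K.pow_mem hk p) K.one_mem (V.pow_mem hv p) V.one_mem
    (hyp.trans (one_mul 1).symm)).2
  obtain ⟨j, rfl⟩ := hp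
  rw [pow_add, pow_mul, pow_two, (C.D.vdata C.S C.L hv).1.1, one_pow, one_mul, pow_one] at hvp
  rwa [hvp, mul_one]

theorem card_cent_s {p : ℕ} (hp : p = 3 ∨ p = 5) {y : G} (hys : y * s = s * y) (hyp : y ^ p = 1)
    (hy1 : y ≠ 1) :
    Nat.card ↥(Subgroup.centralizer ({s} : Set G) ⊓ Subgroup.centralizer ({y} : Set G)) = 4 * p := by
  have hy := C.mem_K_of_comm (by rcases hp with rfl | rfl <;> decide) hys hyp
  have hf : Function.Bijective (fun r : ↥(K ⊓ Subgroup.centralizer ({y} : Set G)) × V =>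
      (⟨(r.1 : G) * r.2, mem_cent.2 (C.D.mem_C C.S C.L r.1.2.1 r.2.2),
        mem_cent.2 (Commute.mul_left (mem_cent.1 r.1.2.2) (C.D.comm y hy r.2 r.2.2).symm)⟩ :
        ↥(Subgroup.centralizer ({s} : Set G) ⊓ Subgroup.centralizer ({y} : Set G)))) := by
    constructor
    · rintro ⟨⟨k, hk⟩, ⟨v, hv⟩⟩ ⟨⟨k', hk'⟩, ⟨v', hv'⟩⟩ h
      obtain ⟨rfl, rfl⟩ := C.D.unique hk.1 hk'.1 hv hv' (congrArg Subtype.val h)
      rfl
    · rintro ⟨c, hcs, hcy⟩
      obtain ⟨k, hk, v, hv, rfl⟩ := C.D.decomp c (mem_cent.1 hcs)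
      refine ⟨(⟨k, hk, mem_cent.2 ?_⟩, ⟨v, hv⟩), rfl⟩
      have h : Commute (k * v * v⁻¹) y :=
        Commute.mul_left (mem_cent.1 hcy) (show Commute v y from (C.D.comm y hy v hv).symm).inv_left
      rw [mul_inv_cancel_right] at h
      exact h
  rw [← Nat.card_congr (Equiv.ofBijective _ hf), Nat.card_prod, C.card_cent_K hp hy hyp hy1]
  have h := C.D.card_C C.S C.L
  have hK : Nat.card K = 60 := by
    obtain ⟨ε⟩ := C.iso
    rw [Nat.card_congr ε.toEquiv, card_A5]
  have hV : Nat.card V = 4 := by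
    have hf : Function.Bijective (fun r : K × V =>
        (⟨(r.1 : G) * r.2, mem_cent.2 (C.D.mem_C C.S C.L r.1.2 r.2.2)⟩ :
          ↥(Subgroup.centralizer ({s} : Set G)))) := by
      constructor
      · rintro ⟨⟨k, hk⟩, ⟨v, hv⟩⟩ ⟨⟨k', hk'⟩, ⟨v', hv'⟩⟩ h
        obtain ⟨rfl, rfl⟩ := C.D.unique hk hk' hv hv' (congrArg Subtype.val h)
        rfl
      · rintro ⟨c, hcs⟩
        obtain ⟨k, hk, v, hv, rfl⟩ := C.D.decomp c (mem_cent.1 hcs)
        exact ⟨(⟨k, hk⟩, ⟨v, hv⟩), rfl⟩
    rw [← Nat.card_congr (Equiv.ofBijective _ hf), Nat.card_prod, hK] at h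
    omega
  rw [hV, mul_comm]

/-- The centraliser of an element all of whose centralising involutions are outer. -/
theorem small_cent {p : ℕ} (hp : p = 3 ∨ p = 5) {y : G} (hy : y ∈ K) (hyp : y ^ p = 1) (hy1 : y ≠ 1)
    (hall : ∀ t : G, t * y = y * t → t * t = 1 → t ≠ 1 → ∃ g, g * s * g⁻¹ = t) :
    Nat.card (Subgroup.centralizer ({y} : Set G)) = 12 * p ∨
      Nat.card (Subgroup.centralizer ({y} : Set G)) = 60 * p := by
  classical
  have hpp : p.Prime := by rcases hp with rfl | rfl <;> norm_num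
  haveI : Fact p.Prime := ⟨hpp⟩
  have hpodd : Odd p := by rcases hp with rfl | rfl <;> decide
  set M := Subgroup.centralizer ({y} : Set G) with hM
  let yM : M := ⟨y, mem_cent.2 rfl⟩
  let X := Subgroup.zpowers yM
  have hcy : ∀ g : M, Commute g yM := fun g => Subtype.ext (mem_cent.1 g.2)
  have hcen : ∀ w ∈ X, ∀ g : M, w * g = g * w := by
    intro w hw g
    obtain ⟨n, rfl⟩ := Subgroup.mem_zpowers_iff.1 hw
    exact ((hcy g).zpow_right n).symm.eq
  haveI : X.Normal := ⟨fun w hw g => by rw [← hcen w hw g, mul_inv_cancel_right]; exact hw⟩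
  have hXc : Nat.card X = p := by
    rw [Nat.card_zpowers]
    exact orderOf_eq_prime (Subtype.ext hyp) fun h => hy1 (congrArg Subtype.val h)
  have hXodd : Odd (Nat.card X) := hXc ▸ hpodd
  let π := QuotientGroup.mk' X
  have hcent : ∀ t : M, t * t = 1 → t ≠ 1 →
      Nat.card (Subgroup.centralizer ({π t} : Set (M ⧸ X))) = 4 := by
    intro t ht ht1
    have h := card_cent_quot X hXodd hcen ht
    have e : Nat.card (Subgroup.centralizer ({t} : Set M)) =
        Nat.card ↥(Subgroup.centralizer ({(t : G)} : Set G) ⊓ M) := Nat.card_congr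
      { toFun := fun g => ⟨g.1, mem_cent.2 (congrArg Subtype.val (mem_cent.1 g.2)), g.1.2⟩
        invFun := fun g => ⟨⟨g.1, g.2.2⟩, mem_cent.2 (Subtype.ext (mem_cent.1 g.2.1))⟩
        left_inv := fun g => rfl
        right_inv := fun g => rfl }
    obtain ⟨g, hg⟩ := hall t (mem_cent.1 t.2) (congrArg Subtype.val ht) fun h => ht1 (Subtype.ext h)
    have hy' : g⁻¹ * y * g * s = s * (g⁻¹ * y * g) := by
      have h1 : y * (g * s * g⁻¹) = g * s * g⁻¹ * y := by rw [hg]; exact (mem_cent.1 t.2).symm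
      calc g⁻¹ * y * g * s = g⁻¹ * (y * (g * s * g⁻¹)) * g := by group
        _ = _ := by rw [h1]; group
    have h4 := C.card_cent_s hp hy' (by
        have := conj_pow (a := g⁻¹) (b := y) (i := p)
        rw [inv_inv] at this
        rw [this, hyp]; group)
      (fun h => hy1 (by
        calc y = g * (g⁻¹ * y * g) * g⁻¹ := by group
          _ = 1 := by rw [h]; group))
    have e2 : Nat.card ↥(Subgroup.centralizer ({s} : Set G) ⊓ Subgroup.centralizer ({g⁻¹ * y * g} : Set G)) =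
        Nat.card ↥(Subgroup.centralizer ({(t : G)} : Set G) ⊓ M) := Nat.card_congr
      { toFun := fun c => ⟨g * c.1 * g⁻¹, mem_cent.2 (by
            rw [← hg]; exact conj_comm g (mem_cent.1 c.2.1)), mem_cent.2 (by
            have := conj_comm g (mem_cent.1 c.2.2)
            rwa [show g * (g⁻¹ * y * g) * g⁻¹ = y by group] at this)⟩
        invFun := fun c => ⟨g⁻¹ * c.1 * g, mem_cent.2 (by
            have h1 : c.1 * (g * s * g⁻¹) = g * s * g⁻¹ * c.1 := by rw [hg]; exact mem_cent.1 c.2.1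
            calc g⁻¹ * c.1 * g * s = g⁻¹ * (c.1 * (g * s * g⁻¹)) * g := by group
              _ = _ := by rw [h1]; group), mem_cent.2 (by
            calc g⁻¹ * c.1 * g * (g⁻¹ * y * g) = g⁻¹ * (c.1 * y) * g := by group
              _ = _ := by rw [mem_cent.1 c.2.2]; group)⟩
        left_inv := fun c => Subtype.ext (by group)
        right_inv := fun c => Subtype.ext (by group) }
    rw [e, ← e2, h4, hXc, mul_comm 4] at h
    exact Nat.eq_of_mul_eq_mul_left hpp.pos h
  -- the subgroup isomorphic to the alternating group of degree four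
  have sM : s ∈ M := mem_cent.2 (mem_cent.1 (C.D.hK hy)).symm
  have xM : x ∈ M := mem_cent.2 (C.xK y hy)
  obtain ⟨hv2, hvz, hvs⟩ := (C.D.vdata C.S C.L C.xs').1
  have s'M : x * s * x⁻¹ ∈ M := M.mul_mem (M.mul_mem xM sM) (M.inv_mem xM)
  have ne_one : ∀ (v : M), v * v = 1 → v ≠ 1 → π v ≠ 1 := fun v h2 h1 h =>
    h1 (sq_eq_one_of_odd X hXodd ((QuotientGroup.eq_one_iff v).1 h) h2)
  let sT : M := ⟨s, sM⟩
  let xT : M := ⟨x, xM⟩
  have hs2 : sT * sT = 1 := Subtype.ext C.L.hs.2.1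
  have hs1 : sT ≠ 1 := fun h => C.s_ne (congrArg Subtype.val h)
  have hss : sT * (xT * sT * xT⁻¹) * (sT * (xT * sT * xT⁻¹)) = 1 := Subtype.ext C.L.hss.2.1
  have hss1 : sT * (xT * sT * xT⁻¹) ≠ 1 := fun h =>
    C.L.hss.2.2 ((show (s * (x * s * x⁻¹) : G) = 1 from congrArg Subtype.val h) ▸ Q.one_mem)
  have hπss := ne_one _ hss hss1
  have hqs : orderOf (π sT) = 2 := orderOf_eq_two_iff'.2
    ⟨by rw [← map_mul, hs2, map_one], ne_one _ hs2 hs1⟩
  have hC4 := hcent sT hs2 hs1
  have hCe : ∀ c ∈ Subgroup.centralizer ({π sT} : Set (M ⧸ X)), c ^ 2 = 1 := by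
    -- it is the image of the four-group
    let img : Finset (M ⧸ X) := {1, π sT, π (xT * sT * xT⁻¹), π (sT * (xT * sT * xT⁻¹))}
    have hsc : ∀ w ∈ img, w ∈ Subgroup.centralizer ({π sT} : Set (M ⧸ X)) ∧ w ^ 2 = 1 := by
      intro w hw
      simp only [img, Finset.mem_insert, Finset.mem_singleton] at hw
      have e1 : xT * sT * xT⁻¹ * sT = sT * (xT * sT * xT⁻¹) := Subtype.ext C.L.comm.symm
      rcases hw with rfl | rfl | rfl | rfl
      · exact ⟨Subgroup.one_mem _, one_pow 2⟩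
      · exact ⟨mem_cent.2 rfl, by rw [← map_pow, pow_two, hs2, map_one]⟩
      · refine ⟨mem_cent.2 ?_, ?_⟩
        · rw [← map_mul π, ← map_mul π, e1]
        · rw [← map_pow, pow_two, conj_sq xT hs2, map_one]
      · refine ⟨mem_cent.2 ?_, ?_⟩
        · rw [← map_mul π, ← map_mul π, mul_assoc, e1]
        · rw [← map_pow, pow_two, hss, map_one]
    have hne' : π (xT * sT * xT⁻¹) ≠ π sT := fun h => hπss (by
      rw [map_mul, h, ← map_mul, hs2, map_one])
    have hcard : img.card = 4 := by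
      have n1 : π sT ≠ 1 := ne_one _ hs2 hs1
      have n2 : π (xT * sT * xT⁻¹) ≠ 1 := ne_one _ (conj_sq xT hs2) (conj_ne_one xT hs1)
      have n3 : π sT ≠ π (sT * (xT * sT * xT⁻¹)) := fun h => n2 (by
        rw [map_mul _ sT] at h; exact mul_left_cancel (h.symm.trans (mul_one _).symm))
      have n4 : π (xT * sT * xT⁻¹) ≠ π (sT * (xT * sT * xT⁻¹)) := fun h => n1 (by
        rw [map_mul _ sT] at h; exact mul_right_cancel (h.symm.trans (one_mul _).symm))
      rw [Finset.card_insert_of_notMem (by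
        simp only [Finset.mem_insert, Finset.mem_singleton, not_or]
        exact ⟨Ne.symm n1, Ne.symm n2, Ne.symm hπss⟩),
        Finset.card_insert_of_notMem (by
        simp only [Finset.mem_insert, Finset.mem_singleton, not_or]
        exact ⟨Ne.symm hne', n3⟩), Finset.card_pair n4]
    intro c hc
    haveI := Fintype.ofFinite (M ⧸ X)
    have heq : img = Finset.univ.filter (· ∈ Subgroup.centralizer ({π sT} : Set (M ⧸ X))) := by
      refine Finset.eq_of_subset_of_card_le (fun w hw => by simp [(hsc w hw).1]) ?_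
      rw [hcard, ← Fintype.card_subtype, ← Nat.card_eq_fintype_card, hC4]
    exact (hsc c (by rw [heq]; simp [hc])).2
  have hx3 : π xT ^ 3 = 1 := by rw [← map_pow, ← map_one π]; exact congrArg π (Subtype.ext C.L.x3)
  have hx1 : π xT ≠ 1 := fun h => hπss (by
    rw [map_mul, map_mul _ _ xT⁻¹, map_mul, map_inv, h, one_mul, inv_one, mul_one, ← map_mul, hs2,
      map_one])
  have hMX : Nat.card M = p * Nat.card (M ⧸ X) := by
    rw [← X.card_mul_index, hXc]; rfl
  by_cases hnorm : ∃ E : Subgroup (M ⧸ X), E.Normal ∧ Cfsg.IsElementaryAbelian 2 E ∧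
      (Nat.card E = 2 ∨ Nat.card E = 4)
  · left
    obtain ⟨E, hEn, hEe, hE⟩ := hnorm
    obtain ⟨e, he1⟩ : ∃ e : E, e ≠ 1 := by
      haveI : Nontrivial E := Finite.one_lt_card_iff_nontrivial.1 (by omega)
      exact exists_ne 1
    have he2 : (e : M ⧸ X) * e = 1 := by
      have h := hEe.2 e e.2
      rwa [pow_two] at h
    obtain ⟨t, ht2, ht1, hte⟩ := lift_invol X hXodd he2 fun h => he1 (Subtype.ext h)
    have he4 : Nat.card (Subgroup.centralizer ({(e : M ⧸ X)} : Set (M ⧸ X))) = 4 := by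
      rw [← hte]; exact hcent t ht2 ht1
    have h := card_conj_orbit (⊤ : Subgroup (M ⧸ X)) (e : M ⧸ X)
    rw [top_inf_eq, Subgroup.card_top, he4] at h
    have horb : Nat.card {w : M ⧸ X // ∃ g ∈ (⊤ : Subgroup (M ⧸ X)), g * e * g⁻¹ = w} ≤ 3 := by
      haveI := Fintype.ofFinite (M ⧸ X)
      rw [Nat.card_eq_fintype_card, Fintype.card_subtype]
      have hsub : (Finset.univ.filter fun w => ∃ g ∈ (⊤ : Subgroup (M ⧸ X)), g * e * g⁻¹ = w) ⊆
          (Finset.univ.filter fun w => w ∈ E).erase 1 := by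
        intro w hw
        simp only [Finset.mem_filter, Finset.mem_univ, true_and] at hw
        obtain ⟨g, -, rfl⟩ := hw
        rw [Finset.mem_erase, Finset.mem_filter]
        exact ⟨conj_ne_one g fun h => he1 (Subtype.ext h), Finset.mem_univ _, hEn.conj_mem _ e.2 g⟩
      refine (Finset.card_le_card hsub).trans ?_
      rw [Finset.card_erase_of_mem (by simp [E.one_mem]), ← Fintype.card_subtype,
        ← Nat.card_eq_fintype_card]
      omega
    have h3 : 3 ∣ Nat.card (M ⧸ X) := by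
      rw [← orderOf_eq_prime (hp := ⟨Nat.prime_three⟩) hx3 hx1]
      exact orderOf_dvd_natCard _
    have hpos : 0 < Nat.card (M ⧸ X) := Nat.card_pos
    have h12 : Nat.card (M ⧸ X) = 12 := by omega
    rw [hMX, h12, mul_comm]
  · right
    push Not at hnorm
    have hnc : ¬ Cfsg.HasNormalPComplement 2 (M ⧸ X) := by
      rintro ⟨R, N, hN, hcompl⟩
      haveI := hN
      have hxN : π xT ∈ N := by
        obtain ⟨k, hk⟩ := IsPGroup.iff_card.1 R.2
        have hidx : N.index = 2 ^ k := by rw [hcompl.symm.index_eq_card, hk]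
        rw [← QuotientGroup.eq_one_iff]
        have hpow : ((π xT : M ⧸ X) : (M ⧸ X) ⧸ N) ^ (2 ^ k) = 1 := by
          rw [← hidx]; exact pow_card_eq_one'
        have h3 : ((π xT : M ⧸ X) : (M ⧸ X) ⧸ N) ^ 3 = 1 := by
          rw [← QuotientGroup.mk_pow, hx3]; rfl
        have := pow_gcd_eq_one.2 ⟨h3, hpow⟩
        rwa [Nat.Coprime.gcd_eq_one ((by norm_num : Nat.Coprime 3 2).pow_right k), pow_one] at this
      have hmem : π (sT * (xT * sT * xT⁻¹)) ∈ N := by
        have := N.mul_mem (hN.conj_mem _ hxN (π sT)) (N.inv_mem hxN)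
        rwa [← map_inv, ← map_inv, ← map_mul, ← map_mul, ← map_mul, inv_of_sq hs2,
          show sT * xT * sT * xT⁻¹ = sT * (xT * sT * xT⁻¹) by group] at this
      have hNodd : ¬ 2 ∣ Nat.card N := by
        intro hd
        haveI : Fact (Nat.Prime 2) := ⟨Nat.prime_two⟩
        have h2 := R.not_dvd_index
        rw [hcompl.index_eq_card] at h2
        exact h2 hd
      refine hNodd ?_
      rw [← orderOf_eq_two_iff'.2 ⟨by rw [← map_mul, hss, map_one], hπss⟩]
      exact Subgroup.orderOf_dvd_natCard N hmem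
    obtain ⟨ι⟩ := Cfsg.Agent.S3277.result (π sT) hqs hC4 hCe hnc
      (fun E hn he => ⟨fun h => (hnorm E hn he).1 h, fun h => (hnorm E hn he).2 h⟩)
    rw [hMX, Nat.card_congr ι.toEquiv, card_A5, mul_comm]

end Ctx

end Cfsg.Agent.HJ
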