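import Cfsg.Agent.Lib.HJ.Three

/-!
The Sylow 3-subgroups and the classes of elements of order three.
-/

set_option autoImplicit false
set_option linter.style.haveILetI false

open scoped Pointwise commutatorElement

namespace Cfsg.Agent.HJ

theorem card_comap_mk {M : Type*} [Group M] [Finite M] (X : Subgroup M) [X.Normal]
    (H : Subgroup (M ⧸ X)) : Nat.card (H.comap (QuotientGroup.mk' X)) = Nat.card X * Nat.card H := by
  have hle : X ≤ H.comap (QuotientGroup.mk' X) := fun w hw => by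
    rw [Subgroup.mem_comap, show QuotientGroup.mk' X w = 1 from (QuotientGroup.eq_one_iff w).2 hw]
    exact H.one_mem
  have h1 := (X.subgroupOf (H.comap (QuotientGroup.mk' X))).card_mul_index
  rw [Nat.card_congr (Subgroup.subgroupOfEquivOfLe hle).toEquiv] at h1
  rw [← h1]
  congr 1
  show X.relIndex (H.comap (QuotientGroup.mk' X)) = _
  have h2 := Subgroup.relIndex_comap (f := QuotientGroup.mk' X) (⊥ : Subgroup (M ⧸ X))
    (H.comap (QuotientGroup.mk' X))
  rw [MonoidHom.comap_bot, QuotientGroup.ker_mk',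
    Subgroup.map_comap_eq_self_of_surjective (QuotientGroup.mk'_surjective X),
    Subgroup.relIndex_bot_left] at h2
  exact h2

theorem A6_normalizer (S : Subgroup A6) (hS : Nat.card S = 9) :
    Nat.card (Subgroup.normalizer (S : Set A6)) = 36 := by
  classical
  haveI : Fact (Nat.Prime 3) := ⟨Nat.prime_three⟩
  set S0 := Subgroup.centralizer ({c6} : Set A6) with hS0
  have hc : Nat.card S0 = 9 := by
    rw [← c6_facts.2, Nat.card_eq_fintype_card, Fintype.card_subtype]
    congr 1
    ext g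
    simp [hS0, mem_cent]
  have h0 : Nat.card (Subgroup.normalizer (S0 : Set A6)) = 36 := by
    rw [← A6_norm_count, Nat.card_eq_fintype_card, Fintype.card_subtype]
    congr 1
    ext g
    simp only [Finset.mem_filter, Finset.mem_univ, true_and]
    constructor
    · intro hg
      exact ⟨mem_cent.1 ((Subgroup.mem_normalizer_iff.1 hg c6).1 (mem_cent.2 rfl)),
        mem_cent.1 ((Subgroup.mem_normalizer_iff.1 hg d6).1 (mem_cent.2 c6_facts.1.symm))⟩
    · rintro ⟨h1, h2⟩
      refine Subgroup.mem_normalizer_iff_map_conj_eq.2 (Subgroup.eq_of_le_of_card_ge ?_ (le_of_eq ?_))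
      · rintro _ ⟨τ, hτ, rfl⟩
        exact mem_cent.2 (A6_norm_closed g h1 h2 τ (mem_cent.1 hτ))
      · exact Nat.card_congr (S0.equivMapOfInjective _ (MulAut.conj g).injective).toEquiv
  have hf : 3 ^ (Nat.card A6).factorization 3 = 9 := by
    rw [card_A6, show (360 : ℕ) = 3 ^ 2 * 40 by norm_num,
      Nat.factorization_mul (by norm_num) (by norm_num), Finsupp.add_apply,
      Nat.factorization_pow_self Nat.prime_three, Nat.factorization_eq_zero_of_not_dvd (by norm_num)]
    norm_num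
  let T : Sylow 3 A6 := Sylow.ofCard S (hS.trans hf.symm)
  let T0 : Sylow 3 A6 := Sylow.ofCard S0 (hc.trans hf.symm)
  obtain ⟨g, hg⟩ := MulAction.exists_smul_eq A6 T0 T
  have he : S = S0.map (MulAut.conj g).toMonoidHom := by
    have h := congrArg (fun P : Sylow 3 A6 => (P : Subgroup A6)) hg
    simp only [Sylow.coe_subgroup_smul] at h
    rw [show (T0 : Subgroup A6) = S0 from Sylow.coe_ofCard _ _,
      show (T : Subgroup A6) = S from Sylow.coe_ofCard _ _] at h
    rw [← h]; rfl
  rw [he, ← Subgroup.map_equiv_normalizer_eq,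
    ← Nat.card_congr (Subgroup.equivMapOfInjective _ _ (MulAut.conj g).injective).toEquiv, h0]

variable {G : Type*} [Group G] [Finite G] {z : G} {Q : Subgroup G}
  {φ : ↥(Subgroup.centralizer ({z} : Set G)) →* A5} {u a x s : G} {K V : Subgroup G}

namespace Ctx

variable (C : Ctx z Q φ u a x s K V)
include C

theorem card_M : Nat.card (Subgroup.centralizer ({x} : Set G)) = 1080 := by
  obtain ⟨hn, ⟨ι⟩⟩ := C.exists_quot
  rw [← (Subgroup.zpowers (⟨x, mem_cent.2 rfl⟩ : Subgroup.centralizer ({x} : Set G))).card_mul_index,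
    Nat.card_zpowers, Subgroup.orderOf_mk, C.orderOf_x]
  show 3 * Nat.card (↥(Subgroup.centralizer ({x} : Set G)) ⧸ _) = 1080
  rw [Nat.card_congr ι.toEquiv, card_A6]

theorem factor_three : (Nat.card G).factorization 3 = 3 := by
  rw [C.S.card_G, show (604800 : ℕ) = 3 ^ 3 * 22400 by norm_num,
    Nat.factorization_mul (by norm_num) (by norm_num),
    Finsupp.add_apply, Nat.factorization_pow_self Nat.prime_three,
    Nat.factorization_eq_zero_of_not_dvd (by norm_num)]

theorem sylow_M (T : Sylow 3 ↥(Subgroup.centralizer ({x} : Set G))) :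
    Nat.card (T : Subgroup ↥(Subgroup.centralizer ({x} : Set G))) = 27 := by
  haveI : Fact (Nat.Prime 3) := ⟨Nat.prime_three⟩
  rw [T.card_eq_multiplicity, C.card_M, show (1080 : ℕ) = 3 ^ 3 * 40 by norm_num,
    Nat.factorization_mul (by norm_num) (by norm_num),
    Finsupp.add_apply, Nat.factorization_pow_self Nat.prime_three,
    Nat.factorization_eq_zero_of_not_dvd (by norm_num)]
  norm_num

/-- In a Sylow 3-subgroup of `C(x)` commutators lie in `⟨x⟩`. -/
theorem comm_mem_X (T : Sylow 3 ↥(Subgroup.centralizer ({x} : Set G)))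
    {p q : ↥(Subgroup.centralizer ({x} : Set G))}
    (hp : p ∈ (T : Subgroup ↥(Subgroup.centralizer ({x} : Set G))))
    (hq : q ∈ (T : Subgroup ↥(Subgroup.centralizer ({x} : Set G)))) :
    p * q * p⁻¹ * q⁻¹ ∈ Subgroup.zpowers (⟨x, mem_cent.2 rfl⟩ : Subgroup.centralizer ({x} : Set G)) := by
  classical
  haveI : Fact (Nat.Prime 3) := ⟨Nat.prime_three⟩
  obtain ⟨hn, ⟨ι⟩⟩ := C.exists_quot
  haveI := hn
  set π := QuotientGroup.mk' (Subgroup.zpowers (⟨x, mem_cent.2 rfl⟩ : Subgroup.centralizer ({x} : Set G))) with hπ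
  set T' := (T : Subgroup ↥(Subgroup.centralizer ({x} : Set G))).map π with hT'
  have h1 : Nat.card T' ∣ 27 := C.sylow_M T ▸ Subgroup.card_map_dvd _ _
  have h2 : Nat.card T' ∣ 360 := by
    rw [← card_A6, ← Nat.card_congr ι.toEquiv]; exact Subgroup.card_subgroup_dvd_card _
  have h9 : Nat.card T' ∣ 3 ^ 2 := (Nat.dvd_gcd h1 h2).trans (by norm_num)
  have hc : IsMulCommutative T' := by
    obtain ⟨k, hk, hk'⟩ := (Nat.dvd_prime_pow Nat.prime_three).1 h9
    interval_cases k
    · haveI : Subsingleton T' := (Nat.card_eq_one_iff_unique.1 (hk'.trans (pow_zero 3))).1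
      exact ⟨⟨fun _ _ => Subsingleton.elim _ _⟩⟩
    · haveI : IsCyclic T' := isCyclic_of_prime_card (hk'.trans (pow_one 3))
      exact ⟨⟨fun a b => (IsCyclic.commutative (α := T')).is_comm.comm a b⟩⟩
    · exact IsPGroup.isMulCommutative_of_card_eq_prime_sq hk'
  refine (QuotientGroup.eq_one_iff _).1 ?_
  show π (p * q * p⁻¹ * q⁻¹) = 1
  have h : π p * π q = π q * π p :=
    congrArg Subtype.val (mul_comm' (⟨π p, p, hp, rfl⟩ : T') ⟨π q, q, hq, rfl⟩)
  rw [map_mul, map_mul, map_mul, map_inv, map_inv, h]; group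

theorem exists_sylow {b : G} (hbx : b * x = x * b) (hb3 : b ^ 3 = 1) :
    ∃ T : Sylow 3 ↥(Subgroup.centralizer ({x} : Set G)),
      (⟨b, mem_cent.2 hbx⟩ : Subgroup.centralizer ({x} : Set G)) ∈
        (T : Subgroup ↥(Subgroup.centralizer ({x} : Set G))) := by
  haveI : Fact (Nat.Prime 3) := ⟨Nat.prime_three⟩
  have hp : IsPGroup 3 (Subgroup.zpowers (⟨b, mem_cent.2 hbx⟩ : Subgroup.centralizer ({x} : Set G))) := by
    rintro ⟨w, hw⟩
    obtain ⟨n, rfl⟩ := Subgroup.mem_zpowers_iff.1 hw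
    refine ⟨1, Subtype.ext (Subtype.ext ?_)⟩
    show (b ^ n) ^ (3 ^ 1) = 1
    rw [pow_one, ← zpow_natCast, ← zpow_mul, mul_comm, zpow_mul, zpow_natCast, hb3, one_zpow]
  obtain ⟨T, hT⟩ := hp.exists_le_sylow
  exact ⟨T, hT (Subgroup.mem_zpowers _)⟩

/-- An element of order three with centraliser of order prime to `27` is conjugate to its
translates by `x`. -/
theorem conj_translate {b : G} (hbx : b * x = x * b) (hb3 : b ^ 3 = 1)
    (h27 : ¬ 27 ∣ Nat.card (Subgroup.centralizer ({b} : Set G))) (i : ℕ) :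
    ∃ g, g * b * g⁻¹ = x ^ i * b := by
  classical
  haveI : Fact (Nat.Prime 3) := ⟨Nat.prime_three⟩
  obtain ⟨T, hbT⟩ := C.exists_sylow hbx hb3
  obtain ⟨p, hpT, hpb⟩ : ∃ p ∈ (T : Subgroup ↥(Subgroup.centralizer ({x} : Set G))),
      (p : G) * b ≠ b * (p : G) := by
    by_contra hno
    push Not at hno
    apply h27
    rw [← C.sylow_M T]
    exact Subgroup.card_dvd_of_injective
      (((Subgroup.centralizer ({x} : Set G)).subtype.comp
        (T : Subgroup ↥(Subgroup.centralizer ({x} : Set G))).subtype).codRestrict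
          (Subgroup.centralizer ({b} : Set G)) fun p => mem_cent.2 (hno p.1 p.2))
      (fun p q e => Subtype.ext (Subtype.ext (Subtype.ext_iff.1 e :)))
  have hd := C.comm_mem_X T hpT hbT
  rw [mem_zpowers_iff_mem_range_orderOf, Subgroup.orderOf_mk, C.orderOf_x, Finset.mem_image] at hd
  obtain ⟨k, hk3, hk⟩ := hd
  rw [Finset.mem_range] at hk3
  have hk' : x ^ k = (p : G) * b * (p : G)⁻¹ * b⁻¹ := congrArg Subtype.val hk
  have hpx : (p : G) * x = x * (p : G) := mem_cent.1 p.2
  have hconj : (p : G) * b * (p : G)⁻¹ = x ^ k * b := by rw [hk']; group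
  have hiter : ∀ n : ℕ, (p : G) ^ n * b * ((p : G) ^ n)⁻¹ = x ^ (k * n) * b := by
    intro n
    induction n with
    | zero => simp
    | succ n ih =>
      rw [pow_succ', ← conj_conj, ih, conj_mul', hconj,
        conj_eq_iff_comm.2 ((show Commute (p : G) x from hpx).pow_right (k * n)).eq,
        ← mul_assoc, ← pow_add, Nat.mul_succ]
  have hkne : k ≠ 0 := by
    rintro rfl
    rw [pow_zero, one_mul] at hconj
    exact hpb (conj_eq_iff_comm.1 hconj)
  obtain ⟨n, hn⟩ : ∃ n, k * n % 3 = i % 3 := by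
    refine ⟨k * i, ?_⟩
    rw [← mul_assoc, Nat.mul_mod]
    have : k * k % 3 = 1 := by
      interval_cases k
      · exact absurd rfl hkne
      · rfl
      · rfl
    rw [this, one_mul, Nat.mod_mod]
  refine ⟨(p : G) ^ n, ?_⟩
  rw [hiter]
  congr 1
  rw [← pow_mod_orderOf, C.orderOf_x, hn, ← C.orderOf_x, pow_mod_orderOf]

theorem not27 {b g : G} (h : g * a * g⁻¹ = b ∨ g * (a * a) * g⁻¹ = b) :
    ¬ 27 ∣ Nat.card (Subgroup.centralizer ({b} : Set G)) := by
  have e : ∀ {r : G}, g * r * g⁻¹ = b →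
      Nat.card (Subgroup.centralizer ({b} : Set G)) = Nat.card (Subgroup.centralizer ({r} : Set G)) := by
    intro r hr
    rw [← hr]
    exact (card_cent_equiv (MulAut.conj g) r).symm
  have ha2 : Nat.card (Subgroup.centralizer ({a * a} : Set G)) =
      Nat.card (Subgroup.centralizer ({a} : Set G)) := by
    congr 1
    have : Subgroup.centralizer ({a * a} : Set G) = Subgroup.centralizer ({a} : Set G) := by
      ext c
      rw [mem_cent, mem_cent]
      refine ⟨fun hc => ?_, fun hc => (show Commute c a from hc).mul_right hc⟩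
      have h4 := (show Commute c (a * a) from hc).mul_right (show Commute c (a * a) from hc)
      have : a * a * (a * a) = a := by
        calc a * a * (a * a) = a * a * a * a := by simp only [mul_assoc]
          _ = a := by rw [← pow_three', C.L.a3, one_mul]
      rw [this] at h4
      exact h4.eq
    rw [this]
  rcases h with h | h
  · rw [e h]
    rcases C.card_cent_a with h' | h' <;> rw [h'] <;> norm_num
  · rw [e h, ha2]
    rcases C.card_cent_a with h' | h' <;> rw [h'] <;> norm_num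

theorem a_inv_conj : ∃ g, g * a * g⁻¹ = a * a := by
  obtain ⟨ε⟩ := C.iso
  obtain ⟨g, hg⟩ := A5_real_three (ε ⟨a, C.D.aK⟩) (by
    rw [← map_pow, ← map_one ε]; exact congrArg ε (Subtype.ext C.L.a3))
  refine ⟨(ε.symm g : K), ?_⟩
  have h := congrArg ε.symm hg
  rw [map_mul, map_mul, map_inv, map_inv, ε.symm_apply_apply] at h
  have h' : ((ε.symm g : K) : G) * a * ((ε.symm g : K) : G)⁻¹ = a⁻¹ := congrArg Subtype.val h
  rw [h']
  exact inv_eq_of_mul_eq_one_left (by rw [← pow_three', C.L.a3])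

/-- Noncentral elements of order three of `C(x)` are conjugate to `a`. -/
theorem three_class_M {y : G} (hyx : y * x = x * y) (hy3 : y ^ 3 = 1)
    (hyX : y ∉ Subgroup.zpowers x) : IsConj a y := by
  classical
  obtain ⟨hn, ⟨ι⟩⟩ := C.exists_quot
  haveI := hn
  set M := Subgroup.centralizer ({x} : Set G) with hM
  set X := Subgroup.zpowers (⟨x, mem_cent.2 rfl⟩ : M) with hX
  have hXc : Nat.card X = 3 := by rw [hX, Nat.card_zpowers, Subgroup.orderOf_mk, C.orderOf_x]
  have hXodd : Odd (Nat.card X) := by rw [hXc]; decide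
  have hcen : ∀ w ∈ X, ∀ g : M, w * g = g * w := by
    intro w hw g
    obtain ⟨n, rfl⟩ := Subgroup.mem_zpowers_iff.1 hw
    exact ((show Commute g (⟨x, mem_cent.2 rfl⟩ : M) from Subtype.ext (mem_cent.1 g.2)).zpow_right n).symm.eq
  let π := QuotientGroup.mk' X
  let yT : M := ⟨y, mem_cent.2 hyx⟩
  have hmapX : ∀ w : M, w ∈ X → (w : G) ∈ Subgroup.zpowers x := by
    intro w hw
    obtain ⟨n, rfl⟩ := Subgroup.mem_zpowers_iff.1 hw
    exact ⟨n, rfl⟩
  have hy1 : ι (π yT) ≠ 1 := fun h => hyX (hmapX yT ((QuotientGroup.eq_one_iff yT).1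
    (ι.injective (h.trans (map_one ι).symm))))
  have hy3' : ι (π yT) ^ 3 = 1 := by
    rw [← map_pow, ← map_pow, show yT ^ 3 = 1 from Subtype.ext hy3, map_one, map_one]
  obtain ⟨v, hv2, hv1, hvne, hvc, hvcyc⟩ := A6_four _ hy3' hy1
  -- conjugate the involution to the image of `z`
  have hzM : z ∈ M := mem_cent.2 C.L.xz.symm
  let zT : M := ⟨z, hzM⟩
  have hzz : π zT * π zT = 1 := by
    rw [← map_mul, show zT * zT = 1 from Subtype.ext C.S.zz, map_one]
  have hz1 : π zT ≠ 1 := fun h => C.S.zne (congrArg Subtype.val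
    (sq_eq_one_of_odd X hXodd ((QuotientGroup.eq_one_iff zT).1 h) (Subtype.ext C.S.zz)))
  obtain ⟨c, hc⟩ : ∃ c : M, π c * ι.symm v * (π c)⁻¹ = π zT := by
    haveI := Fintype.ofFinite (M ⧸ X)
    have h := card_conj_orbit (⊤ : Subgroup A6) (ι (π zT))
    have h8 : Nat.card (Subgroup.centralizer ({π zT} : Set (M ⧸ X))) = 8 := by
      have h := card_cent_quot X hXodd hcen (show zT * zT = 1 from Subtype.ext C.S.zz)
      have e : Nat.card (Subgroup.centralizer ({zT} : Set M)) =
          Nat.card ↥(Subgroup.centralizer ({z} : Set G) ⊓ M) := Nat.card_congr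
        { toFun := fun g => ⟨g.1.1, mem_cent.2 (congrArg Subtype.val (mem_cent.1 g.2)), g.1.2⟩
          invFun := fun g => ⟨⟨g.1, g.2.2⟩, mem_cent.2 (Subtype.ext (mem_cent.1 g.2.1))⟩
          left_inv := fun g => rfl
          right_inv := fun g => rfl }
      rw [e, C.card_CH, hXc] at h
      show Nat.card (Subgroup.centralizer ({π zT} : Set (M ⧸ X))) = 8
      exact Nat.eq_of_mul_eq_mul_left (show 0 < 3 by norm_num) (h.trans (by norm_num))
    rw [top_inf_eq, Subgroup.card_top, card_A6, ← card_cent_equiv ι, h8,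
      Nat.card_eq_fintype_card, Fintype.card_subtype] at h
    have hsub : (Finset.univ.filter fun q => ∃ g ∈ (⊤ : Subgroup A6), g * ι (π zT) * g⁻¹ = q) ⊆
        Finset.univ.filter fun σ : A6 => σ * σ = 1 ∧ σ ≠ 1 := by
      intro q hq
      simp only [Finset.mem_filter, Finset.mem_univ, true_and] at hq ⊢
      obtain ⟨g, -, rfl⟩ := hq
      have hzz' : ι (π zT) * ι (π zT) = 1 := by rw [← map_mul, hzz, map_one]
      exact ⟨conj_sq g hzz', conj_ne_one g fun e => hz1 (ι.injective (e.trans (map_one ι).symm))⟩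
    have heq := Finset.eq_of_subset_of_card_le hsub (by rw [A6_card_invol]; omega)
    have hv : v ∈ Finset.univ.filter fun σ : A6 => σ * σ = 1 ∧ σ ≠ 1 := by simp [hv2, hv1]
    rw [← heq] at hv
    simp only [Finset.mem_filter, Finset.mem_univ, true_and] at hv
    obtain ⟨g, -, hg⟩ := hv
    obtain ⟨c, hc⟩ := QuotientGroup.mk'_surjective X (ι.symm g⁻¹)
    refine ⟨c, ?_⟩
    show QuotientGroup.mk' X c * ι.symm v * (QuotientGroup.mk' X c)⁻¹ = π zT
    rw [hc, ← hg, map_mul, map_mul, ι.symm_apply_apply, map_inv]; group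
  obtain ⟨y1, hy1def⟩ : ∃ y1 : M, y1 = c * yT * c⁻¹ := ⟨_, rfl⟩
  have hv' : ι.symm v = (π c)⁻¹ * π zT * π c := by rw [← hc]; group
  have hπy : π y1 = π c * π yT * (π c)⁻¹ := by rw [hy1def, map_mul, map_mul, map_inv]
  have e2 : π y1 * π zT * (π y1)⁻¹ = π c * (π yT * ι.symm v * (π yT)⁻¹) * (π c)⁻¹ := by
    rw [hπy, hv']; group
  have hvne' : π yT * ι.symm v * (π yT)⁻¹ ≠ ι.symm v := fun h => hvne (by
    have := congrArg ι h
    simpa [map_mul] using this)
  have hvc' : ι.symm v * (π yT * ι.symm v * (π yT)⁻¹) = π yT * ι.symm v * (π yT)⁻¹ * ι.symm v := by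
    apply ι.injective
    simpa [map_mul] using hvc
  have hvcyc' : π yT * (π yT * ι.symm v * (π yT)⁻¹) * (π yT)⁻¹ =
      ι.symm v * (π yT * ι.symm v * (π yT)⁻¹) := by
    apply ι.injective
    simpa [map_mul] using hvcyc
  obtain ⟨tT, htdef⟩ : ∃ tT : M, tT = y1 * zT * y1⁻¹ := ⟨_, rfl⟩
  have hzT2 : zT * zT = 1 := Subtype.ext C.S.zz
  have ht2 : tT * tT = 1 := htdef ▸ conj_sq y1 hzT2
  have htπ : π tT = π c * (π yT * ι.symm v * (π yT)⁻¹) * (π c)⁻¹ := by
    rw [htdef, map_mul, map_mul, map_inv, e2]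
  have htne : tT ≠ zT := fun h => hvne' (by
    apply conj_inj' (a := π c)
    rw [← htπ, h, hc])
  have htz : π tT * π zT = π zT * π tT := by
    rw [htπ, ← hc]
    exact conj_comm (π c) hvc'.symm
  have htzM : tT * zT = zT * tT := by
    have h := invol_eq_of_quot X hXodd hcen (conj_sq tT hzT2) hzT2 (t := tT * zT * tT⁻¹) (by
      rw [map_mul, map_mul, map_inv, htz, mul_inv_cancel_right])
    exact conj_eq_iff_comm.1 h
  have hy1t : y1 * tT * y1⁻¹ = tT * zT := by
    refine invol_eq_of_quot X hXodd hcen (conj_sq y1 ht2) ?_ ?_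
    · calc tT * zT * (tT * zT) = tT * (zT * tT) * zT := by group
        _ = tT * tT * (zT * zT) := by rw [← htzM]; group
        _ = 1 := by rw [ht2, hzT2, one_mul]
    · rw [map_mul, map_mul, map_inv, map_mul, htz, htπ, hπy]
      calc π c * π yT * (π c)⁻¹ * (π c * (π yT * ι.symm v * (π yT)⁻¹) * (π c)⁻¹) * (π c * π yT * (π c)⁻¹)⁻¹
          = π c * (π yT * (π yT * ι.symm v * (π yT)⁻¹) * (π yT)⁻¹) * (π c)⁻¹ := by group
        _ = π c * ι.symm v * (π c)⁻¹ * (π c * (π yT * ι.symm v * (π yT)⁻¹) * (π c)⁻¹) := by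
            rw [hvcyc']; group
        _ = _ := by rw [hc]
  -- back in the group
  obtain ⟨t, htG⟩ : ∃ t : G, t = (tT : G) := ⟨_, rfl⟩
  have htx : t * x = x * t := htG ▸ mem_cent.1 tT.2
  have htz' : t * z = z * t := htG ▸ congrArg Subtype.val htzM
  have ht2' : t * t = 1 := htG ▸ congrArg Subtype.val ht2
  have hty : t = (y1 : G) * z * (y1 : G)⁻¹ := by rw [htG, htdef]; rfl
  have htQ : t ∈ Q := C.S.conj_z_inQ htz' ⟨(y1 : G), hty.symm⟩
  have htN : Nci z Q t := ⟨htQ, ht2', hty ▸ conj_ne_one _ C.S.zne,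
    fun e => htne (Subtype.ext (htG ▸ e))⟩
  have hyt : (y1 : G) * t * (y1 : G)⁻¹ = t * z := by
    have := congrArg Subtype.val hy1t
    rw [htG]; exact this
  obtain ⟨b, g, hbx, hbz, hbt, hb3, hbg⟩ := C.exists_cycle htN htx.symm
  have h27 := C.not27 hbg
  obtain ⟨c', hc'def⟩ : ∃ c', c' = b⁻¹ * (y1 : G) := ⟨_, rfl⟩
  have hc'x : c' * x = x * c' :=
    hc'def ▸ Setup.comm_mul (show Commute b x from hbx).inv_left.eq (mem_cent.1 y1.2)
  have hc'z : c' * z = z * c' := by
    rw [← conj_eq_iff_comm, hc'def, ← conj_conj, ← hty, ← hbz]; group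
  have hc't : c' * t = t * c' := by
    rw [← conj_eq_iff_comm, hc'def, ← conj_conj, hyt, ← hbt]; group
  -- `c'` lies in `E × X`
  obtain ⟨i, e, he, hce⟩ : ∃ (i : ℕ) (e : G), (e = 1 ∨ e = z ∨ e = t ∨ e = t * z) ∧ c' = e * x ^ i := by
    have hψ : psi φ c' * psi φ x = psi φ x * psi φ c' := by
      rw [← C.S.psi_mul hc'z C.L.xz, hc'x, C.S.psi_mul C.L.xz hc'z]
    have hcen3 := A5_cent_three _ C.psi_x.1 C.psi_x.2
    have hmem : psi φ c' ∈ ({1, psi φ x, psi φ x ^ 2} : Finset A5) := by
      have hsub : ({1, psi φ x, psi φ x ^ 2} : Finset A5) ⊆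
          Finset.univ.filter fun τ : A5 => τ * psi φ x = psi φ x * τ := by
        intro τ hτ
        simp only [Finset.mem_insert, Finset.mem_singleton] at hτ
        simp only [Finset.mem_filter, Finset.mem_univ, true_and]
        rcases hτ with rfl | rfl | rfl
        · simp
        · rfl
        · exact (Commute.refl (psi φ x)).pow_left 2
      have n4 : (1 : A5) ≠ psi φ x ^ 2 := fun e => by
        have h3 := C.psi_x.1
        rw [pow_succ, ← e, one_mul] at h3
        exact C.psi_x.2 h3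
      have n1 : psi φ x ≠ psi φ x ^ 2 := fun e => C.psi_x.2 (by
        rw [pow_two] at e; exact mul_left_cancel (e.symm.trans (mul_one _).symm))
      rw [Finset.eq_of_subset_of_card_le hsub (by
        rw [hcen3, Finset.card_insert_of_notMem (by simp [Ne.symm C.psi_x.2, n4]), Finset.card_pair n1])]
      simp [hψ]
    obtain ⟨i, hi⟩ : ∃ i : ℕ, psi φ c' = psi φ x ^ i := by
      simp only [Finset.mem_insert, Finset.mem_singleton] at hmem
      rcases hmem with h | h | h
      · exact ⟨0, by rw [h, pow_zero]⟩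
      · exact ⟨1, by rw [h, pow_one]⟩
      · exact ⟨2, h⟩
    have hxi : (x ^ i)⁻¹ * z = z * (x ^ i)⁻¹ := C.S.H_inv (C.S.H_pow C.L.xz i)
    refine ⟨i, c' * (x ^ i)⁻¹, ?_, by group⟩
    refine C.S.fix_W htN C.L.xz htx.symm C.L.x3 C.x_ne ?_ ?_ ?_
    · rw [← C.S.psi_eq_one (C.S.H_mul hc'z hxi), C.S.psi_mul hc'z hxi,
        C.S.psi_inv (C.S.H_pow C.L.xz i), C.S.psi_pow C.L.xz, hi, mul_inv_cancel]
    · exact Setup.comm_mul hc't (((show Commute x t from htx.symm).pow_left i).inv_left).eq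
    · exact ((show Commute x c' from hc'x.symm).mul_right ((Commute.refl x).pow_right i).inv_right).eq
  -- absorb `e`
  obtain ⟨f, hf, hfe⟩ : ∃ f, f * x = x * f ∧ f * b * f⁻¹ = b * e := by
    have hzx := C.L.xz.symm
    have hzi := C.S.zinv
    have hti : t⁻¹ = t := inv_of_sq ht2'
    have ez : b⁻¹ * z * b = t * z := by
      have h : b * (t * z) * b⁻¹ = z := by
        rw [conj_mul', hbt, hbz, mul_assoc, ← htz', ← mul_assoc, ht2', one_mul]
      calc b⁻¹ * z * b = b⁻¹ * (b * (t * z) * b⁻¹) * b := by rw [h]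
        _ = _ := by group
    have et : b⁻¹ * t * b = z := by
      calc b⁻¹ * t * b = b⁻¹ * (b * z * b⁻¹) * b := by rw [hbz]
        _ = z := by group
    rcases he with e1 | e1 | e1 | e1 <;> rw [e1]
    · exact ⟨1, by simp, by group⟩
    · refine ⟨t * z, Setup.comm_mul htx hzx, ?_⟩
      calc t * z * b * (t * z)⁻¹ = b * ((b⁻¹ * t * b) * (b⁻¹ * z * b) * (z⁻¹ * t⁻¹)) := by group
        _ = b * (z * (t * z) * (z * t)) := by rw [et, ez, hzi, hti]
        _ = b * (z * t * (z * z) * t) := by group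
        _ = b * z := by rw [C.S.zz, mul_one, mul_assoc, ht2', mul_one]
    · refine ⟨z, hzx, ?_⟩
      calc z * b * z⁻¹ = b * ((b⁻¹ * z * b) * z⁻¹) := by group
        _ = b * t := by rw [ez, hzi, C.S.mul_z_z]
    · refine ⟨t, htx, ?_⟩
      calc t * b * t⁻¹ = b * ((b⁻¹ * t * b) * t⁻¹) := by group
        _ = b * (t * z) := by rw [et, hti, htz']
  have hy1G : (y1 : G) = f * (x ^ i * b) * f⁻¹ := by
    rw [conj_mul', hfe, conj_eq_iff_comm.2 ((show Commute f x from hf).pow_right i).eq]
    have hbc : b * c' = (y1 : G) := by rw [hc'def]; group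
    rw [← hbc, hce, ← mul_assoc]
    exact ((show Commute (b * e) x from by
      rw [← hfe]
      exact Commute.mul_left (Commute.mul_left hf hbx) (show Commute f x from hf).inv_left).pow_right i).eq
  obtain ⟨p, hp⟩ := C.conj_translate hbx hb3 h27 i
  have hyy : y = (c : G)⁻¹ * (y1 : G) * (c : G) := by
    rw [hy1def]
    show y = (c : G)⁻¹ * ((c : G) * y * (c : G)⁻¹) * (c : G)
    group
  have hay : IsConj b y := isConj_iff.2 ⟨(c : G)⁻¹ * f * p, by
    rw [hyy, hy1G, ← hp]; group⟩
  rcases hbg with hg | hg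
  · exact (isConj_iff.2 ⟨g, hg⟩).trans hay
  · obtain ⟨r, hr⟩ := C.a_inv_conj
    exact (isConj_iff.2 ⟨g * r, by rw [← conj_conj, hr, hg]⟩).trans hay

/-- The Sylow 3-subgroup through `a` and its properties. -/
theorem sylow_three : ∃ P : Sylow 3 G, (P : Subgroup G) ≤ Subgroup.centralizer ({x} : Set G) ∧
    Cfsg.IsExtraspecial 3 (P : Subgroup G) ∧
    Nat.card (Subgroup.normalizer ((P : Subgroup G) : Set G)) = 216 := by
  classical
  haveI : Fact (Nat.Prime 3) := ⟨Nat.prime_three⟩
  obtain ⟨hn, ⟨ι⟩⟩ := C.exists_quot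
  haveI := hn
  set M := Subgroup.centralizer ({x} : Set G) with hM
  obtain ⟨T, haT⟩ := C.exists_sylow C.L.xa.symm C.L.a3
  set X := Subgroup.zpowers (⟨x, mem_cent.2 rfl⟩ : M) with hX
  have hXc : Nat.card X = 3 := by rw [hX, Nat.card_zpowers, Subgroup.orderOf_mk, C.orderOf_x]
  set P0 := (T : Subgroup M).map M.subtype with hP0
  have hP27 : Nat.card P0 = 27 := by
    rw [hP0, Subgroup.card_map_of_injective M.subtype_injective, C.sylow_M T]
  let P : Sylow 3 G := Sylow.ofCard P0 (by rw [hP27, C.factor_three]; norm_num)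
  have hPP : (P : Subgroup G) = P0 := Sylow.coe_ofCard _ _
  refine ⟨P, ?_⟩
  rw [hPP]
  have hPM : P0 ≤ M := Subgroup.map_subtype_le _
  have hXT : X ≤ (T : Subgroup M) :=
    IsPGroup.le_sylow_of_normal (IsPGroup.of_card (p := 3) (n := 1) (by rw [hXc, pow_one])) T
  have hxP : x ∈ P0 := ⟨_, hXT (Subgroup.mem_zpowers _), rfl⟩
  have haP : a ∈ P0 := ⟨⟨a, mem_cent.2 C.L.xa.symm⟩, haT, rfl⟩
  have hcomm : ∀ p q : P0, ((⁅p, q⁆ : P0) : G) ∈ Subgroup.zpowers x := by
    rintro ⟨-, p, hp, rfl⟩ ⟨-, q, hq, rfl⟩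
    obtain ⟨n, hn⟩ := C.comm_mem_X T hp hq
    exact ⟨n, congrArg Subtype.val hn⟩
  have hxc : ∀ p : P0, (p : G) * x = x * (p : G) := fun p => mem_cent.1 (hPM p.2)
  let xP : P0 := ⟨x, hxP⟩
  have hxcen : xP ∈ Subgroup.center P0 :=
    Subgroup.mem_center_iff.2 fun p => Subtype.ext (hxc p)
  have hcard : Nat.card (Subgroup.center P0) = 3 := by
    have hd : Nat.card (Subgroup.center P0) ∣ 3 ^ 3 := by
      rw [show (3 : ℕ) ^ 3 = 27 from rfl, ← hP27]; exact Subgroup.card_subgroup_dvd_card _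
    obtain ⟨k, hk3, hk⟩ := (Nat.dvd_prime_pow Nat.prime_three).1 hd
    have h3 : 3 ∣ Nat.card (Subgroup.center P0) := by
      have := Subgroup.orderOf_dvd_natCard _ hxcen
      rwa [show orderOf xP = 3 from by rw [Subgroup.orderOf_mk, C.orderOf_x]] at this
    have hne : ∀ (h : ∀ p q : P0, p * q = q * p), False := fun h =>
      C.not27 (b := a) (g := 1) (Or.inl (by group)) (by
        rw [← hP27]
        exact Subgroup.card_dvd_of_le fun p hp => mem_cent.2
          (congrArg Subtype.val (h ⟨p, hp⟩ ⟨a, haP⟩)))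
    interval_cases k
    · rw [hk] at h3; norm_num at h3
    · exact hk
    · exfalso
      apply hne
      have hq : Nat.card (P0 ⧸ Subgroup.center P0) = 3 := by
        have h := (Subgroup.center P0).card_mul_index
        rw [hk, hP27] at h
        show (Subgroup.center P0).index = 3
        omega
      haveI : IsCyclic (P0 ⧸ Subgroup.center P0) := isCyclic_of_prime_card hq
      exact fun p q => commutative_of_cyclic_center_quotient (QuotientGroup.mk' (Subgroup.center P0))
        (by rw [QuotientGroup.ker_mk']) p q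
    · exfalso
      apply hne
      have htop : Subgroup.center P0 = ⊤ := Subgroup.eq_top_of_card_eq _ (by rw [hk, hP27]; rfl)
      exact fun p q => (Subgroup.mem_center_iff.1 (by rw [htop]; trivial : q ∈ Subgroup.center P0) p)
  have hcenX : ∀ w ∈ Subgroup.center P0, (w : G) ∈ Subgroup.zpowers x := by
    intro w hw
    have he : Subgroup.zpowers xP = Subgroup.center P0 :=
      Subgroup.eq_of_le_of_card_ge (Subgroup.zpowers_le.2 hxcen)
        (by rw [hcard, Nat.card_zpowers, Subgroup.orderOf_mk, C.orderOf_x])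
    rw [← he] at hw
    obtain ⟨n, rfl⟩ := Subgroup.mem_zpowers_iff.1 hw
    exact ⟨n, rfl⟩
  refine ⟨hPM, FusionSys.isExtraspecial_of_card_cube (IsPGroup.of_card (p := 3) (n := 3) hP27) hP27
    hcard (fun p q => ?_), ?_⟩
  · obtain ⟨n, hn⟩ := hcomm p q
    refine Subgroup.mem_center_iff.2 fun r => Subtype.ext ?_
    show (r : G) * (⁅p, q⁆ : P0) = (⁅p, q⁆ : P0) * (r : G)
    rw [← hn]
    exact (show Commute (r : G) x from hxc r).zpow_right n
  · set N := Subgroup.normalizer (P0 : Set G) with hN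
    have hNM : Nat.card ↥(N ⊓ M) = 108 := by
      have hmap : (T : Subgroup M) = ((T : Subgroup M).map (QuotientGroup.mk' X)).comap (QuotientGroup.mk' X) := by
        rw [Subgroup.comap_map_eq, QuotientGroup.ker_mk', sup_eq_left.2 hXT]
      have h9 : Nat.card ((T : Subgroup M).map (QuotientGroup.mk' X)) = 9 := by
        have h := card_comap_mk X ((T : Subgroup M).map (QuotientGroup.mk' X))
        rw [← hmap, C.sylow_M T, hXc] at h
        omega
      have hY : Nat.card (Subgroup.normalizer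
          (((T : Subgroup M).map (QuotientGroup.mk' X)) : Set (M ⧸ X))) = 36 := by
        have h := A6_normalizer (((T : Subgroup M).map (QuotientGroup.mk' X)).map ι.toMonoidHom)
          (by rw [Subgroup.card_map_of_injective (f := ι.toMonoidHom) ι.injective, h9])
        rwa [← Subgroup.map_equiv_normalizer_eq,
          Subgroup.card_map_of_injective (f := ι.toMonoidHom) ι.injective] at h
      have hTN : Nat.card (Subgroup.normalizer ((T : Subgroup M) : Set M)) = 108 := by
        rw [hmap, ← Subgroup.comap_normalizer_eq_of_surjective _ (QuotientGroup.mk'_surjective X),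
          card_comap_mk, hXc, hY]
      rw [← hTN, ← Nat.card_congr (Subgroup.subgroupOfEquivOfLe (inf_le_right : N ⊓ M ≤ M)).toEquiv,
        Subgroup.inf_subgroupOf_right, hN, hP0]
      rw [show (T : Subgroup M) = ((T : Subgroup M).map M.subtype).comap M.subtype from
        (Subgroup.comap_map_eq_self_of_injective M.subtype_injective _).symm]
      rw [Subgroup.map_comap_eq_self (Subgroup.map_subtype_le _ |>.trans (le_of_eq M.range_subtype.symm))]
      rw [Subgroup.subgroupOf_normalizer_eq (Subgroup.map_subtype_le _)]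
      rfl
    have h := card_conj_orbit N x
    have horb : Nat.card {w : G // ∃ n ∈ N, n * x * n⁻¹ = w} = 2 := by
      obtain ⟨-, -, -, -, -, h0, -, hh0x, -⟩ := C.exists_w
      have hxi : x⁻¹ ≠ x := fun e => C.x_ne (by
        have h2 : x * x = 1 := by
          calc x * x = x * x⁻¹ := by rw [e]
            _ = 1 := mul_inv_cancel x
        have h3 := C.L.x3
        rwa [pow_succ, pow_two, h2, one_mul] at h3)
      have hcm : ∀ c : G, c ∈ M → h0 * c * h0⁻¹ ∈ M := by
        intro c hc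
        have h1 := conj_comm h0 (mem_cent.1 hc)
        rw [hh0x] at h1
        have h2 := (show Commute (h0 * c * h0⁻¹) x⁻¹ from h1).inv_right
        rw [inv_inv] at h2
        exact mem_cent.2 h2.eq
      have hPh : P0.map (MulAut.conj h0).toMonoidHom ≤ M := by
        rintro _ ⟨p, hp, rfl⟩
        exact hcm p (hPM hp)
      let T2 : Sylow 3 M := Sylow.ofCard ((P0.map (MulAut.conj h0).toMonoidHom).subgroupOf M) (by
        rw [Nat.card_congr (Subgroup.subgroupOfEquivOfLe hPh).toEquiv,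
          Subgroup.card_map_of_injective (f := (MulAut.conj h0).toMonoidHom) (MulAut.conj h0).injective,
          hP27, C.card_M, show (1080 : ℕ) = 3 ^ 3 * 40 by norm_num,
          Nat.factorization_mul (by norm_num) (by norm_num),
          Finsupp.add_apply, Nat.factorization_pow_self Nat.prime_three,
          Nat.factorization_eq_zero_of_not_dvd (by norm_num)]
        norm_num)
      obtain ⟨m, hm⟩ := MulAction.exists_smul_eq M T2 T
      have hmN : (m : G) * h0 ∈ N := by
        refine Subgroup.mem_normalizer_iff_map_conj_eq.2 ?_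
        have hT : (T : Subgroup M) = (T2 : Subgroup M).map (MulAut.conj m).toMonoidHom := by
          rw [← hm]; rfl
        ext c
        constructor
        · rintro ⟨p, hp, rfl⟩
          rw [hP0, hT]
          refine ⟨m * ⟨h0 * p * h0⁻¹, hcm p (hPM hp)⟩ * m⁻¹, ⟨_, ?_, rfl⟩, ?_⟩
          · show (⟨h0 * p * h0⁻¹, _⟩ : M) ∈ (T2 : Subgroup M)
            exact ⟨p, hp, rfl⟩
          · show (m : G) * (h0 * p * h0⁻¹) * (m : G)⁻¹ = (m : G) * h0 * p * ((m : G) * h0)⁻¹
            group
        · intro hc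
          rw [hP0, hT] at hc
          obtain ⟨_, ⟨⟨q, hqM⟩, hq, rfl⟩, rfl⟩ := hc
          obtain ⟨p, hp, hpe⟩ : ∃ p ∈ P0, h0 * p * h0⁻¹ = q := hq
          refine ⟨p, hp, ?_⟩
          show (m : G) * h0 * p * ((m : G) * h0)⁻¹ = (m : G) * q * (m : G)⁻¹
          rw [← hpe]; group
      have hmx : (m : G) * h0 * x * ((m : G) * h0)⁻¹ = x⁻¹ := by
        rw [← conj_conj, hh0x]
        exact conj_eq_iff_comm.2 ((show Commute (m : G) x from mem_cent.1 m.2).inv_right).eq
      rw [← Set.ncard_pair hxi, ← Nat.card_coe_set_eq]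
      refine Nat.card_congr (Equiv.subtypeEquivRight fun w => ⟨?_, ?_⟩)
      · rintro ⟨n, hnN, rfl⟩
        have hnx : n * x * n⁻¹ ∈ P0 := (Subgroup.mem_normalizer_iff.1 hnN x).1 hxP
        have hcen : (⟨n * x * n⁻¹, hnx⟩ : P0) ∈ Subgroup.center P0 := by
          refine Subgroup.mem_center_iff.2 fun p => Subtype.ext ?_
          show (p : G) * (n * x * n⁻¹) = n * x * n⁻¹ * (p : G)
          have hp' : n⁻¹ * (p : G) * n ∈ P0 := by
            have := (Subgroup.mem_normalizer_iff.1 (N.inv_mem hnN) p).1 p.2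
            rwa [inv_inv] at this
          have h1 := conj_comm n (hxc ⟨_, hp'⟩)
          calc (p : G) * (n * x * n⁻¹) = n * (n⁻¹ * p * n) * n⁻¹ * (n * x * n⁻¹) := by group
            _ = n * x * n⁻¹ * (n * (n⁻¹ * p * n) * n⁻¹) := h1
            _ = _ := by group
        have hmem := hcenX _ hcen
        rw [mem_zpowers_iff_mem_range_orderOf, C.orderOf_x, Finset.mem_image] at hmem
        obtain ⟨k, hk, hk'⟩ := hmem
        rw [Finset.mem_range] at hk
        have hk'' : x ^ k = n * x * n⁻¹ := hk'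
        simp only [Set.mem_insert_iff, Set.mem_singleton_iff]
        interval_cases k
        · rw [pow_zero] at hk''; exact absurd hk''.symm (conj_ne_one n C.x_ne)
        · right; rw [← hk'', pow_one]
        · left; rw [← hk'']
          exact eq_inv_of_mul_eq_one_left (by rw [← pow_succ, C.L.x3])
      · rintro (rfl | rfl)
        · exact ⟨_, hmN, hmx⟩
        · exact ⟨1, N.one_mem, by simp⟩
    rw [horb, hNM] at h
    exact h.symm

theorem three_classes {c : G} (hc : orderOf c = 3) : IsConj c x ∨ IsConj c a := by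
  classical
  haveI : Fact (Nat.Prime 3) := ⟨Nat.prime_three⟩
  obtain ⟨hcc, hc1⟩ : c ^ 3 = 1 ∧ c ≠ 1 :=
    ⟨hc ▸ pow_orderOf_eq_one c, fun h => by rw [h, orderOf_one] at hc; omega⟩
  obtain ⟨P, hPM, -, -⟩ := C.sylow_three
  have hp : IsPGroup 3 (Subgroup.zpowers c) :=
    IsPGroup.of_card (p := 3) (n := 1) (by rw [pow_one, Nat.card_zpowers, hc])
  obtain ⟨R, hR⟩ := hp.exists_le_sylow
  obtain ⟨g, hg⟩ := MulAction.exists_smul_eq G R P
  have hmem : g * c * g⁻¹ ∈ (P : Subgroup G) := by
    rw [← hg, Sylow.coe_subgroup_smul]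
    exact ⟨c, hR (Subgroup.mem_zpowers c), rfl⟩
  have hgc : IsConj c (g * c * g⁻¹) := isConj_iff.2 ⟨g, rfl⟩
  by_cases hX : g * c * g⁻¹ ∈ Subgroup.zpowers x
  · left
    rw [mem_zpowers_iff_mem_range_orderOf, C.orderOf_x, Finset.mem_image] at hX
    obtain ⟨k, hk, hk'⟩ := hX
    rw [Finset.mem_range] at hk
    have hk'' : x ^ k = g * c * g⁻¹ := hk'
    refine hgc.trans ?_
    rw [← hk'']
    interval_cases k
    · rw [pow_zero] at hk''; exact absurd hk''.symm (conj_ne_one g hc1)
    · rw [pow_one]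
    · obtain ⟨-, -, -, -, -, h0, -, hh0x, -⟩ := C.exists_w
      refine (isConj_iff.2 ⟨h0, ?_⟩).symm
      rw [hh0x]
      exact (eq_inv_of_mul_eq_one_left (by rw [← pow_succ, C.L.x3])).symm
  · right
    exact hgc.trans (C.three_class_M (mem_cent.1 (hPM hmem)) (by rw [conj_pow, hcc]; group) hX).symm

theorem x_not_a : ¬ IsConj x a := by
  intro h
  obtain ⟨g, hg⟩ := isConj_iff.1 h
  rcases C.card_cent_a with e | e <;>
  · rw [← hg, show g * x * g⁻¹ = MulAut.conj g x from rfl, ← card_cent_equiv, C.card_M] at e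
    omega

end Ctx

end Cfsg.Agent.HJ
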