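import Cfsg.Agent.Lib.HJ.AltFive

/-!
Finite facts about the alternating groups of degree five and six.
-/

set_option autoImplicit false
set_option synthInstance.maxSize 4000
set_option synthInstance.maxHeartbeats 400000
set_option maxHeartbeats 2000000

namespace Cfsg.Agent.HJ

open Equiv

/-- The alternating group of degree six. -/
abbrev A6 := alternatingGroup (Fin 6)

theorem card_A6 : Nat.card A6 = 360 := by
  rw [nat_card_alternatingGroup, Nat.card_fin]; rfl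

theorem A6_card_invol : (Finset.univ.filter fun σ : A6 => σ * σ = 1 ∧ σ ≠ 1).card = 45 := by
  decide +kernel

theorem A6_four : ∀ σ : A6, σ ^ 3 = 1 → σ ≠ 1 → ∃ v : A6, v * v = 1 ∧ v ≠ 1 ∧ σ * v * σ⁻¹ ≠ v ∧
    v * (σ * v * σ⁻¹) = σ * v * σ⁻¹ * v ∧
    σ * (σ * v * σ⁻¹) * σ⁻¹ = v * (σ * v * σ⁻¹) := by decide +kernel

/-- A three-cycle. -/
def c6 : A6 := ⟨swap 0 1 * swap 1 2, Perm.mem_alternatingGroup.2 (by decide)⟩

/-- A disjoint three-cycle. -/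
def d6 : A6 := ⟨swap 3 4 * swap 4 5, Perm.mem_alternatingGroup.2 (by decide)⟩

theorem c6_facts : c6 * d6 = d6 * c6 ∧ (Finset.univ.filter fun g : A6 => g * c6 = c6 * g).card = 9 := by
  decide +kernel

theorem A6_norm_count : (Finset.univ.filter fun g : A6 =>
    g * c6 * g⁻¹ * c6 = c6 * (g * c6 * g⁻¹) ∧ g * d6 * g⁻¹ * c6 = c6 * (g * d6 * g⁻¹)).card = 36 := by
  decide +kernel

theorem A6_norm_closed : ∀ g : A6,
    g * c6 * g⁻¹ * c6 = c6 * (g * c6 * g⁻¹) → g * d6 * g⁻¹ * c6 = c6 * (g * d6 * g⁻¹) →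
    ∀ τ : A6, τ * c6 = c6 * τ → g * τ * g⁻¹ * c6 = c6 * (g * τ * g⁻¹) := by decide +kernel

theorem S5_swap : (Finset.univ.filter fun g : Perm (Fin 5) =>
    g * swap 0 1 = swap 0 1 * g).card = 12 := by decide +kernel

theorem A5_center : ∀ σ : A5, (∀ τ : A5, σ * τ = τ * σ) → σ = 1 := by decide +kernel

theorem A5_real_three : ∀ σ : A5, σ ^ 3 = 1 → ∃ g : A5, g * σ * g⁻¹ = σ⁻¹ := by decide +kernel

theorem A5_real_five : ∀ σ : A5, σ ^ 5 = 1 → ∃ g : A5, g * σ * g⁻¹ = σ⁻¹ := by decide +kernel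

theorem A5_invert_swap : ∀ σ : A5, σ ^ 3 = 1 → σ ≠ 1 → ∀ g : A5, g * σ * g⁻¹ = σ⁻¹ →
    ∀ i j : Fin 5, ap σ i = i → ap σ j = j → i ≠ j → ap g i = j := by decide +kernel

end Cfsg.Agent.HJ
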