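import Cfsg.Agent.Lib.HJ.Invols

/-!
The local contribution of the central involution to the order formula.
-/

set_option autoImplicit false

namespace Cfsg.Agent.HJ

variable {G : Type*} [Group G] [Finite G] {z : G} {Q : Subgroup G}
  {φ : ↥(Subgroup.centralizer ({z} : Set G)) →* A5}

omit [Finite G] in
/-- An involution in the group generated by the product of two involutions commutes with both. -/
theorem comm_of_mem_zpowers {p q w : G} (hp : p * p = 1) (hq : q * q = 1) (hw : w * w = 1)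
    (h : w ∈ Subgroup.zpowers (p * q)) : p * w = w * p ∧ q * w = w * q := by
  obtain ⟨n, rfl⟩ := Subgroup.mem_zpowers_iff.1 h
  have hinv : ((p * q) ^ n)⁻¹ = (p * q) ^ n := inv_of_sq hw
  have hpq : p * (p * q) * p⁻¹ = (p * q)⁻¹ := by
    rw [mul_inv_rev, inv_of_sq hp, inv_of_sq hq]
    calc p * (p * q) * p = p * p * q * p := by group
      _ = q * p := by rw [hp, one_mul]
  have h1 : p * (p * q) ^ n * p⁻¹ = (p * q) ^ n := by
    rw [← conj_zpow, hpq, inv_zpow, hinv]
  have hc : p * (p * q) ^ n = (p * q) ^ n * p := conj_eq_iff_comm.1 h1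
  refine ⟨hc, ?_⟩
  have hq' : q = p * (p * q) := by rw [← mul_assoc, hp, one_mul]
  have : Commute q ((p * q) ^ n) := by
    have h2 : Commute (p * (p * q)) ((p * q) ^ n) :=
      Commute.mul_left hc ((Commute.refl _).zpow_right n)
    rwa [← hq'] at h2
  exact this

namespace Setup

variable (S : Setup z Q φ)
include S

/-- The pairs counted at the central involution. -/
theorem count_z {t : G} (ht : Outer z Q t) :
    Nat.card {r : G × G // (∃ g, g * z * g⁻¹ = r.1) ∧ (∃ g, g * t * g⁻¹ = r.2) ∧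
      z ∈ Subgroup.zpowers (r.1 * r.2)} = 960 := by
  classical
  haveI := Fintype.ofFinite G
  rw [Nat.card_eq_fintype_card, Fintype.card_subtype]
  let JF : Finset G := Finset.univ.filter fun y => Nci z Q y
  let T : Finset G := Finset.univ.filter fun y => Outer z Q y
  have hT : T.card = 120 := by
    rw [← S.card_outer ht, Nat.card_eq_fintype_card, Fintype.card_subtype]
  have hJ : JF.card = 10 := by
    rw [← S.nci_core.1, Nat.card_eq_fintype_card, Fintype.card_subtype]
  have key : (Finset.univ.filter fun r : G × G => (∃ g, g * z * g⁻¹ = r.1) ∧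
      (∃ g, g * t * g⁻¹ = r.2) ∧ z ∈ Subgroup.zpowers (r.1 * r.2)) =
      (T.sigma fun q => JF.filter fun p => q * p ≠ p * q).image fun r => (r.2, r.1) := by
    ext ⟨p, q⟩
    simp only [Finset.mem_filter, Finset.mem_univ, true_and, Finset.mem_image, Finset.mem_sigma,
      T, JF]
    constructor
    · rintro ⟨⟨g, hg⟩, ⟨k, hk⟩, hmem⟩
      have hp : p * p = 1 := hg ▸ conj_sq g S.zz
      have hq : q * q = 1 := hk ▸ conj_sq k ht.2.1
      obtain ⟨hpz, hqz⟩ := comm_of_mem_zpowers hp hq S.zz hmem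
      have hpQ := S.conj_z_inQ hpz ⟨g, hg⟩
      have hqout : Outer z Q q := by
        refine ⟨hqz, hq, fun hqQ => ?_⟩
        obtain ⟨m, hm⟩ := S.inQ_conj_z hqQ hq (hk ▸ conj_ne_one k (fun e => ht.2.2 (e ▸ Q.one_mem)))
        exact S.outer_not_conj ht (k⁻¹ * m) (by rw [← conj_conj, hm, ← hk]; group)
      refine ⟨⟨q, p⟩, ⟨hqout, ⟨hpQ, hp, hg ▸ conj_ne_one g S.zne, ?_⟩, ?_⟩, rfl⟩
      · intro hpe
        change z ∈ Subgroup.zpowers (p * q) at hmem
        simp only at hpe
        rw [hpe] at hmem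
        have hsq : z * q * (z * q) = 1 := by
          calc z * q * (z * q) = z * (q * z) * q := by group
            _ = (z * z) * (q * q) := by rw [hqz]; group
            _ = 1 := by rw [S.zz, hq, one_mul]
        obtain ⟨n, hn⟩ := Subgroup.mem_zpowers_iff.1 hmem
        rcases Int.even_or_odd n with ⟨m, hm⟩ | ⟨m, hm⟩
        · rw [hm, _root_.zpow_add, ← (Commute.refl (z * q)).mul_zpow, hsq, one_zpow] at hn
          exact S.zne hn.symm
        · rw [hm, _root_.zpow_add, two_mul, _root_.zpow_add, ← (Commute.refl (z * q)).mul_zpow,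
            hsq, one_zpow, one_mul, zpow_one] at hn
          exact hqout.2.2 (by
            have h1 : q = 1 := mul_left_cancel (hn.trans (mul_one z).symm)
            rw [h1]; exact Q.one_mem)
      · intro hc
        have hsq : p * q * (p * q) = 1 := by
          calc p * q * (p * q) = p * (q * p) * q := by group
            _ = (p * p) * (q * q) := by rw [hc]; group
            _ = 1 := by rw [hp, hq, one_mul]
        obtain ⟨n, hn⟩ := Subgroup.mem_zpowers_iff.1 hmem
        rcases Int.even_or_odd n with ⟨m, hm⟩ | ⟨m, hm⟩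
        · rw [hm, _root_.zpow_add, ← (Commute.refl (p * q)).mul_zpow, hsq, one_zpow] at hn
          exact S.zne hn.symm
        · rw [hm, _root_.zpow_add, two_mul, _root_.zpow_add, ← (Commute.refl (p * q)).mul_zpow,
            hsq, one_zpow, one_mul, zpow_one] at hn
          exact hqout.2.2 (by
            have h1 : q = p * z := by rw [← hn, ← mul_assoc, hp, one_mul]
            rw [h1]; exact Q.mul_mem hpQ S.zQ)
    · rintro ⟨⟨q', p'⟩, ⟨hq, hp, hnc⟩, heq⟩
      simp only [Prod.mk.injEq] at heq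
      obtain ⟨rfl, rfl⟩ := heq
      simp only at hq hp hnc
      refine ⟨S.nci_conj_z hp, ?_, ?_⟩
      · obtain ⟨h, -, hh⟩ := S.outer_conj ht hq
        exact ⟨h, hh⟩
      obtain ⟨w, hwdef⟩ : ∃ w, w = q' * p' * q'⁻¹ := ⟨_, rfl⟩
      have hw : Nci z Q w := hwdef ▸ S.nci_conj hq.1 hp
      have hsq : (p' * q') ^ 2 = p' * w := by
        rw [pow_two, hwdef, inv_of_sq hq.2.1]; group
      by_cases hwz : w = p' * z
      · rw [Subgroup.mem_zpowers_iff]
        refine ⟨2, ?_⟩
        rw [show ((2 : ℤ)) = ((2 : ℕ) : ℤ) from rfl, zpow_natCast, hsq, hwz, ← mul_assoc, hp.2.1,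
          one_mul]
      · have hne : w ≠ p' := fun e => hnc (conj_eq_iff_comm.1 (hwdef.symm.trans e))
        have hn := S.nc_of_ne hp hw hne hwz
        rw [Subgroup.mem_zpowers_iff]
        refine ⟨4, ?_⟩
        rw [show ((4 : ℤ)) = ((4 : ℕ) : ℤ) from rfl, zpow_natCast,
          show (4 : ℕ) = 2 * 2 from rfl, pow_mul, hsq, pow_two,
          S.sq_nc hp.1 hw.1 (Ne.symm hn), hp.2.1, hw.2.1, one_mul, one_mul]
  rw [key, Finset.card_image_of_injective _ (fun a b h => by
      obtain ⟨a1, a2⟩ := a; obtain ⟨b1, b2⟩ := b; simp_all),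
    Finset.card_sigma, Finset.sum_const_nat (m := 8), hT]
  intro q hq
  simp only [T, Finset.mem_filter, Finset.mem_univ, true_and] at hq
  obtain ⟨p₀, hp₀, hfix, -⟩ := S.outer_data hq
  have hsplit := Finset.card_filter_add_card_filter_not (s := JF) (fun p => q * p = p * q)
  have he : (JF.filter fun p => q * p = p * q) = {p₀, p₀ * z} := by
    ext p
    simp only [JF, Finset.mem_filter, Finset.mem_univ, true_and, Finset.mem_insert,
      Finset.mem_singleton]
    constructor
    · rintro ⟨hp, hc⟩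
      exact (((hfix p hp.1).1 hc).resolve_left hp.2.2.1).resolve_left hp.2.2.2
    · rintro (rfl | rfl)
      · exact ⟨hp₀, (hfix p hp₀.1).2 (Or.inr (Or.inr (Or.inl rfl)))⟩
      · exact ⟨S.nci_mul_z hp₀, (hfix _ (S.nci_mul_z hp₀).1).2 (Or.inr (Or.inr (Or.inr rfl)))⟩
  rw [he, Finset.card_pair (S.ne_mul_z p₀), hJ] at hsplit
  simp only [ne_eq] at hsplit ⊢
  omega

/-- The possible order `51840` does not occur. -/
theorem card_ne (h : Nat.card G = 51840) : False := by
  classical
  haveI := Fintype.ofFinite G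
  haveI : Fact (Nat.Prime 5) := ⟨by norm_num⟩
  obtain ⟨f, hfz, hf5, hf1, hfix⟩ := S.exists_five
  have horb := card_conj_orbit (⊤ : Subgroup G) z
  rw [top_inf_eq, S.card_H, Subgroup.card_top, h] at horb
  let C : Set G := {y | ∃ g, g * z * g⁻¹ = y}
  let R : Set G := {y | (∃ g, g * z * g⁻¹ = y) ∧ y * z ≠ z * y}
  have hC : C.ncard = 27 := by
    have e : Nat.card {y : G // ∃ g ∈ (⊤ : Subgroup G), g * z * g⁻¹ = y} = C.ncard := by
      rw [← Nat.card_coe_set_eq]
      exact Nat.card_congr (Equiv.subtypeEquivRight fun y => by simp [C])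
    rw [e] at horb
    omega
  let I : Set G := {y | y = z ∨ Nci z Q y}
  have hI : I.ncard = 11 := by
    have : I = insert z {y | Nci z Q y} := rfl
    rw [this, Set.ncard_insert_of_notMem (fun h => h.2.2.2 rfl), ← Nat.card_coe_set_eq]
    show Nat.card {y // Nci z Q y} + 1 = 11
    rw [S.nci_core.1]
  have hRC : R = C \ I := by
    ext y
    simp only [R, C, I, Set.mem_diff, Set.mem_setOf_eq, not_or]
    constructor
    · rintro ⟨hg, hnc⟩
      exact ⟨hg, fun e => hnc (by rw [e]), fun e => hnc (S.Q_comm_z e.1)⟩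
    · rintro ⟨⟨g, hg⟩, h1, h2⟩
      refine ⟨⟨g, hg⟩, fun hc => h2 ⟨S.conj_z_inQ hc ⟨g, hg⟩, hg ▸ conj_sq g S.zz,
        hg ▸ conj_ne_one g S.zne, h1⟩⟩
  have hsub : I ⊆ C := by
    rintro y (rfl | hy)
    · exact ⟨1, by simp⟩
    · exact S.nci_conj_z hy
  have hR : R.ncard = 16 := by rw [hRC, Set.ncard_sdiff hsub, hC, hI]
  have hmod := card_fixed_modEq hf5 R fun y hy => by
    obtain ⟨⟨g, hg⟩, hnc⟩ := hy
    refine ⟨⟨f * g, by rw [← conj_conj, hg]⟩, fun hc => hnc ?_⟩
    have := conj_comm f⁻¹ hc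
    rwa [conj_eq_iff_comm.2 (S.H_inv hfz), show f⁻¹ * (f * y * f⁻¹) * f⁻¹⁻¹ = y by group] at this
  rw [show Nat.card {y : G // y ∈ R} = 16 from (Nat.card_coe_set_eq R).trans hR, Nat.ModEq] at hmod
  obtain ⟨⟨r, hr, hfr⟩⟩ : Nonempty {y : G // y ∈ R ∧ f * y = y * f} := by
    by_contra hne
    rw [not_nonempty_iff] at hne
    rw [Nat.card_of_isEmpty] at hmod
    omega
  set D := Subgroup.centralizer ({z} : Set G) ⊓ Subgroup.centralizer ({r} : Set G) with hD
  have hDQ : ∀ d ∈ D, d ∈ Q → d = 1 := by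
    set X := Q ⊓ Subgroup.centralizer ({r} : Set G) with hX
    have hzX : z ∉ X := fun hz => hr.2 (mem_cent.1 hz.2).symm
    have hXinv : ∀ y ∈ (X : Set G), f * y * f⁻¹ ∈ (X : Set G) := fun y hy =>
      ⟨S.conj_mem_Q hfz hy.1, mem_cent.2 (by
        have := conj_comm f (mem_cent.1 hy.2)
        rwa [conj_eq_iff_comm.2 hfr] at this)⟩
    have hm := card_fixed_modEq hf5 (X : Set G) hXinv
    have h1 : Nat.card {y : G // y ∈ (X : Set G) ∧ f * y = y * f} = 1 := by
      rw [Nat.card_eq_one_iff_unique]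
      refine ⟨⟨fun a b => Subtype.ext ?_⟩, ⟨⟨1, X.one_mem, by simp⟩⟩⟩
      have key : ∀ c : {y : G // y ∈ (X : Set G) ∧ f * y = y * f}, (c : G) = 1 := fun c =>
        (hfix c c.2.1.1 c.2.2).resolve_right fun e => hzX (e ▸ c.2.1)
      rw [key a, key b]
    have hle : (X : Set G) ⊆ insert 1 {y | Nci z Q y} := by
      intro y hy
      by_cases hy1 : y = 1
      · exact Or.inl hy1
      refine Or.inr ⟨hy.1, ?_, hy1, fun e => hzX (e ▸ hy)⟩
      rcases S.sq y hy.1 with e | e
      · exact e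
      · exact absurd (e ▸ X.mul_mem hy hy) hzX
    have hle11 := Set.ncard_le_ncard hle
    rw [Set.ncard_insert_of_notMem (fun h => h.2.2.1 rfl)] at hle11
    have hN10 : ({y | Nci z Q y} : Set G).ncard = 10 := by
      rw [← S.nci_core.1, ← Nat.card_coe_set_eq]; rfl
    rw [hN10, ← Nat.card_coe_set_eq] at hle11
    change Nat.card X ≤ 11 at hle11
    rw [h1, show Nat.card {y : G // y ∈ (X : Set G)} = Nat.card X from rfl, Nat.ModEq] at hm
    have hdvd : Nat.card X ∈ Nat.divisors 32 :=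
      Nat.mem_divisors.2 ⟨S.card ▸ Subgroup.card_dvd_of_le inf_le_left, by norm_num⟩
    rw [show Nat.divisors 32 = {1, 2, 4, 8, 16, 32} by decide] at hdvd
    simp only [Finset.mem_insert, Finset.mem_singleton] at hdvd
    have hX1 : X = ⊥ := Subgroup.eq_bot_of_card_eq _ (by omega)
    intro d hd hdQ
    have : d ∈ X := ⟨hdQ, hd.2⟩
    rw [hX1] at this
    exact Subgroup.mem_bot.1 this
  have hD60 : Nat.card D ≤ 60 := by
    rw [← card_A5]
    refine Nat.card_le_card_of_injective (fun d : D => psi φ d) fun d d' e => ?_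
    have hdz := mem_cent.1 d.2.1
    have hdz' := mem_cent.1 d'.2.1
    have h := hDQ ((d : G)⁻¹ * d') (D.mul_mem (D.inv_mem d.2) d'.2) (by
      rw [← S.psi_eq_one (S.H_mul (S.H_inv hdz) hdz'), S.psi_mul (S.H_inv hdz) hdz',
        S.psi_inv hdz]
      simp only at e
      rw [e, inv_mul_cancel])
    exact Subtype.ext (inv_mul_eq_one.1 h)
  have h2 := card_conj_orbit (Subgroup.centralizer ({z} : Set G)) r
  rw [S.card_H, ← hD] at h2
  have hle : Nat.card {y : G // ∃ g ∈ Subgroup.centralizer ({z} : Set G), g * r * g⁻¹ = y} ≤ 16 := by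
    rw [← hR, ← Nat.card_coe_set_eq]
    refine Nat.card_le_card_of_injective (fun y => (⟨y.1, ?_⟩ : R)) fun a b e =>
      Subtype.ext (congrArg (fun w : R => (w : G)) e)
    obtain ⟨g, hg, e⟩ := y.2
    obtain ⟨⟨k, hk⟩, hnc⟩ := hr
    refine ⟨⟨g * k, by rw [← conj_conj, hk, e]⟩, fun hc => hnc ?_⟩
    have := conj_comm g⁻¹ hc
    rwa [conj_eq_iff_comm.2 (S.H_inv (mem_cent.1 hg)),
      show g⁻¹ * y.1 * g⁻¹⁻¹ = r by rw [← e]; group] at this
  have := Nat.mul_le_mul hle hD60
  omega

end Setup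

end Cfsg.Agent.HJ
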