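import Cfsg.Agent.Lib.HJ.Local
import Cfsg.Agent.Lib.HJ.Count
import Cfsg.Agent.Lib.Transfer.Hall
import Cfsg.Agent.S3277

/-!
The centraliser of a non-central involution.
-/

set_option autoImplicit false
set_option linter.style.haveILetI false

open scoped commutatorElement

namespace Cfsg.Agent.HJ

/-- A subgroup of `A5` containing two stabilised four-groups is everything. -/
theorem eq_top_of_two (M : Subgroup A5) {i j : Fin 5} (hij : i ≠ j)
    (hi : ∀ e : A5, ap e i = i → e * e = 1 → e ∈ M)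
    (hj : ∀ e : A5, ap e j = j → e * e = 1 → e ∈ M) : M = ⊤ := by
  classical
  obtain ⟨⟨e3, f3, a1, a2, a3, a4, a5, a6⟩, ⟨e5, f5, b1, b2, b3, b4, b5, b6⟩⟩ :=
    pair_orders i j hij
  haveI : Fact (Nat.Prime 3) := ⟨Nat.prime_three⟩
  haveI : Fact (Nat.Prime 5) := ⟨by norm_num⟩
  have d3 : 3 ∣ Nat.card M := by
    have := Subgroup.orderOf_dvd_natCard M (M.mul_mem (hi e3 a1 a2) (hj f3 a3 a4))
    rwa [orderOf_eq_prime a5 a6] at this
  have d5 : 5 ∣ Nat.card M := by
    have := Subgroup.orderOf_dvd_natCard M (M.mul_mem (hi e5 b1 b2) (hj f5 b3 b4))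
    rwa [orderOf_eq_prime b5 b6] at this
  have d4 : 4 ∣ Nat.card M := by
    let V : Subgroup A5 :=
      { carrier := {σ | ap σ i = i ∧ σ * σ = 1}
        mul_mem' := fun {σ τ} hσ hτ => ⟨by
          show ap σ (ap τ i) = i
          rw [hτ.1, hσ.1], (stab_sq_mul i σ τ hσ.1 hτ.1 hσ.2 hτ.2).1⟩
        one_mem' := ⟨rfl, one_mul 1⟩
        inv_mem' := fun {σ} hσ => by
          simp only [Set.mem_setOf_eq, inv_of_sq hσ.2]; exact hσ }
    have hV : Nat.card V = 4 := by
      rw [← card_stab_invol i, Nat.card_eq_fintype_card, Fintype.card_subtype]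
      congr 1
      ext σ
      simp only [Finset.mem_filter, Finset.mem_univ, true_and]
      exact Iff.rfl
    exact hV ▸ Subgroup.card_dvd_of_le fun σ hσ => hi σ hσ.1 hσ.2
  have h60 : 60 ∣ Nat.card M := by
    exact (Nat.lcm_dvd (Nat.lcm_dvd d4 d3) d5 : Nat.lcm (Nat.lcm 4 3) 5 ∣ Nat.card M)
  exact Subgroup.eq_top_of_le_card _ (by
    rw [card_A5]; exact Nat.le_of_dvd Nat.card_pos h60)

variable {G : Type*} [Group G] [Finite G] {z : G} {Q : Subgroup G}
  {φ : ↥(Subgroup.centralizer ({z} : Set G)) →* A5} {u a x s : G}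

/-- The structure of the centraliser of the outer involution `s`. -/
structure CentData (z : G) (Q : Subgroup G) (u a x s : G) (K V : Subgroup G) : Prop where
  hV : ∀ v, v ∈ V ↔ v = 1 ∨ v = s ∨ v = x * s * x⁻¹ ∨ v = s * (x * s * x⁻¹)
  hK : K ≤ Subgroup.centralizer ({s} : Set G)
  comm : ∀ k ∈ K, ∀ v ∈ V, k * v = v * k
  decomp : ∀ c, c * s = s * c → ∃ k ∈ K, ∃ v ∈ V, c = k * v
  inter : ∀ v ∈ V, v ∈ K → v = 1
  zK : z ∈ K
  aK : a ∈ K
  shape : (Nonempty (K ≃* A5) ∧ (∀ k ∈ K, x * k = k * x)) ∨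
    (Nat.card K = 12 ∧ ∀ k ∈ K, k * k = 1 → k = 1 ∨ k = z ∨ k = u ∨ k = u * z)

theorem Setup.exists_cent (S : Setup z Q φ) (L : Loc z Q u a x s) :
    ∃ K V, CentData z Q u a x s K V := by
  classical
  haveI := Fintype.ofFinite G
  haveI : Fact (Nat.Prime 2) := ⟨Nat.prime_two⟩
  obtain ⟨hu, az, au, a3, x3, xz, xu, xa, sa, su, hs, hs', hss, hne, hcomm, hcyc⟩ := L
  obtain ⟨s', hs'def⟩ : ∃ s', s' = x * s * x⁻¹ := ⟨_, rfl⟩
  rw [← hs'def] at hs' hss hne hcomm hcyc
  have huz : u * z = z * u := S.Q_comm_z hu.1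
  have hu' := S.nci_mul_z hu
  have auz : a * (u * z) * a⁻¹ = z := by
    rw [conj_mul', au, az]
    calc u * z * u = z * (u * u) := by rw [huz]; group
      _ = z := by rw [hu.2.1, mul_one]
  have s'a : s' * a = a * s' := by
    rw [hs'def]
    have := conj_comm x sa
    rwa [conj_eq_iff_comm.2 xa] at this
  have s'u : s' * u = u * s' := by
    rw [hs'def]
    have := conj_comm x su
    rwa [conj_eq_iff_comm.2 xu] at this
  let memE : G → Prop := fun e => e = 1 ∨ e = z ∨ e = u ∨ e = u * z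
  let memV : G → Prop := fun v => v = 1 ∨ v = s ∨ v = s' ∨ v = s * s'
  have Vfacts : ∀ v, memV v → v * s = s * v ∧ v * u = u * v ∧ v * a = a * v ∧ v * z = z * v ∧
      v * v = 1 := by
    rintro v (rfl | rfl | rfl | rfl)
    · simp
    · exact ⟨rfl, su, sa, hs.1, hs.2.1⟩
    · exact ⟨hcomm.symm, s'u, s'a, hs'.1, hs'.2.1⟩
    · exact ⟨comm_mul rfl hcomm.symm, comm_mul su s'u, comm_mul sa s'a, hss.1, hss.2.1⟩
  have Vmul : ∀ v w, memV v → memV w → memV (v * w) := by
    have h1 := hs.2.1; have h2 := hs'.2.1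
    have e1 : s * (s * s') = s' := by rw [← mul_assoc, h1, one_mul]
    have e2 : s' * (s * s') = s := by rw [hcomm, ← mul_assoc, h2, one_mul]
    have e3 : s * s' * s = s' := by rw [hcomm, mul_assoc, h1, mul_one]
    have e4 : s * s' * s' = s := by rw [mul_assoc, h2, mul_one]
    rintro v w (rfl | rfl | rfl | rfl) (rfl | rfl | rfl | rfl) <;>
      simp [memV, h1, h2, e1, e2, e3, e4, ← hcomm, hss.2.1]
  have VQ : ∀ v, memV v → v ∈ Q → v = 1 := by
    rintro v (rfl | rfl | rfl | rfl) hv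
    exacts [rfl, absurd hv hs.2.2, absurd hv hs'.2.2, absurd hv hss.2.2]
  have Efacts : ∀ e, memE e → e ∈ Q ∧ e * z = z * e ∧ e * s = s * e ∧ e * e = 1 ∧ e * u = u * e := by
    rintro e (rfl | rfl | rfl | rfl)
    · simp [Q.one_mem]
    · exact ⟨S.zQ, rfl, hs.1.symm, S.zz, huz.symm⟩
    · exact ⟨hu.1, huz, su.symm, hu.2.1, rfl⟩
    · exact ⟨hu'.1, S.Q_comm_z hu'.1, comm_mul su.symm hs.1.symm, hu'.2.1,
        comm_mul rfl huz.symm⟩
  have EV : ∀ e v, memE e → memV v → e * v = v * e := by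
    intro e v he hv
    obtain ⟨-, h2, -, h4, -⟩ := Vfacts v hv
    rcases he with rfl | rfl | rfl | rfl
    · simp
    · exact h4.symm
    · exact h2.symm
    · exact comm_mul h2.symm h4.symm
  set U := Subgroup.centralizer ({z} : Set G) ⊓ Subgroup.centralizer ({s} : Set G) with hU
  have memU : ∀ y, y ∈ U ↔ y * z = z * y ∧ y * s = s * y := fun y => by
    simp [hU, Subgroup.mem_inf, mem_cent]
  have hUc : Nat.card U = 16 := S.card_CH_outer hs
  let EF : Finset G := {1, z, u, u * z}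
  let VF : Finset G := {1, s, s', s * s'}
  have mEF : ∀ e, e ∈ EF ↔ memE e := fun e => by simp [EF, memE]
  have mVF : ∀ v, v ∈ VF ↔ memV v := fun v => by simp [VF, memV]
  have EFc : EF.card = 4 := by
    rw [Finset.card_insert_of_notMem (by simp [Ne.symm S.zne, Ne.symm hu.2.2.1, Ne.symm hu'.2.2.1]),
      Finset.card_insert_of_notMem (by simp [Ne.symm hu.2.2.2, Ne.symm hu'.2.2.2]),
      Finset.card_pair (S.ne_mul_z u)]
  have VFc : VF.card = 4 := by
    have n0 : ∀ {w}, Outer z Q w → (1 : G) ≠ w := fun hw h => hw.2.2 (h ▸ Q.one_mem)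
    have n1 : s ≠ s * s' := fun h => n0 hs' (mul_left_cancel ((mul_one s).trans h))
    have n2 : s' ≠ s * s' := fun h => n0 hs (mul_right_cancel ((one_mul s').trans h))
    rw [Finset.card_insert_of_notMem (by simp [n0 hs, n0 hs', n0 hss]),
      Finset.card_insert_of_notMem (by simp [Ne.symm hne, n1]), Finset.card_pair n2]
  have hUset : ∀ y ∈ U, ∃ e v, memE e ∧ memV v ∧ y = e * v := by
    intro y hy
    let f : G × G → G := fun p => p.1 * p.2
    have hsub : (EF ×ˢ VF).image f ⊆ (Finset.univ.filter fun w => w ∈ U) := by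
      intro w hw
      simp only [Finset.mem_image, Finset.mem_product, f] at hw
      obtain ⟨⟨e, v⟩, ⟨he, hv⟩, rfl⟩ := hw
      obtain ⟨-, e2, e3, -, -⟩ := Efacts e ((mEF e).1 he)
      obtain ⟨v1, -, -, v4, -⟩ := Vfacts v ((mVF v).1 hv)
      rw [Finset.mem_filter, memU]
      exact ⟨Finset.mem_univ _, comm_mul e2 v4, comm_mul e3 v1⟩
    have hinj : Set.InjOn f ↑(EF ×ˢ VF) := by
      rintro ⟨e, v⟩ h1 ⟨e', v'⟩ h2 h
      simp only [Finset.coe_product, Set.mem_prod, Finset.mem_coe, mEF, mVF] at h1 h2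
      have hv'i : v'⁻¹ = v' := inv_of_sq (Vfacts v' h2.2).2.2.2.2
      have hq : e'⁻¹ * e = v' * v⁻¹ := by
        simp only [f] at h
        rw [eq_mul_inv_iff_mul_eq, mul_assoc, h, inv_mul_cancel_left]
      have hmem : v' * v⁻¹ ∈ Q := by
        rw [← hq]; exact Q.mul_mem (Q.inv_mem (Efacts e' h2.1).1) (Efacts e h1.1).1
      have hvi : v⁻¹ = v := inv_of_sq (Vfacts v h1.2).2.2.2.2
      rw [hvi] at hmem
      have h3 := VQ _ (Vmul _ _ h2.2 h1.2) hmem
      rw [hvi, h3] at hq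
      rw [mul_eq_one_iff_eq_inv, hvi] at h3
      exact Prod.ext (inv_mul_eq_one.1 hq).symm h3.symm
    have heq := Finset.eq_of_subset_of_card_le hsub (by
      rw [Finset.card_image_of_injOn hinj, Finset.card_product, EFc, VFc]
      rw [Nat.card_eq_fintype_card, Fintype.card_subtype] at hUc
      omega)
    have : y ∈ Finset.univ.filter fun w => w ∈ U := by simp [hy]
    rw [← heq] at this
    simp only [Finset.mem_image, Finset.mem_product, f, mEF, mVF] at this
    obtain ⟨⟨e, v⟩, ⟨he, hv⟩, rfl⟩ := this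
    exact ⟨e, v, he, hv, rfl⟩
  have Ucomm : ∀ p ∈ U, ∀ q ∈ U, p * q = q * p := by
    intro p hp q hq
    obtain ⟨e, v, he, hv, rfl⟩ := hUset p hp
    obtain ⟨e', v', he', hv', rfl⟩ := hUset q hq
    have hee : e * e' = e' * e := by
      have h := Efacts e he; have h' := Efacts e' he'
      rcases he' with rfl | rfl | rfl | rfl
      · simp
      · exact h.2.1
      · exact h.2.2.2.2
      · exact (comm_mul h.2.2.2.2.symm h.2.1.symm).symm
    have hvv : v * v' = v' * v := by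
      have h := (Vfacts _ (Vmul v v' hv hv')).2.2.2.2
      calc v * v' = (v * v')⁻¹ := (inv_of_sq h).symm
        _ = v' * v := by
            rw [mul_inv_rev, inv_of_sq (Vfacts v hv).2.2.2.2, inv_of_sq (Vfacts v' hv').2.2.2.2]
    calc e * v * (e' * v') = e * (v * e') * v' := by group
      _ = e * e' * (v * v') := by rw [← EV e' v he' hv]; group
      _ = e' * e * (v' * v) := by rw [hee, hvv]
      _ = e' * (e * v') * v := by group
      _ = e' * v' * (e * v) := by rw [EV e v' he hv']; group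
  have UQ : ∀ y ∈ U, y ∈ Q → memE y := by
    intro y hy hyQ
    obtain ⟨e, v, he, hv, rfl⟩ := hUset y hy
    have := VQ v hv (by
      rw [show v = e⁻¹ * (e * v) by group]
      exact Q.mul_mem (Q.inv_mem (Efacts e he).1) hyQ)
    rw [this, mul_one]; exact he
  have EU : ∀ e, memE e → e ∈ U := fun e he => (memU e).2 ⟨(Efacts e he).2.1, (Efacts e he).2.2.1⟩
  have VU : ∀ v, memV v → v ∈ U := fun v hv => (memU v).2 ⟨(Vfacts v hv).2.2.2.1, (Vfacts v hv).1⟩
  have aE : ∀ e, memE e → memE (a * e * a⁻¹) := by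
    rintro e (rfl | rfl | rfl | rfl)
    · left; group
    · exact Or.inr (Or.inr (Or.inl az))
    · exact Or.inr (Or.inr (Or.inr au))
    · exact Or.inr (Or.inl auz)
  have ajU : ∀ j : ℕ, ∀ e v, memE e → memV v →
      ∃ e', memE e' ∧ a ^ j * (e * v) * (a ^ j)⁻¹ = e' * v := by
    intro j
    induction j with
    | zero => intro e v he _; exact ⟨e, he, by simp⟩
    | succ j ih =>
      intro e v he hv
      obtain ⟨e', he', h⟩ := ih e v he hv
      refine ⟨a * e' * a⁻¹, aE e' he', ?_⟩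
      rw [pow_succ', ← conj_conj, h, conj_mul', conj_eq_iff_comm.2 (Vfacts v hv).2.2.1.symm]
  -- normalising elements
  have norm : ∀ n, n * s = s * n → (∀ y ∈ U, n * y * n⁻¹ ∈ U) →
      ∃ j : ℕ, j < 3 ∧ (a ^ j)⁻¹ * n ∈ U := by
    intro n hns hn
    have hz : n * z * n⁻¹ ∈ U := hn z (EU z (Or.inr (Or.inl rfl)))
    have hzE := UQ _ hz (S.conj_z_inQ ((memU _).1 hz).1 ⟨n, rfl⟩)
    obtain ⟨j, hj, hje⟩ : ∃ j : ℕ, j < 3 ∧ a ^ j * z * (a ^ j)⁻¹ = n * z * n⁻¹ := by
      rcases hzE with e | e | e | e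
      · exact absurd e (conj_ne_one n S.zne)
      · exact ⟨0, by norm_num, by rw [e]; simp⟩
      · exact ⟨1, by norm_num, by rw [e, pow_one, az]⟩
      · exact ⟨2, by norm_num, by rw [e, pow_two, ← conj_conj, az, au]⟩
    refine ⟨j, hj, (memU _).2 ⟨?_, ?_⟩⟩
    · rw [← conj_eq_iff_comm, ← conj_conj, ← hje]; group
    · exact comm_mul ((show Commute a s from sa.symm).pow_left j).inv_left hns
  -- `U` is a Sylow subgroup of the centraliser
  set C := Subgroup.centralizer ({s} : Set G) with hC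
  have hUC : U ≤ C := inf_le_right
  set U0 : Subgroup ↥C := U.subgroupOf C with hU0
  have hU0c : Nat.card U0 = 16 := by
    rw [hU0, Nat.card_congr (Subgroup.subgroupOfEquivOfLe hUC).toEquiv, hUc]
  have memU0 : ∀ (y : ↥C), y ∈ U0 ↔ (y : G) ∈ U := fun y => Subgroup.mem_subgroupOf
  have hU0p : IsPGroup 2 U0 := IsPGroup.of_card (n := 4) (by rw [hU0c]; norm_num)
  obtain ⟨P, hUP⟩ := hU0p.exists_le_sylow
  have hPU : (P : Subgroup ↥C) = U0 := by
    by_contra hne
    have hlt : U0.subgroupOf (P : Subgroup ↥C) < ⊤ :=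
      lt_top_iff_ne_top.2 fun h => hne (le_antisymm (Subgroup.subgroupOf_eq_top.1 h) hUP)
    haveI : Group.IsNilpotent (P : Subgroup ↥C) := P.2.isNilpotent
    obtain ⟨⟨⟨n, hnC⟩, hnP⟩, hnN, hnU⟩ := SetLike.exists_of_lt
      (Group.normalizerCondition_of_isNilpotent (G := (P : Subgroup ↥C)) _ hlt)
    apply hnU
    rw [Subgroup.mem_subgroupOf, memU0]
    show n ∈ U
    obtain ⟨j, hj, hjU⟩ := norm n (mem_cent.1 hnC) (fun y hy => by
      have h1 := (Subgroup.mem_normalizer_iff.1 hnN ⟨⟨y, hUC hy⟩, hUP ((memU0 _).2 hy)⟩).1 (by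
        rw [Subgroup.mem_subgroupOf, memU0]; exact hy)
      rw [Subgroup.mem_subgroupOf, memU0] at h1
      exact h1)
    have hajC : a ^ j ∈ C := mem_cent.2 ((show Commute a s from sa.symm).pow_left j)
    have hajP : (⟨a ^ j, hajC⟩ : ↥C) ∈ (P : Subgroup ↥C) := by
      have h3 : (⟨a ^ j, hajC⟩ : ↥C) = ⟨n, hnC⟩ * (⟨(a ^ j)⁻¹ * n, hUC hjU⟩ : ↥C)⁻¹ := by
        apply Subtype.ext; show a ^ j = n * ((a ^ j)⁻¹ * n)⁻¹; group
      rw [h3]
      exact (P : Subgroup ↥C).mul_mem hnP ((P : Subgroup ↥C).inv_mem (hUP ((memU0 _).2 hjU)))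
    obtain ⟨k, hk⟩ := P.2 ⟨_, hajP⟩
    have hk' : (a ^ j) ^ (2 ^ k) = 1 := congrArg (fun w : (P : Subgroup ↥C) => ((w : ↥C) : G)) hk
    have h3' : (a ^ j) ^ 3 = 1 := by rw [← pow_mul, mul_comm, pow_mul, a3, one_pow]
    have hone : a ^ j = 1 := by
      rw [← pow_one (a ^ j)]
      have := pow_gcd_eq_one.2 ⟨h3', hk'⟩
      rwa [Nat.Coprime.gcd_eq_one ((by norm_num : Nat.Coprime 3 2).pow_right k)] at this
    rw [hone, inv_one, one_mul] at hjU
    exact hjU
  have hodd : Nat.Coprime (Nat.card U0) U0.index := by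
    rw [hU0c, show (16 : ℕ) = 2 ^ 4 from rfl]
    refine ((Nat.prime_two.coprime_iff_not_dvd).2 ?_).pow_left 4
    rw [← hPU]; exact P.not_dvd_index
  have hU0comm : IsMulCommutative U0 := ⟨⟨fun p q => Subtype.ext (Subtype.ext
    (Ucomm _ (Subgroup.mem_subgroupOf.1 p.2) _ (Subgroup.mem_subgroupOf.1 q.2)))⟩⟩
  have hcop := TransferHall.coprime_of_hall U0 hodd
  -- the focal subgroup
  have foc : ∀ y ∈ U0.focalSubgroup, memE (y : G) := by
    intro y hy
    rw [Subgroup.focalSubgroup_def] at hy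
    induction hy using Subgroup.closure_induction with
    | mem y hy =>
      obtain ⟨hyU, p, hp, c, rfl⟩ := hy
      haveI : IsMulCommutative (P : Subgroup ↥C) := hPU ▸ hU0comm
      have h1 : c * p⁻¹ * c⁻¹ ∈ (P : Subgroup ↥C) := by
        rw [hPU]
        have := U0.mul_mem (U0.inv_mem hp) hyU
        rwa [show p⁻¹ * ⁅p, c⁆ = c * p⁻¹ * c⁻¹ by rw [commutatorElement_def]; group] at this
      obtain ⟨n, hn, hnc⟩ := P.conj_eq_normalizer_conj_of_mem p⁻¹ c⁻¹
        (by show p⁻¹ ∈ (P : Subgroup ↥C); rw [hPU]; exact U0.inv_mem hp)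
        (by show c⁻¹⁻¹ * p⁻¹ * c⁻¹ ∈ (P : Subgroup ↥C); rw [inv_inv]; exact h1)
      obtain ⟨j, -, hjU⟩ := norm ((n : ↥C)⁻¹ : ↥C) (mem_cent.1 (n⁻¹ : ↥C).2) (fun y hy => by
        have h2 := (Subgroup.mem_normalizer_iff.1 (inv_mem hn) (⟨y, hUC hy⟩ : ↥C)).1
          (by rw [hPU, memU0]; exact hy)
        rw [hPU, memU0] at h2
        exact h2)
      have hpU : ((p : ↥C) : G)⁻¹ ∈ U := U.inv_mem (Subgroup.mem_subgroupOf.1 hp)
      obtain ⟨e, v, he, hv, hev⟩ := hUset _ hpU
      obtain ⟨e', he', hj⟩ := ajU j e v he hv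
      have hq : (((c * p⁻¹ * c⁻¹ : ↥C)) : G) = e' * v := by
        have : (c * p⁻¹ * c⁻¹ : ↥C) = n⁻¹ * p⁻¹ * n := by simpa using hnc
        rw [this, ← hj]
        show ((n : ↥C) : G)⁻¹ * ((p : ↥C) : G)⁻¹ * (n : G) = _
        rw [hev]
        have hk := Ucomm _ hjU _ (hev ▸ hpU)
        calc (n : G)⁻¹ * (e * v) * (n : G)
            = a ^ j * ((a ^ j)⁻¹ * (n : G)⁻¹ * (e * v)) * (n : G) := by group
          _ = a ^ j * ((e * v) * ((a ^ j)⁻¹ * (n : G)⁻¹)) * (n : G) := by
              rw [show ((a ^ j)⁻¹ * (n : G)⁻¹) * (e * v) = e * v * ((a ^ j)⁻¹ * (n : G)⁻¹) from hk]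
          _ = _ := by group
      show memE ((⁅p, c⁆ : ↥C) : G)
      rw [show (⁅p, c⁆ : ↥C) = p * (c * p⁻¹ * c⁻¹) by rw [commutatorElement_def]; group,
        Subgroup.coe_mul, hq]
      have hp' : ((p : ↥C) : G) = e * v := by
        rw [← inv_inv ((p : ↥C) : G), hev, mul_inv_rev, inv_of_sq (Efacts e he).2.2.2.1,
          inv_of_sq (Vfacts v hv).2.2.2.2, EV e v he hv]
      rw [hp', show e * v * (e' * v) = e * (v * e') * v by group, ← EV e' v he' hv,
        show e * (e' * v) * v = e * e' * (v * v) by group, (Vfacts v hv).2.2.2.2, mul_one]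
      exact UQ _ (U.mul_mem (EU e he) (EU e' he')) (Q.mul_mem (Efacts e he).1 (Efacts e' he').1)
    | one => exact Or.inl rfl
    | mul p q _ _ hp hq =>
      exact UQ _ (U.mul_mem (EU _ hp) (EU _ hq)) (Q.mul_mem (Efacts _ hp).1 (Efacts _ hq).1)
    | inv p _ hp =>
      rw [Subgroup.coe_inv, inv_of_sq (Efacts _ hp).2.2.2.1]; exact hp
  have haC : a ∈ C := mem_cent.2 sa.symm
  set K0 := U0.transferFocal.ker with hK0
  have hK0U := TransferHall.ker_transferFocal_inf U0 hcop
  have hK0top := TransferHall.ker_transferFocal_sup U0 hcop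
  haveI : K0.Normal := MonoidHom.normal_ker _
  -- the four-group lies in the kernel
  have gen : ∀ e, memE e → ∀ hec : e ∈ C, (⟨e, hec⟩ : ↥C) ∈ U0.focalSubgroup →
      (⟨e, hec⟩ : ↥C) ∈ K0 := fun e _ hec h => (hK0U.ge h).1
  have comm_mem : ∀ w, memE w → memE (w * (a * w⁻¹ * a⁻¹)) →
      ∃ hc : w * (a * w⁻¹ * a⁻¹) ∈ C, (⟨_, hc⟩ : ↥C) ∈ U0.focalSubgroup := by
    intro w hw hr
    refine ⟨hUC (EU _ hr), Subgroup.subset_closure ⟨?_, ⟨w, hUC (EU w hw)⟩, ?_, ⟨a, haC⟩, ?_⟩⟩
    · exact (memU0 _).2 (EU _ hr)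
    · exact (memU0 _).2 (EU w hw)
    · apply Subtype.ext
      show w * (a * w⁻¹ * a⁻¹) = _
      simp only [commutatorElement_def, Subgroup.coe_mul, Subgroup.coe_inv]; group
  have EK0 : ∀ e, memE e → ∀ hec : e ∈ C, (⟨e, hec⟩ : ↥C) ∈ K0 := by
    intro e he hec
    have w1 : z * (a * z⁻¹ * a⁻¹) = u * z := by rw [S.zinv, az, huz]
    have w2 : u * (a * u⁻¹ * a⁻¹) = z := by
      rw [inv_of_sq hu.2.1, au, ← mul_assoc, hu.2.1, one_mul]
    have w3 : u * z * (a * (u * z)⁻¹ * a⁻¹) = u := by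
      rw [inv_of_sq hu'.2.1, auz, S.mul_z_z]
    rcases he with e1 | e1 | e1 | e1 <;> simp only [e1]
    · exact K0.one_mem
    · obtain ⟨hc, hm⟩ := comm_mem u (Or.inr (Or.inr (Or.inl rfl))) (by rw [w2]; exact Or.inr (Or.inl rfl))
      simp only [w2] at hm
      exact (hK0U.ge hm).1
    · obtain ⟨hc, hm⟩ := comm_mem (u * z) (Or.inr (Or.inr (Or.inr rfl)))
        (by rw [w3]; exact Or.inr (Or.inr (Or.inl rfl)))
      simp only [w3] at hm
      exact (hK0U.ge hm).1
    · obtain ⟨hc, hm⟩ := comm_mem z (Or.inr (Or.inl rfl))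
        (by rw [w1]; exact Or.inr (Or.inr (Or.inr rfl)))
      simp only [w1] at hm
      exact (hK0U.ge hm).1
  set K := K0.map C.subtype with hKdef
  have hKC : K ≤ C := Subgroup.map_subtype_le _
  have memK : ∀ {k}, k ∈ K ↔ ∃ hk : k ∈ C, (⟨k, hk⟩ : ↥C) ∈ K0 := by
    intro k
    constructor
    · rintro ⟨⟨k', hk'⟩, hm, rfl⟩; exact ⟨hk', hm⟩
    · rintro ⟨hk, hm⟩; exact ⟨⟨k, hk⟩, hm, rfl⟩
  have EK : ∀ e, memE e → e ∈ K := fun e he => memK.2 ⟨hUC (EU e he), EK0 e he _⟩
  have KU : ∀ k ∈ K, k ∈ U → memE k := by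
    intro k hk hkU
    obtain ⟨hkC, hm⟩ := memK.1 hk
    exact foc _ (hK0U.le ⟨hm, (memU0 _).2 hkU⟩)
  have hdec : ∀ c, c * s = s * c → ∃ k ∈ K, ∃ v, memV v ∧ c = k * v := by
    intro c hc
    have hcm : (⟨c, mem_cent.2 hc⟩ : ↥C) ∈ K0 ⊔ U0 := hK0top ▸ Subgroup.mem_top _
    rw [← SetLike.mem_coe, Subgroup.normal_mul] at hcm
    obtain ⟨⟨k, hkC⟩, hk, ⟨y, hyC⟩, hy, heq⟩ := hcm
    have heq' : k * y = c := congrArg Subtype.val heq
    obtain ⟨e, v, he, hv, rfl⟩ := hUset y ((memU0 _).1 hy)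
    exact ⟨k * e, K.mul_mem (memK.2 ⟨hkC, hk⟩) (EK e he), v, hv, by rw [mul_assoc, heq']⟩
  have hKz : K ⊓ Subgroup.centralizer ({z} : Set G) =
      K ⊓ U := by
    rw [hU]
    exact le_antisymm (le_inf inf_le_left (le_inf inf_le_right (inf_le_left.trans hKC)))
      (inf_le_inf_left _ inf_le_left)
  have hKzset : ∀ k, k ∈ K ⊓ U ↔ memE k :=
    fun k => ⟨fun h => KU k h.1 h.2, fun h => ⟨EK k h, EU k h⟩⟩
  have hKU4 : Nat.card ↥(K ⊓ U) = 4 := by
    rw [Nat.card_eq_fintype_card, Fintype.card_subtype, ← EFc]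
    congr 1
    ext k
    simp [mEF, hKzset, -Subgroup.mem_inf]
  have hVVU : ∀ v, memV v → v ∈ K → v = 1 := fun v hv hk =>
    VQ v hv (Efacts v (KU v hk (VU v hv))).1
  -- `a` lies in the kernel
  have haK : a ∈ K := by
    obtain ⟨k, hk, v, hv, hkv⟩ := hdec a sa.symm
    have hvC : v ∈ C := hUC (VU v hv)
    have hkC := hKC hk
    obtain ⟨_, hk0⟩ := memK.1 hk
    have hq : (⟨a, haC⟩ : ↥C) = ⟨k, hkC⟩ * ⟨v, hvC⟩ := Subtype.ext hkv
    let π := QuotientGroup.mk' K0
    have h1 : π ⟨a, haC⟩ = π ⟨v, hvC⟩ := by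
      rw [hq, map_mul, show π ⟨k, hkC⟩ = 1 from (QuotientGroup.eq_one_iff _).2 hk0, one_mul]
    have h2 : π ⟨a, haC⟩ ^ 2 = 1 := by
      rw [h1, ← map_pow, show (⟨v, hvC⟩ : ↥C) ^ 2 = 1 from Subtype.ext (by
        show v ^ 2 = 1; rw [pow_two]; exact (Vfacts v hv).2.2.2.2), map_one]
    have h3 : π ⟨a, haC⟩ ^ 3 = 1 := by
      rw [← map_pow, show (⟨a, haC⟩ : ↥C) ^ 3 = 1 from Subtype.ext a3, map_one]
    have h4 : π ⟨a, haC⟩ = 1 := by
      rw [pow_succ, h2, one_mul] at h3; exact h3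
    exact memK.2 ⟨haC, (QuotientGroup.eq_one_iff _).1 h4⟩
  let V : Subgroup G :=
    { carrier := {v | memV v}
      mul_mem' := fun {v w} hv hw => Vmul v w hv hw
      one_mem' := Or.inl rfl
      inv_mem' := fun {v} hv => by
        rw [Set.mem_setOf_eq, inv_of_sq (Vfacts v hv).2.2.2.2]; exact hv }
  by_cases hnorm : ∀ k ∈ K, ∀ e, memE e → memE (k * e * k⁻¹)
  · -- the order is twelve
    have form : ∀ k ∈ K, ∃ j : ℕ, ∃ e, memE e ∧ k = a ^ j * e := by
      intro k hk
      have hzE : memE (k * z * k⁻¹) := hnorm k hk z (Or.inr (Or.inl rfl))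
      have hcases : ∃ j : ℕ, j < 3 ∧ a ^ j * z * (a ^ j)⁻¹ = k * z * k⁻¹ := by
        rcases hzE with e | e | e | e
        · exact absurd e (conj_ne_one k S.zne)
        · exact ⟨0, by norm_num, by rw [e]; simp⟩
        · exact ⟨1, by norm_num, by rw [e, pow_one, az]⟩
        · exact ⟨2, by norm_num, by rw [e, pow_two, ← conj_conj, az, au]⟩
      obtain ⟨j, -, hje⟩ := hcases
      refine ⟨j, (a ^ j)⁻¹ * k, ?_, (mul_inv_cancel_left _ k).symm⟩
      refine KU _ (K.mul_mem (K.inv_mem (K.pow_mem haK j)) hk) ((memU _).2 ⟨?_, ?_⟩)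
      · rw [← conj_eq_iff_comm, ← conj_conj, ← hje]; group
      · exact comm_mul ((show Commute a s from sa.symm).pow_left j).inv_left (mem_cent.1 (hKC hk))
    have h12 : Nat.card K = 12 := by
      have h := card_conj_orbit K z
      rw [hKz, hKU4] at h
      have h3 : Nat.card {y : G // ∃ k ∈ K, k * z * k⁻¹ = y} = 3 := by
        rw [Nat.card_eq_fintype_card, Fintype.card_subtype,
          show (3 : ℕ) = ({z, u, u * z} : Finset G).card from (Finset.card_eq_three.2
            ⟨z, u, u * z, Ne.symm hu.2.2.2, Ne.symm hu'.2.2.2, S.ne_mul_z u, rfl⟩).symm]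
        congr 1
        ext y
        simp only [Finset.mem_filter, Finset.mem_univ, true_and, Finset.mem_insert,
          Finset.mem_singleton]
        constructor
        · rintro ⟨k, hk, rfl⟩
          exact (hnorm k hk z (Or.inr (Or.inl rfl))).resolve_left (conj_ne_one k S.zne)
        · rintro (rfl | rfl | rfl)
          · exact ⟨1, K.one_mem, by simp⟩
          · exact ⟨a, haK, az⟩
          · exact ⟨a * a, K.mul_mem haK haK, by rw [← conj_conj, az, au]⟩
      rw [h3] at h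
      omega
    refine ⟨K, V, ⟨fun v => by rw [← hs'def]; rfl, hKC, ?_, hdec, fun v hv hk => hVVU v hv hk,
      EK z (Or.inr (Or.inl rfl)), haK, Or.inr ⟨h12, ?_⟩⟩⟩
    · intro k hk v hv
      obtain ⟨j, e, he, rfl⟩ := form k hk
      exact comm_mul ((show Commute a v from (Vfacts v hv).2.2.1.symm).pow_left j) (EV e v he hv)
    · intro k hk hk2
      obtain ⟨j, e, he, rfl⟩ := form k hk
      have hfix : a ^ j = 1 := by
        obtain ⟨e', he', h1⟩ := ajU j e 1 he (Or.inl rfl)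
        rw [mul_one, mul_one] at h1
        have h2 : e' * (a ^ j * a ^ j) * e = 1 := by
          rw [← h1, ← hk2]; group
        have hE2 : a ^ j * a ^ j = e' * e := by
          calc a ^ j * a ^ j = e'⁻¹ * (e' * (a ^ j * a ^ j) * e) * e⁻¹ := by group
            _ = e' * e := by
              rw [h2, inv_of_sq (Efacts e he).2.2.2.1, inv_of_sq (Efacts e' he').2.2.2.1, mul_one]
        have hh : (e' * e) * (e' * e) = 1 := (Efacts _ (UQ _ (U.mul_mem (EU e' he') (EU e he))
          (Q.mul_mem (Efacts e' he').1 (Efacts e he).1))).2.2.2.1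
        rw [← hE2] at hh
        calc a ^ j = a ^ j * (a ^ 3) ^ j := by rw [a3, one_pow, mul_one]
          _ = a ^ j * a ^ j * (a ^ j * a ^ j) := by
            simp only [← pow_mul, ← pow_add]; congr 1; omega
          _ = 1 := hh
      rw [hfix, one_mul]; exact he
  · -- otherwise the alternating group of degree five
    push Not at hnorm
    obtain ⟨k₀, hk₀, e₀, he₀, hbad⟩ := hnorm
    have hzK : (⟨z, EK z (Or.inr (Or.inl rfl))⟩ : ↥K) ≠ 1 := fun h => S.zne (congrArg Subtype.val h)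
    have hcentK : ∀ k : ↥K, k * ⟨z, EK z (Or.inr (Or.inl rfl))⟩ =
        ⟨z, EK z (Or.inr (Or.inl rfl))⟩ * k ↔ memE (k : G) := by
      intro k
      constructor
      · intro h
        exact KU _ k.2 ((memU _).2 ⟨congrArg Subtype.val h, mem_cent.1 (hKC k.2)⟩)
      · intro h
        exact Subtype.ext ((memU _).1 (EU _ h)).1
    have hx : orderOf (⟨z, EK z (Or.inr (Or.inl rfl))⟩ : ↥K) = 2 :=
      orderOf_eq_two_iff'.2 ⟨Subtype.ext S.zz, hzK⟩
    have hC4 : Nat.card ↥(Subgroup.centralizer ({⟨z, EK z (Or.inr (Or.inl rfl))⟩} : Set ↥K)) = 4 := by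
      rw [← hKU4]
      exact Nat.card_congr
        { toFun := fun k => ⟨(k.1 : G), (hKzset _).2 ((hcentK k.1).1 (mem_cent.1 k.2))⟩
          invFun := fun k => ⟨⟨k.1, k.2.1⟩, mem_cent.2 ((hcentK _).2 ((hKzset _).1 k.2))⟩
          left_inv := fun k => rfl
          right_inv := fun k => rfl }
    have hCe : ∀ c ∈ Subgroup.centralizer ({⟨z, EK z (Or.inr (Or.inl rfl))⟩} : Set ↥K),
        c ^ 2 = 1 := fun c hc => Subtype.ext (by
      show (c : G) ^ 2 = 1
      rw [pow_two]
      exact (Efacts _ ((hcentK c).1 (mem_cent.1 hc))).2.2.2.1)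
    -- the Sylow subgroups have order four
    have hCcard : Nat.card C = 4 * Nat.card K := by
      have hbij : Function.Bijective (fun p : K × V => (⟨(p.1 : G) * p.2, C.mul_mem (hKC p.1.2)
          (hUC (VU _ p.2.2))⟩ : ↥C)) := by
        constructor
        · rintro ⟨⟨k, hk⟩, ⟨v, hv⟩⟩ ⟨⟨k', hk'⟩, ⟨v', hv'⟩⟩ h
          have h' : k * v = k' * v' := congrArg Subtype.val h
          have hvv : v * v'⁻¹ ∈ K := by
            rw [show v * v'⁻¹ = k⁻¹ * k' by
              rw [mul_inv_eq_iff_eq_mul, mul_assoc, ← h', inv_mul_cancel_left]]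
            exact K.mul_mem (K.inv_mem hk) hk'
          have he := hVVU _ (V.mul_mem hv (V.inv_mem hv')) hvv
          rw [mul_inv_eq_one] at he
          subst he
          simp only [mul_left_inj] at h'
          subst h'
          rfl
        · rintro ⟨c, hc⟩
          obtain ⟨k, hk, v, hv, rfl⟩ := hdec c (mem_cent.1 hc)
          exact ⟨⟨⟨k, hk⟩, ⟨v, hv⟩⟩, rfl⟩
      rw [← Nat.card_congr (Equiv.ofBijective _ hbij), Nat.card_prod, mul_comm]
      congr 1
      rw [← VFc, Nat.card_eq_fintype_card, Fintype.card_subtype]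
      congr 1
      ext v
      simp only [Finset.mem_filter, Finset.mem_univ, true_and, mVF]
      exact Iff.rfl
    have h4K : ∀ R : Sylow 2 ↥K, Nat.card (R : Subgroup ↥K) = 4 := by
      intro R
      have h1 := U0.card_mul_index
      rw [hU0c] at h1
      have h2 : ¬ 2 ∣ U0.index := by rw [← hPU]; exact P.not_dvd_index
      rw [R.card_eq_multiplicity, show Nat.card K = 2 ^ 2 * U0.index by omega,
        Nat.factorization_mul (a := 2 ^ 2) (b := U0.index) (by norm_num)
          (fun h => h2 (by rw [h]; exact dvd_zero 2)),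
        Finsupp.add_apply, Nat.factorization_pow_self Nat.prime_two,
        Nat.factorization_eq_zero_of_not_dvd h2]
      norm_num
    let E0 : Subgroup ↥K := (K ⊓ U).subgroupOf K
    have hE0 : Nat.card E0 = 4 := by
      rw [Nat.card_congr (Subgroup.subgroupOfEquivOfLe inf_le_left).toEquiv, hKU4]
    obtain ⟨R, hR⟩ := (IsPGroup.of_card (p := 2) (n := 2) (G := E0) (by rw [hE0]; norm_num)).exists_le_sylow
    have hRE : (R : Subgroup ↥K) = E0 :=
      (Subgroup.eq_of_le_of_card_ge hR (by rw [hE0, h4K R])).symm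
    have hamove : ∀ n : ↥K, n * ⟨a, haK⟩ = ⟨a, haK⟩ * n → memE (n : G) → n = 1 := by
      intro n hna he
      have h1 : a * (n : G) * a⁻¹ = n :=
        conj_eq_iff_comm.2 (congrArg Subtype.val hna).symm
      rcases he with h | h | h | h
      · exact Subtype.ext h
      · rw [h, az] at h1; exact absurd h1 hu.2.2.2
      · rw [h, au] at h1; exact absurd h1.symm (S.ne_mul_z u)
      · rw [h, auz] at h1; exact absurd h1.symm hu'.2.2.2
    have hne : ∀ N : Subgroup ↥K, N.Normal → Cfsg.IsElementaryAbelian 2 N →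
        Nat.card N ≠ 2 ∧ Nat.card N ≠ 4 := by
      intro N hN hel
      refine ⟨fun h2 => ?_, fun h4 => ?_⟩
      · obtain ⟨⟨n, hn⟩, hn1, huniq⟩ := (Nat.card_eq_two_iff' (1 : N)).1 h2
        have hcent : ∀ k : ↥K, n * k = k * n := by
          intro k
          have hk := hN.conj_mem n hn k
          have hall : ∀ w : N, w = 1 ∨ w = ⟨n, hn⟩ := fun w =>
            (em (w = 1)).imp id (fun h => huniq w h)
          rcases hall ⟨_, hk⟩ with e | e
          · exact absurd (conj_eq_one_iff.1 (congrArg Subtype.val e)) (fun h => hn1 (Subtype.ext h))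
          · exact (conj_eq_iff_comm.1 (congrArg Subtype.val e)).symm
        exact hn1 (Subtype.ext (hamove n (hcent _) ((hcentK n).1 (hcent _))))
      · have hle := (IsPGroup.of_card (p := 2) (n := 2) (G := N) (by rw [h4]; norm_num)).le_sylow_of_normal R
        rw [hRE] at hle
        have hNE := Subgroup.eq_of_le_of_card_ge hle (by rw [hE0, h4])
        have he0K : (⟨e₀, EK e₀ he₀⟩ : ↥K) ∈ N := by
          rw [hNE, Subgroup.mem_subgroupOf]; exact (hKzset _).2 he₀
        have := hN.conj_mem _ he0K ⟨k₀, hk₀⟩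
        rw [hNE, Subgroup.mem_subgroupOf] at this
        exact hbad ((hKzset _).1 this)
    have hnc : ¬ Cfsg.HasNormalPComplement 2 ↥K := by
      rintro ⟨R', N, hN, hcompl⟩
      haveI := hN
      have hidx : N.index = 4 := by rw [hcompl.symm.index_eq_card, h4K R']
      have hmul := N.card_mul_index
      rw [hidx] at hmul
      have hNodd : ¬ 2 ∣ Nat.card N := by
        have h1 := U0.card_mul_index
        rw [hU0c] at h1
        have h2 : ¬ 2 ∣ U0.index := by rw [← hPU]; exact P.not_dvd_index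
        rwa [show Nat.card N = U0.index by omega]
      have hq4 : ∀ w : ↥K ⧸ N, w ^ 4 = 1 := fun w => by
        have h : Nat.card (↥K ⧸ N) = 4 := hidx
        rw [← h]; exact pow_card_eq_one'
      have haN : (⟨a, haK⟩ : ↥K) ∈ N := by
        rw [← QuotientGroup.eq_one_iff]
        have h3 : ((⟨a, haK⟩ : ↥K) : ↥K ⧸ N) ^ 3 = 1 := by
          rw [← QuotientGroup.mk_pow, show (⟨a, haK⟩ : ↥K) ^ 3 = 1 from Subtype.ext a3]; rfl
        have := hq4 ((⟨a, haK⟩ : ↥K) : ↥K ⧸ N)
        rw [pow_succ, h3, one_mul] at this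
        exact this
      have hzC : z ∈ K := EK z (Or.inr (Or.inl rfl))
      have hmem : (⟨u * z, EK _ (Or.inr (Or.inr (Or.inr rfl)))⟩ : ↥K) ∈ N := by
        have hconj := hN.conj_mem _ (N.inv_mem haN) ⟨z, hzC⟩
        have := N.mul_mem haN hconj
        convert this using 1
        apply Subtype.ext
        show u * z = a * (z * a⁻¹ * z⁻¹)
        rw [← az, S.zinv]; group
      refine hNodd ?_
      have := Subgroup.orderOf_dvd_natCard N hmem
      rwa [show orderOf (⟨u * z, EK _ (Or.inr (Or.inr (Or.inr rfl)))⟩ : ↥K) = 2 from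
        orderOf_eq_two_iff'.2 ⟨Subtype.ext hu'.2.1, fun h => hu'.2.2.1 (congrArg Subtype.val h)⟩]
        at this
    obtain ⟨ε⟩ := Cfsg.Agent.S3277.result _ hx hC4 hCe hnc hne
    -- the points
    let ez : A5 := ε ⟨z, EK z (Or.inr (Or.inl rfl))⟩
    have hez : ez * ez = 1 ∧ ez ≠ 1 := by
      refine ⟨?_, fun h => hzK (ε.injective (h.trans (map_one ε).symm))⟩
      rw [← map_mul, ← map_one ε]
      exact congrArg ε (Subtype.ext S.zz)
    obtain ⟨i, -, -, -, hi, -⟩ := invol_shape ez hez.1 hez.2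
    have hEimg : ∀ k : ↥K, memE (k : G) → ap (ε k) i = i ∧ ε k * ε k = 1 := by
      intro k hk
      have h2 : ε k * ε k = 1 := by
        rw [← map_mul, ← map_one ε]
        exact congrArg ε (Subtype.ext (Efacts _ hk).2.2.2.1)
      refine ⟨?_, h2⟩
      by_cases h1 : ε k = 1
      · rw [h1]; rfl
      refine commute_fix ez (ε k) hez.1 hez.2 h2 h1 ?_ i hi
      rw [← map_mul, ← map_mul]
      exact congrArg ε (((hcentK k).2 hk).symm)
    have hEonto : ∀ σ : A5, ap σ i = i → σ * σ = 1 → ∃ k : ↥K, memE (k : G) ∧ ε k = σ := by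
      intro σ h1 h2
      let img : Finset A5 := (Finset.univ.filter fun k : ↥K => memE (k : G)).image ε
      have hsub : img ⊆ Finset.univ.filter fun τ : A5 => ap τ i = i ∧ τ * τ = 1 := by
        intro τ hτ
        simp only [img, Finset.mem_image, Finset.mem_filter, Finset.mem_univ, true_and] at hτ ⊢
        obtain ⟨k, hk, rfl⟩ := hτ
        exact hEimg k hk
      have hc : img.card = 4 := by
        rw [Finset.card_image_of_injective _ ε.injective, ← EFc]
        refine Finset.card_bij (fun k _ => (k : G)) ?_ ?_ ?_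
        · intro k hk
          simp only [Finset.mem_filter, Finset.mem_univ, true_and] at hk
          exact (mEF _).2 hk
        · intro k _ k' _ h; exact Subtype.ext h
        · intro e he
          exact ⟨⟨e, EK e ((mEF e).1 he)⟩, by simp [(mEF e).1 he], rfl⟩
      have heq := Finset.eq_of_subset_of_card_le hsub (by rw [card_stab_invol, hc])
      have : σ ∈ img := by rw [heq]; simp [h1, h2]
      simp only [img, Finset.mem_image, Finset.mem_filter, Finset.mem_univ, true_and] at this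
      exact this
    let α : A5 := ε ⟨a, haK⟩
    have hα3 : α ^ 3 = 1 := by
      rw [← map_pow, ← map_one ε]; exact congrArg ε (Subtype.ext a3)
    have hα1 : α ≠ 1 := by
      intro h
      have ha1 : a = 1 := congrArg Subtype.val (ε.injective (h.trans (map_one ε).symm))
      apply hu.2.2.2
      rw [← az, ha1]; group
    have hαi : ap α i = i := by
      have hconj : α * ez * α⁻¹ = ε ⟨u, EK u (Or.inr (Or.inr (Or.inl rfl)))⟩ := by
        rw [← map_inv, ← map_mul, ← map_mul]; exact congrArg ε (Subtype.ext az)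
      obtain ⟨hui, hu2⟩ := hEimg ⟨u, EK u (Or.inr (Or.inr (Or.inl rfl)))⟩ (Or.inr (Or.inr (Or.inl rfl)))
      have hu1 : ε ⟨u, EK u (Or.inr (Or.inr (Or.inl rfl)))⟩ ≠ 1 := fun h =>
        hu.2.2.1 (congrArg Subtype.val (ε.injective (h.trans (map_one ε).symm)))
      obtain ⟨p, -, -, -, -, hp⟩ := invol_shape _ hu2 hu1
      have h1 : ap (α * ez * α⁻¹) (ap α i) = ap α i := by
        show ap α (ap ez (ap α⁻¹ (ap α i))) = _
        rw [show ap α⁻¹ (ap α i) = i by simp [ap], hi]
      rw [hconj] at h1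
      rw [hp _ h1, hp _ hui]
    obtain ⟨j, hji, hαj, hαfix⟩ := order_three_fix i α hαi hα3 hα1
    have rigid : ∀ Θ : A5 →* A5, Function.Injective Θ → Θ α = α →
        (∀ e, ap e i = i → e * e = 1 → Θ e = e) → ∀ σ, Θ σ = σ := by
      intro Θ hinj hΘα hΘi
      have hj' : ∀ σ, ap σ j = j → σ * σ = 1 → Θ σ = σ := by
        intro σ hσj hσ2
        by_cases hσ1 : σ = 1
        · rw [hσ1, map_one]
        have hτ2 : Θ σ * Θ σ = 1 := by rw [← map_mul, hσ2, map_one]
        have hτ1 : Θ σ ≠ 1 := fun h => hσ1 (hinj (h.trans (map_one Θ).symm))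
        obtain ⟨p, -, -, -, hp, hpu⟩ := invol_shape _ hτ2 hτ1
        have hσ'j : ap (α * σ * α⁻¹) j = j := by
          show ap α (ap σ (ap α⁻¹ j)) = j
          rw [show ap α⁻¹ j = j by
            have := hαj; simp only [ap, InvMemClass.coe_inv, Equiv.Perm.inv_eq_iff_eq] at this ⊢
            exact this.symm, hσj, hαj]
        have hcm := (stab_sq_mul j σ (α * σ * α⁻¹) hσj hσ'j hσ2 (conj_sq α hσ2)).2
        have hτc : Θ σ * (α * Θ σ * α⁻¹) = α * Θ σ * α⁻¹ * Θ σ := by
          have := congrArg Θ hcm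
          simp only [map_mul, map_inv, hΘα] at this
          exact this
        have hp' := commute_fix (Θ σ) (α * Θ σ * α⁻¹) hτ2 hτ1 (conj_sq α hτ2)
          (conj_ne_one α hτ1) hτc p hp
        have hpfix : ap α⁻¹ p = p := by
          apply hpu
          have h2 : ap α (ap (Θ σ) (ap α⁻¹ p)) = p := hp'
          have h3 := congrArg (ap α⁻¹) h2
          simpa [ap] using h3
        have hαp : ap α p = p := by
          have := congrArg (ap α) hpfix
          simpa [ap] using this.symm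
        rcases hαfix p hαp with rfl | rfl
        · exfalso
          have h1 := hΘi (Θ σ) hp hτ2
          rw [hinj h1] at hp
          obtain ⟨q, -, -, -, -, hq⟩ := invol_shape σ hσ2 hσ1
          exact hji ((hq _ hσj).trans (hq _ hp).symm)
        · refine pair_rigid i p (Ne.symm hji) (Θ σ) σ hp hτ2 hτ1 hσj hσ2 hσ1 fun e he he2 => ?_
          constructor
          · intro h
            apply hinj
            rw [map_pow, map_mul, hΘi e he he2, h, map_one]
          · intro h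
            rw [← hΘi e he he2, ← map_mul, ← map_pow, h, map_one]
      intro σ
      have htop := eq_top_of_two (MonoidHom.eqLocus Θ (MonoidHom.id A5)) (Ne.symm hji) hΘi hj'
      have : σ ∈ MonoidHom.eqLocus Θ (MonoidHom.id A5) := by rw [htop]; trivial
      exact this
    have centr : ∀ y : G, y * a = a * y → (∀ e, memE e → y * e = e * y) →
        (∀ k ∈ K, y * k * y⁻¹ ∈ K) → ∀ k ∈ K, y * k = k * y := by
      intro y hya hye hyK k hk
      let cy : ↥K →* ↥K :=
        { toFun := fun w => ⟨y * w * y⁻¹, hyK w w.2⟩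
          map_one' := Subtype.ext (by simp)
          map_mul' := fun v w => Subtype.ext (by
            show y * (v * w : G) * y⁻¹ = y * v * y⁻¹ * (y * w * y⁻¹); exact conj_mul' _ _ _) }
      let Θ : A5 →* A5 := (ε.toMonoidHom.comp cy).comp ε.symm.toMonoidHom
      have hΘ : ∀ w : ↥K, Θ (ε w) = ε (cy w) := fun w => by simp [Θ]
      have hinj : Function.Injective Θ := fun v w h => by
        have h1 : cy (ε.symm v) = cy (ε.symm w) := ε.injective h
        exact ε.symm.injective (Subtype.ext (conj_inj' (a := y) (congrArg Subtype.val h1)))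
      have hfix := rigid Θ hinj ((hΘ _).trans (congrArg ε (Subtype.ext (conj_eq_iff_comm.2 hya))))
        (fun e he he2 => by
          obtain ⟨w, hw, rfl⟩ := hEonto e he he2
          exact (hΘ w).trans (congrArg ε (Subtype.ext (conj_eq_iff_comm.2 (hye _ hw)))))
        (ε ⟨k, hk⟩)
      rw [hΘ] at hfix
      exact conj_eq_iff_comm.1 (congrArg Subtype.val (ε.injective hfix))
    have hKconj : ∀ c ∈ C, ∀ k ∈ K, c * k * c⁻¹ ∈ K := by
      intro c hc k hk
      obtain ⟨hkC, hk0⟩ := memK.1 hk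
      exact memK.2 ⟨C.mul_mem (C.mul_mem hc hkC) (C.inv_mem hc),
        (inferInstance : K0.Normal).conj_mem _ hk0 ⟨c, hc⟩⟩
    have hVK : ∀ k ∈ K, ∀ v ∈ V, k * v = v * k := fun k hk v hv =>
      (centr v (Vfacts v hv).2.2.1 (fun e he => (EV e v he hv).symm)
        (hKconj v (hUC (VU v hv))) k hk).symm
    -- `x` centralises `K`
    have hxE : ∀ e, memE e → x * e = e * x := by
      rintro e (rfl | rfl | rfl | rfl)
      · simp
      · exact xz
      · exact xu
      · exact (comm_mul xu.symm xz.symm).symm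
    have hxC : ∀ k ∈ K, x * k * x⁻¹ ∈ C := by
      intro k hk
      have h1 := conj_comm x (hVK k hk (s * s') (Or.inr (Or.inr (Or.inr rfl))))
      have h2 : x * (s * s') * x⁻¹ = s := by
        rw [conj_mul', ← hs'def, hcyc, ← mul_assoc, ← hcomm, mul_assoc, hs'.2.1, mul_one]
      rw [h2] at h1
      exact mem_cent.2 h1
    let M : Subgroup A5 :=
      { carrier := {σ | x * (ε.symm σ : G) * x⁻¹ ∈ K}
        mul_mem' := fun {σ τ} h1 h2 => by
          show x * ((ε.symm (σ * τ) : ↥K) : G) * x⁻¹ ∈ K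
          rw [map_mul, Subgroup.coe_mul, conj_mul']
          exact K.mul_mem h1 h2
        one_mem' := by show x * ((ε.symm 1 : ↥K) : G) * x⁻¹ ∈ K; simp [K.one_mem]
        inv_mem' := fun {σ} h => by
          show x * ((ε.symm σ⁻¹ : ↥K) : G) * x⁻¹ ∈ K
          rw [map_inv, Subgroup.coe_inv, show x * ((ε.symm σ : ↥K) : G)⁻¹ * x⁻¹ =
            (x * ((ε.symm σ : ↥K) : G) * x⁻¹)⁻¹ by group]
          exact K.inv_mem h }
    have M3 : ∀ σ : A5, σ ^ 3 = 1 → σ ∈ M := by
      intro σ h3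
      obtain ⟨k, hk, v, hv, hkv⟩ := hdec _ (mem_cent.1 (hxC _ (ε.symm σ).2))
      have hv3 : (k * v) ^ 3 = 1 := by
        rw [← hkv, conj_pow, show ((ε.symm σ : ↥K) : G) ^ 3 = 1 by
          rw [← Subgroup.coe_pow, ← map_pow, h3, map_one]; rfl]
        group
      rw [(show Commute k v from hVK k hk v hv).mul_pow] at hv3
      have hv3' : v ^ 3 = v := by rw [pow_succ, pow_two, (Vfacts v hv).2.2.2.2, one_mul]
      rw [hv3', mul_eq_one_iff_inv_eq] at hv3
      have := hVVU v hv (hv3 ▸ K.inv_mem (K.pow_mem hk 3))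
      show x * ((ε.symm σ : ↥K) : G) * x⁻¹ ∈ K
      rw [hkv, this, mul_one]; exact hk
    have Minv : ∀ σ : A5, σ * σ = 1 → σ ∈ M := by
      intro σ h2
      by_cases h1 : σ = 1
      · rw [h1]; exact M.one_mem
      obtain ⟨g, hg3, hgs⟩ := three_three σ h2 h1
      rw [show σ = g⁻¹ * (g * σ) by group]
      exact M.mul_mem (M.inv_mem (M3 g hg3)) (M3 _ hgs)
    have hMtop := eq_top_of_two M (Ne.symm hji) (fun e _ h => Minv e h) (fun e _ h => Minv e h)
    have hxK : ∀ k ∈ K, x * k * x⁻¹ ∈ K := fun k hk => by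
      have : ε ⟨k, hk⟩ ∈ M := by rw [hMtop]; trivial
      simpa [M] using this
    exact ⟨K, V, ⟨fun v => by rw [← hs'def]; rfl, hKC, hVK, hdec, fun v hv hk => hVVU v hv hk,
      EK z (Or.inr (Or.inl rfl)), haK, Or.inl ⟨⟨ε⟩, centr x xa hxE hxK⟩⟩⟩

end Cfsg.Agent.HJ
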