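import Cfsg.Agent.Lib.HJ.Setup

/-!
The extraspecial normal subgroup: its ten non-central involutions and the five points.
-/

set_option autoImplicit false

namespace Cfsg.Agent.HJ

variable {G : Type*} [Group G] {z : G} {Q : Subgroup G}
  {φ : ↥(Subgroup.centralizer ({z} : Set G)) →* A5}

/-- A non-central involution of `Q`. -/
def Nci (z : G) (Q : Subgroup G) (x : G) : Prop := x ∈ Q ∧ x * x = 1 ∧ x ≠ 1 ∧ x ≠ z

/-- The centraliser in `H` of `u` fixes the point `i`. -/
def FixPt (φ : ↥(Subgroup.centralizer ({z} : Set G)) →* A5) (u : G) (i : Fin 5) : Prop :=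
  ∀ h, h * z = z * h → h * u = u * h → ap (psi φ h) i = i

/-- The point attached to a non-central involution. -/
noncomputable def pt (φ : ↥(Subgroup.centralizer ({z} : Set G)) →* A5) (u : G) : Fin 5 :=
  Classical.epsilon (FixPt φ u)

namespace Setup

variable (S : Setup z Q φ)
include S

theorem H_mul {a b : G} (ha : a * z = z * a) (hb : b * z = z * b) : a * b * z = z * (a * b) :=
  mem_cent.1 (mul_mem (mem_cent.2 ha) (mem_cent.2 hb))

theorem H_inv {a : G} (ha : a * z = z * a) : a⁻¹ * z = z * a⁻¹ :=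
  mem_cent.1 (inv_mem (mem_cent.2 ha))

theorem H_pow {a : G} (ha : a * z = z * a) (n : ℕ) : a ^ n * z = z * a ^ n :=
  mem_cent.1 (pow_mem (mem_cent.2 ha) n)

theorem mul_z_z (x : G) : x * z * z = x := by rw [mul_assoc, S.zz, mul_one]

theorem nc_eq {x y : G} (hx : x ∈ Q) (hy : y ∈ Q) (h : x * y ≠ y * x) : x * y = y * x * z :=
  (S.comm x hx y hy).resolve_left h

theorem conj_Q {x y : G} (hx : x ∈ Q) (hy : y ∈ Q) :
    x * y * x⁻¹ = y ∨ x * y * x⁻¹ = y * z := by
  rcases S.comm x hx y hy with h | h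
  · exact Or.inl (conj_eq_iff_comm.2 h)
  · right
    rw [h, mul_assoc (y * x), ← S.Q_comm_z (Q.inv_mem hx), mul_assoc y, ← mul_assoc x,
      mul_inv_cancel, one_mul]

/-- Two elements failing to commute with `x` have a product commuting with it. -/
theorem comm_of_nc {a b x : G} (ha : a ∈ Q) (hb : b ∈ Q) (hx : x ∈ Q) (h1 : a * x ≠ x * a)
    (h2 : b * x ≠ x * b) : a * b * x = x * (a * b) := by
  have e1 := S.nc_eq ha hx h1
  have e2 := S.nc_eq hb hx h2
  calc a * b * x = a * (b * x) := mul_assoc _ _ _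
    _ = a * (x * b * z) := by rw [e2]
    _ = a * x * (b * z) := by group
    _ = x * a * z * (b * z) := by rw [e1]
    _ = x * a * (z * b) * z := by group
    _ = x * a * (b * z) * z := by rw [S.Q_comm_z hb]
    _ = x * (a * b) * (z * z) := by group
    _ = x * (a * b) := by rw [S.zz, mul_one]

omit S in
theorem nc_of_nc_comm {a b x : G} (h1 : a * x ≠ x * a) (h2 : b * x = x * b) :
    a * b * x ≠ x * (a * b) := fun h => h1 (by
  apply mul_right_cancel (b := b)
  rw [mul_assoc, ← h2, ← mul_assoc, h, mul_assoc])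

omit S in
theorem nc_of_comm_nc {a b x : G} (h1 : a * x = x * a) (h2 : b * x ≠ x * b) :
    a * b * x ≠ x * (a * b) := fun h => h2 (by
  apply mul_left_cancel (a := a)
  rw [← mul_assoc, h, ← mul_assoc x, ← h1, mul_assoc])

omit S in
theorem comm_mul {a b x : G} (h1 : a * x = x * a) (h2 : b * x = x * b) :
    a * b * x = x * (a * b) := Commute.mul_left h1 h2

/-- The square of a product of non-commuting elements. -/
theorem sq_nc {x y : G} (hx : x ∈ Q) (hy : y ∈ Q) (h : x * y ≠ y * x) :
    x * y * (x * y) = x * x * (y * y) * z := by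
  calc x * y * (x * y) = x * (y * x) * y := by group
    _ = x * (x * y * z) * y := by rw [S.nc_eq hy hx (Ne.symm h)]
    _ = x * x * y * (z * y) := by group
    _ = x * x * y * (y * z) := by rw [S.Q_comm_z hy]
    _ = x * x * (y * y) * z := by group

theorem exists_nc {x : G} (hx : x ∈ Q) (h1 : x ≠ 1) (hz : x ≠ z) : ∃ y ∈ Q, x * y ≠ y * x := by
  by_contra h
  push Not at h
  rcases S.center x hx h with h | h
  exacts [h1 h, hz h]

theorem nci_mul_z {x : G} (h : Nci z Q x) : Nci z Q (x * z) := by
  obtain ⟨hx, h2, h1, hz⟩ := h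
  refine ⟨Q.mul_mem hx S.zQ, ?_, ?_, ?_⟩
  · calc x * z * (x * z) = x * (z * x) * z := by group
      _ = x * x * (z * z) := by rw [← S.Q_comm_z hx]; group
      _ = 1 := by rw [h2, S.zz, one_mul]
  · intro e
    exact hz (by rw [← S.mul_z_z x, e, one_mul])
  · intro e
    exact h1 (mul_right_cancel (e.trans (one_mul z).symm))

theorem ne_mul_z (x : G) : x ≠ x * z := fun h => S.zne (mul_left_cancel (h.symm.trans (mul_one x).symm))

theorem nci_conj {h x : G} (hh : h * z = z * h) (hx : Nci z Q x) : Nci z Q (h * x * h⁻¹) := by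
  refine ⟨S.conj_mem_Q hh hx.1, conj_sq h hx.2.1, conj_ne_one h hx.2.2.1, fun e => hx.2.2.2 ?_⟩
  exact conj_inj' (a := h) (e.trans (conj_eq_iff_comm.2 hh).symm)

/-- There is a non-central involution conjugate to `z`. -/
theorem exists_nci : ∃ g, Nci z Q (g * z * g⁻¹) := by
  obtain ⟨g, hg, hne⟩ := S.nwc
  exact ⟨g, hg, conj_sq g S.zz, conj_ne_one g S.zne, hne⟩

section FiniteG

variable [Finite G]

/-- In the centraliser of an element, the conjugates of another one number two. -/
theorem card_cent_step (A : Subgroup G) (hA : A ≤ Q) {x : G} (hx : x ∈ Q)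
    (h : ∃ y ∈ A, y * x ≠ x * y) :
    2 * Nat.card ↥(A ⊓ Subgroup.centralizer ({x} : Set G)) = Nat.card A := by
  rw [← card_conj_orbit A x]
  congr 1
  obtain ⟨y, hy, hyx⟩ := h
  have : {w : G | ∃ g ∈ A, g * x * g⁻¹ = w} = {x, x * z} := by
    ext w
    simp only [Set.mem_setOf_eq, Set.mem_insert_iff, Set.mem_singleton_iff]
    constructor
    · rintro ⟨g, hg, rfl⟩
      exact S.conj_Q (hA hg) hx
    · rintro (rfl | rfl)
      · exact ⟨1, A.one_mem, by simp⟩
      · exact ⟨y, hy, (S.conj_Q (hA hy) hx).resolve_left fun e => hyx (conj_eq_iff_comm.1 e)⟩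
  show 2 = Nat.card ↥{w : G | ∃ g ∈ A, g * x * g⁻¹ = w}
  rw [Nat.card_coe_set_eq, this, Set.ncard_pair (S.ne_mul_z x)]

theorem card_cent {x : G} (hx : x ∈ Q) (h1 : x ≠ 1) (hz : x ≠ z) :
    Nat.card ↥(Q ⊓ Subgroup.centralizer ({x} : Set G)) = 16 := by
  obtain ⟨y, hy, hxy⟩ := S.exists_nc hx h1 hz
  have := S.card_cent_step Q le_rfl hx ⟨y, hy, Ne.symm hxy⟩
  rw [S.card] at this
  omega

/-- There is an element of order five acting on `Q` with fixed points `{1, z}`. -/
theorem exists_five : ∃ f, f * z = z * f ∧ f ^ 5 = 1 ∧ f ≠ 1 ∧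
    ∀ x ∈ Q, f * x = x * f → x = 1 ∨ x = z := by
  haveI : Fact (Nat.Prime 5) := ⟨by norm_num⟩
  obtain ⟨⟨f, hf⟩, hord⟩ := exists_prime_orderOf_dvd_card' (p := 5)
    (G := Subgroup.centralizer ({z} : Set G)) (by rw [S.card_H]; norm_num)
  rw [Subgroup.orderOf_mk] at hord
  have hfz := mem_cent.1 hf
  have hf5 : f ^ 5 = 1 := by rw [← hord]; exact pow_orderOf_eq_one f
  refine ⟨f, hfz, hf5, fun h => by rw [h, orderOf_one] at hord; omega, ?_⟩
  have hmod := card_fixed_modEq hf5 (Q : Set G) fun y hy => S.conj_mem_Q hfz hy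
  set X := Q ⊓ Subgroup.centralizer ({f} : Set G) with hX
  have hXc : Nat.card {y : G // y ∈ (Q : Set G) ∧ f * y = y * f} = Nat.card X :=
    Nat.card_congr (Equiv.subtypeEquivRight fun y => by
      simp [hX, Subgroup.mem_inf, mem_cent, eq_comm])
  rw [hXc, show Nat.card {y : G // y ∈ (Q : Set G)} = 32 from S.card] at hmod
  have hdvd : Nat.card X ∣ 32 := S.card ▸ Subgroup.card_dvd_of_le inf_le_left
  have hne : Nat.card X ≠ 32 := by
    intro h
    have hXQ : X = Q := Subgroup.eq_of_le_of_card_ge inf_le_left (by rw [h, S.card])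
    have hfQ : f ∈ Q := S.self f hfz fun x hx => by
      rw [← hXQ] at hx
      exact (mem_cent.1 hx.2).symm
    have := Subgroup.orderOf_dvd_natCard Q hfQ
    rw [hord, S.card] at this
    omega
  have h2 : Nat.card X = 2 := by
    have hm : Nat.card X ∈ Nat.divisors 32 := Nat.mem_divisors.2 ⟨hdvd, by norm_num⟩
    rw [show Nat.divisors 32 = {1, 2, 4, 8, 16, 32} by decide] at hm
    simp only [Finset.mem_insert, Finset.mem_singleton] at hm
    rw [Nat.ModEq] at hmod
    omega
  intro x hx hfx
  by_contra hcon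
  push Not at hcon
  have hzX : z ∈ X := ⟨S.zQ, mem_cent.2 hfz.symm⟩
  have hxX : x ∈ X := ⟨hx, mem_cent.2 hfx.symm⟩
  have : ({1, z, x} : Set G) ⊆ (X : Set G) := by
    intro w hw
    simp only [Set.mem_insert_iff, Set.mem_singleton_iff] at hw
    rcases hw with rfl | rfl | rfl
    exacts [X.one_mem, hzX, hxX]
  have h3 := Set.ncard_le_ncard this
  have hn : ({1, z, x} : Set G).ncard = 3 :=
    Set.ncard_eq_three.2 ⟨1, z, x, Ne.symm S.zne, Ne.symm hcon.1, Ne.symm hcon.2, rfl⟩
  rw [hn, ← Nat.card_coe_set_eq] at h3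
  change 3 ≤ Nat.card X at h3
  omega

/-- The core counting: there are ten non-central involutions, and commuting ones agree
modulo the centre. -/
theorem nci_core : Nat.card {x // Nci z Q x} = 10 ∧
    ∀ u x, Nci z Q u → Nci z Q x → x * u = u * x → x = u ∨ x = u * z := by
  classical
  haveI := Fintype.ofFinite G
  haveI : Fact (Nat.Prime 5) := ⟨by norm_num⟩
  obtain ⟨f, hfz, hf5, -, hfix⟩ := S.exists_five
  let JF : Finset G := Finset.univ.filter fun x => Nci z Q x
  have hJ : Nat.card {x // Nci z Q x} = JF.card := by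
    rw [Nat.card_eq_fintype_card, Fintype.card_subtype]
  have hmod : JF.card % 5 = 0 := by
    have h := card_fixed_modEq hf5 {x | Nci z Q x} fun y hy => S.nci_conj hfz hy
    have h0 : Nat.card {y : G // y ∈ {x | Nci z Q x} ∧ f * y = y * f} = 0 := by
      rw [Nat.card_eq_zero]
      left
      refine ⟨fun ⟨y, hy, hc⟩ => ?_⟩
      rcases hfix y hy.1 hc with h | h
      exacts [hy.2.2.1 h, hy.2.2.2 h]
    rw [h0, show Nat.card {y : G // y ∈ {x | Nci z Q x}} = JF.card from hJ] at h
    exact h
  have key : ∀ u, Nci z Q u → JF.card = 10 ∧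
      ∀ x, Nci z Q x → x * u = u * x → x = u ∨ x = u * z := by
    intro u hu
    obtain ⟨huQ, huu, hu1, huz⟩ := hu
    obtain ⟨v, hvQ, huv⟩ := S.exists_nc huQ hu1 huz
    let QF : Finset G := Finset.univ.filter (· ∈ Q)
    have hcardsub : ∀ A : Subgroup G,
        Nat.card A = (Finset.univ.filter fun x => x ∈ A).card := fun A => by
      rw [Nat.card_eq_fintype_card, Fintype.card_subtype]
    have hQF : QF.card = 32 := by rw [← hcardsub, S.card]
    let N := QF.filter fun x => x * u ≠ u * x
    let C := QF.filter fun x => x * u = u * x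
    let C' := C.filter fun x => x * v = v * x
    have hC : C.card = 16 := by
      rw [← S.card_cent huQ hu1 huz, hcardsub]
      congr 1
      ext x
      simp [C, QF, Subgroup.mem_inf, mem_cent]
    have hN : N.card = 16 := by
      have h := Finset.card_filter_add_card_filter_not (s := QF) (fun x => x * u = u * x)
      rw [hQF] at h
      change C.card + N.card = 32 at h
      omega
    have hC' : C'.card = 8 := by
      have h := S.card_cent_step (Q ⊓ Subgroup.centralizer ({u} : Set G)) inf_le_left hvQ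
        ⟨u, ⟨huQ, mem_cent.2 rfl⟩, huv⟩
      rw [S.card_cent huQ hu1 huz, hcardsub] at h
      have : C' = Finset.univ.filter fun x => x ∈ Q ⊓ Subgroup.centralizer ({u} : Set G) ⊓
          Subgroup.centralizer ({v} : Set G) := by
        ext x
        simp [C', C, QF, Subgroup.mem_inf, mem_cent, and_assoc]
      rw [this]; omega
    have hcu : ∀ x ∈ Q, x * u = u * x → x * u * (x * u) = x * x := by
      intro x hx h
      calc x * u * (x * u) = x * (u * x) * u := by group
        _ = x * x * (u * u) := by rw [← h]; group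
        _ = x * x := by rw [huu, mul_one]
    have hzN : ∀ x ∈ Q, x * u ≠ u * x → x * u * (x * u) = x * x * z := by
      intro x hx h
      rw [S.sq_nc hx huQ h, huu, mul_one]
    -- involutions outside the centraliser of `u`
    have hN1 : 2 * (N.filter fun x => x * x = 1).card = 16 := by
      have hb : (N.filter fun x => x * x = 1).card = (N.filter fun x => ¬ x * x = 1).card := by
        refine Finset.card_nbij' (· * u) (· * u) ?_ ?_ ?_ ?_
        · intro x hx
          simp only [N, QF, Finset.mem_coe, Finset.mem_filter, Finset.mem_univ, true_and] at hx ⊢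
          refine ⟨⟨Q.mul_mem hx.1.1 huQ, nc_of_nc_comm hx.1.2 rfl⟩, ?_⟩
          rw [hzN x hx.1.1 hx.1.2, hx.2, one_mul]
          exact S.zne
        · intro x hx
          simp only [N, QF, Finset.mem_coe, Finset.mem_filter, Finset.mem_univ, true_and] at hx ⊢
          refine ⟨⟨Q.mul_mem hx.1.1 huQ, nc_of_nc_comm hx.1.2 rfl⟩, ?_⟩
          rw [hzN x hx.1.1 hx.1.2, (S.sq x hx.1.1).resolve_left hx.2, S.zz]
        · intro x _; simp [mul_assoc, huu]
        · intro x _; simp [mul_assoc, huu]
      have h := Finset.card_filter_add_card_filter_not (s := N) (fun x => x * x = 1)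
      omega
    -- involutions commuting with `u`
    have hC1 : (C.filter fun x => x * x = 1).card = 2 * (C'.filter fun x => x * x = 1).card := by
      have hb : ((C.filter fun x => x * x = 1).filter fun x => x * v = v * x).card =
          ((C.filter fun x => x * x = 1).filter fun x => ¬ x * v = v * x).card := by
        refine Finset.card_nbij' (· * u) (· * u) ?_ ?_ ?_ ?_
        · intro x hx
          simp only [C, QF, Finset.mem_coe, Finset.mem_filter, Finset.mem_univ, true_and] at hx ⊢
          obtain ⟨⟨⟨hxQ, hxu⟩, hx2⟩, hxv⟩ := hx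
          exact ⟨⟨⟨Q.mul_mem hxQ huQ, comm_mul hxu rfl⟩, by rw [hcu x hxQ hxu, hx2]⟩,
            nc_of_comm_nc hxv huv⟩
        · intro x hx
          simp only [C, QF, Finset.mem_coe, Finset.mem_filter, Finset.mem_univ, true_and] at hx ⊢
          obtain ⟨⟨⟨hxQ, hxu⟩, hx2⟩, hxv⟩ := hx
          exact ⟨⟨⟨Q.mul_mem hxQ huQ, comm_mul hxu rfl⟩, by rw [hcu x hxQ hxu, hx2]⟩,
            S.comm_of_nc hxQ huQ hvQ hxv huv⟩
        · intro x _; simp [mul_assoc, huu]
        · intro x _; simp [mul_assoc, huu]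
      have h := Finset.card_filter_add_card_filter_not (s := C.filter fun x => x * x = 1)
        (fun x => x * v = v * x)
      have h' : ((C.filter fun x => x * x = 1).filter fun x => x * v = v * x) =
          C'.filter fun x => x * x = 1 := by
        ext x; simp [C']; tauto
      rw [h'] at h hb
      omega
    have hc8 : (C'.filter fun x => x * x = 1).card ≤ 8 := hC' ▸ Finset.card_filter_le _ _
    have hc2 : ({1, z} : Finset G) ⊆ C'.filter fun x => x * x = 1 := by
      intro x hx
      simp only [Finset.mem_insert, Finset.mem_singleton] at hx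
      simp only [C', C, QF, Finset.mem_filter, Finset.mem_univ, true_and]
      rcases hx with rfl | rfl
      · simp
      · exact ⟨⟨⟨S.zQ, (S.Q_comm_z huQ).symm⟩, (S.Q_comm_z hvQ).symm⟩, S.zz⟩
    have hne7 : (C'.filter fun x => x * x = 1).card ≠ 7 := by
      intro h7
      have h := Finset.card_filter_add_card_filter_not (s := C') (fun x => x * x = 1)
      obtain ⟨w, hw⟩ := Finset.card_eq_one.1
        (show (C'.filter fun x => ¬ x * x = 1).card = 1 by omega)
      have hwm : w ∈ C'.filter fun x => ¬ x * x = 1 := by rw [hw]; simp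
      simp only [C', C, QF, Finset.mem_filter, Finset.mem_univ, true_and] at hwm
      obtain ⟨⟨⟨hwQ, hwu⟩, hwv⟩, hw2⟩ := hwm
      have hwz : w * z ∈ C'.filter fun x => ¬ x * x = 1 := by
        simp only [C', C, QF, Finset.mem_filter, Finset.mem_univ, true_and]
        refine ⟨⟨⟨Q.mul_mem hwQ S.zQ, comm_mul hwu (S.Q_comm_z huQ).symm⟩,
          comm_mul hwv (S.Q_comm_z hvQ).symm⟩, ?_⟩
        intro e
        apply hw2
        calc w * w = w * (z * z) * w := by rw [S.zz, mul_one]
          _ = w * z * (z * w) := by group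
          _ = w * z * (w * z) := by rw [S.Q_comm_z hwQ]
          _ = 1 := e
      rw [hw, Finset.mem_singleton] at hwz
      exact S.ne_mul_z w hwz.symm
    -- assemble
    have hsplit : (QF.filter fun x => x * x = 1).card =
        (C.filter fun x => x * x = 1).card + (N.filter fun x => x * x = 1).card := by
      have h := Finset.card_filter_add_card_filter_not (s := QF.filter fun x => x * x = 1)
        (fun x => x * u = u * x)
      have e1 : ((QF.filter fun x => x * x = 1).filter fun x => x * u = u * x) =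
          C.filter fun x => x * x = 1 := by ext x; simp [C]; tauto
      have e2 : ((QF.filter fun x => x * x = 1).filter fun x => ¬ x * u = u * x) =
          N.filter fun x => x * x = 1 := by ext x; simp [N]; tauto
      rw [e1, e2] at h
      omega
    have hJF : JF.card + 2 = (QF.filter fun x => x * x = 1).card := by
      have hsub : ({1, z} : Finset G) ⊆ QF.filter fun x => x * x = 1 := by
        intro x hx
        simp only [Finset.mem_insert, Finset.mem_singleton] at hx
        rcases hx with rfl | rfl <;> simp [QF, S.zQ, S.zz]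
      have e : JF = (QF.filter fun x => x * x = 1) \ {1, z} := by
        ext x
        rw [Finset.mem_filter]
        simp only [QF, Finset.mem_filter, Finset.mem_univ, true_and, Finset.mem_sdiff,
          Finset.mem_insert, Finset.mem_singleton, not_or]
        unfold Nci
        tauto
      rw [e, Finset.card_sdiff_of_subset hsub, Finset.card_pair (Ne.symm S.zne)]
      have := Finset.card_le_card hsub
      rw [Finset.card_pair (Ne.symm S.zne)] at this
      omega
    have hle := Finset.card_le_card hc2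
    rw [Finset.card_pair (Ne.symm S.zne)] at hle
    have hc : (C'.filter fun x => x * x = 1).card = 2 := by omega
    refine ⟨by omega, ?_⟩
    intro x hx hxu
    have heq : ({1, u, z, u * z} : Finset G) = C.filter fun x => x * x = 1 := by
      apply Finset.eq_of_subset_of_card_le
      · intro w hw
        simp only [Finset.mem_insert, Finset.mem_singleton] at hw
        simp only [C, QF, Finset.mem_filter, Finset.mem_univ, true_and]
        rcases hw with rfl | rfl | rfl | rfl
        · simp
        · exact ⟨⟨huQ, rfl⟩, huu⟩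
        · exact ⟨⟨S.zQ, (S.Q_comm_z huQ).symm⟩, S.zz⟩
        · exact ⟨⟨Q.mul_mem huQ S.zQ, comm_mul rfl (S.Q_comm_z huQ).symm⟩,
            (S.nci_mul_z ⟨huQ, huu, hu1, huz⟩).2.1⟩
      · have : ({1, u, z, u * z} : Finset G).card = 4 := by
          have n1 := (S.nci_mul_z ⟨huQ, huu, hu1, huz⟩).2.2.1
          have n2 := (S.nci_mul_z ⟨huQ, huu, hu1, huz⟩).2.2.2
          rw [Finset.card_insert_of_notMem (by simp [Ne.symm hu1, Ne.symm S.zne, Ne.symm n1]),
            Finset.card_insert_of_notMem (by simp [huz, S.ne_mul_z u]),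
            Finset.card_pair (Ne.symm n2)]
        omega
    have hmem : x ∈ C.filter fun x => x * x = 1 := by
      simp only [C, QF, Finset.mem_filter, Finset.mem_univ, true_and]
      exact ⟨⟨hx.1, hxu⟩, hx.2.1⟩
    rw [← heq] at hmem
    simp only [Finset.mem_insert, Finset.mem_singleton] at hmem
    rcases hmem with h | h | h | h
    exacts [absurd h hx.2.2.1, Or.inl h, absurd h hx.2.2.2, Or.inr h]
  obtain ⟨g, hg⟩ := S.exists_nci
  exact ⟨hJ.trans (key _ hg).1, fun u x hu hx h => (key u hu).2 x hx h⟩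

theorem nc_of_ne {u x : G} (hu : Nci z Q u) (hx : Nci z Q x) (h1 : x ≠ u) (h2 : x ≠ u * z) :
    x * u ≠ u * x := fun h => by
  rcases S.nci_core.2 u x hu hx h with e | e
  exacts [h1 e, h2 e]

/-- `H` is transitive on the non-central involutions. -/
theorem nci_trans {u w : G} (hu : Nci z Q u) (hw : Nci z Q w) :
    ∃ h, h * z = z * h ∧ h * u * h⁻¹ = w := by
  classical
  haveI := Fintype.ofFinite G
  obtain ⟨f, hfz, hf5, -, hfix⟩ := S.exists_five
  obtain ⟨v, hvQ, huv⟩ := S.exists_nc hu.1 hu.2.2.1 hu.2.2.2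
  have hflip : v * u * v⁻¹ = u * z :=
    (S.conj_Q hvQ hu.1).resolve_left fun e => huv (conj_eq_iff_comm.1 e).symm
  -- the ten images
  let im : Fin 5 × Bool → G := fun p =>
    f ^ (p.1 : ℕ) * (if p.2 then v else 1) * u * (f ^ (p.1 : ℕ) * (if p.2 then v else 1))⁻¹
  have hval : ∀ p, im p = f ^ (p.1 : ℕ) * (if p.2 then u * z else u) * (f ^ (p.1 : ℕ))⁻¹ := by
    rintro ⟨i, b⟩
    simp only [im, ← conj_conj]
    cases b <;> simp [hflip]
  have hnofix : ∀ d : ℕ, 0 < d → d < 5 → ∀ y, Nci z Q y →
      f ^ d * y * (f ^ d)⁻¹ ≠ y ∧ f ^ d * y * (f ^ d)⁻¹ ≠ y * z := by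
    intro d hd0 hd5 y hy
    have hcop : Nat.Coprime d 5 := by
      interval_cases d <;> decide
    obtain ⟨e, he⟩ : ∃ e, f = (f ^ d) ^ e := by
      have hord : orderOf f = 5 := by
        haveI : Fact (Nat.Prime 5) := ⟨by norm_num⟩
        refine orderOf_eq_prime hf5 fun h => ?_
        rcases hfix y hy.1 (by rw [h]; simp) with h | h
        exacts [hy.2.2.1 h, hy.2.2.2 h]
      obtain ⟨m, hm⟩ := exists_pow_eq_self_of_coprime (x := f) (n := d) (by rw [hord]; exact hcop)
      exact ⟨m, hm.symm⟩
    have hno : ∀ g : G, f = g → g * y ≠ y * g := by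
      rintro g rfl h
      rcases hfix y hy.1 h with h | h
      exacts [hy.2.2.1 h, hy.2.2.2 h]
    constructor
    · intro h
      refine hno _ he ?_
      exact ((show Commute (f ^ d) y from conj_eq_iff_comm.1 h).pow_left e)
    · intro h
      have h2 : f ^ d * f ^ d * y * (f ^ d * f ^ d)⁻¹ = y := by
        rw [← conj_conj, h, conj_mul', h, conj_eq_iff_comm.2 (S.H_pow hfz d), S.mul_z_z]
      have hc : Commute (f ^ (2 * d)) y := by
        rw [two_mul, pow_add]; exact conj_eq_iff_comm.1 h2
      -- an odd power: six is one modulo five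
      obtain ⟨e', he'⟩ : ∃ e', f = (f ^ (2 * d)) ^ e' := by
        refine ⟨3 * e, ?_⟩
        rw [← pow_mul, show 2 * d * (3 * e) = d * e + 5 * (d * e) by ring, pow_add, pow_mul f 5,
          hf5, one_pow, mul_one, pow_mul]
        exact he
      exact hno _ he' (hc.pow_left e')
  have himJ : ∀ p, Nci z Q (im p) := by
    intro p
    rw [hval]
    refine S.nci_conj (S.H_pow hfz _) ?_
    split_ifs
    exacts [S.nci_mul_z hu, hu]
  have hinj : Function.Injective im := by
    rintro ⟨i, b⟩ ⟨j, c⟩ h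
    rw [hval, hval] at h
    rcases lt_trichotomy (i : ℕ) j with hlt | heq | hlt
    · exfalso
      obtain ⟨d, hd⟩ : ∃ d, (j : ℕ) = i + d := ⟨j - i, by omega⟩
      simp only at h
      rw [hd, pow_add, ← conj_conj] at h
      have h' := conj_inj' h
      obtain ⟨n1, n2⟩ := hnofix d (by omega) (by omega) u hu
      obtain ⟨n3, n4⟩ := hnofix d (by omega) (by omega) (u * z) (S.nci_mul_z hu)
      cases b <;> cases c <;> simp only [if_true, if_false, Bool.false_eq_true] at h'
      · exact n1 h'.symm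
      · exact n4 (h'.symm.trans (S.mul_z_z u).symm)
      · exact n2 h'.symm
      · exact n3 h'.symm
    · simp only at h
      rw [heq] at h
      have h' := conj_inj' h
      have : i = j := Fin.ext heq
      subst this
      cases b <;> cases c <;> simp_all [S.ne_mul_z u, Ne.symm (S.ne_mul_z u)]
    · exfalso
      obtain ⟨d, hd⟩ : ∃ d, (i : ℕ) = j + d := ⟨i - j, by omega⟩
      simp only at h
      rw [hd, pow_add, ← conj_conj] at h
      have h' := conj_inj' h
      obtain ⟨n1, n2⟩ := hnofix d (by omega) (by omega) u hu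
      obtain ⟨n3, n4⟩ := hnofix d (by omega) (by omega) (u * z) (S.nci_mul_z hu)
      cases b <;> cases c <;> simp only [if_true, if_false, Bool.false_eq_true] at h'
      · exact n1 h'
      · exact n2 h'
      · exact n4 (h'.trans (S.mul_z_z u).symm)
      · exact n3 h'
  have hcard : Fintype.card (Fin 5 × Bool) = Fintype.card {x // Nci z Q x} := by
    rw [← Nat.card_eq_fintype_card (α := {x // Nci z Q x}), S.nci_core.1]; rfl
  have hbij : Function.Bijective (fun p => (⟨im p, himJ p⟩ : {x // Nci z Q x})) :=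
    (Fintype.bijective_iff_injective_and_card _).2
      ⟨fun p q h => hinj (congrArg Subtype.val h), hcard⟩
  obtain ⟨⟨i, b⟩, hp⟩ := hbij.2 ⟨w, hw⟩
  refine ⟨f ^ (i : ℕ) * (if b then v else 1), S.H_mul (S.H_pow hfz _) ?_, congrArg Subtype.val hp⟩
  split_ifs
  · exact S.Q_comm_z hvQ
  · simp

/-- The centraliser in `H` of a non-central involution has order `192`. -/
theorem card_CE {u : G} (hu : Nci z Q u) :
    Nat.card ↥(Subgroup.centralizer ({z} : Set G) ⊓ Subgroup.centralizer ({u} : Set G)) = 192 := by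
  have h := card_conj_orbit (Subgroup.centralizer ({z} : Set G)) u
  have e : Nat.card {y : G // ∃ g ∈ Subgroup.centralizer ({z} : Set G), g * u * g⁻¹ = y} = 10 := by
    rw [← S.nci_core.1]
    refine Nat.card_congr (Equiv.subtypeEquivRight fun y => ⟨?_, ?_⟩)
    · rintro ⟨g, hg, rfl⟩
      exact S.nci_conj (mem_cent.1 hg) hu
    · intro hy
      obtain ⟨g, hg, hgy⟩ := S.nci_trans hu hy
      exact ⟨g, mem_cent.2 hg, hgy⟩
  rw [e, S.card_H] at h
  omega

theorem fixPt_unique {u : G} (hu : Nci z Q u) :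
    ∃ i, FixPt φ u i ∧ ∀ j, FixPt φ u j → j = i := by
  let A := Subgroup.centralizer ({z} : Set G) ⊓ Subgroup.centralizer ({u} : Set G)
  let χ : ↥A →* A5 := φ.comp (Subgroup.inclusion inf_le_left)
  have hk : Nat.card χ.ker = 16 := by
    rw [← S.card_cent hu.1 hu.2.2.1 hu.2.2.2]
    exact Nat.card_congr
      { toFun := fun h => ⟨h.1.1, (S.ker _).1 h.2, h.1.2.2⟩
        invFun := fun x => ⟨⟨x.1, S.Q_le x.2.1, x.2.2⟩, (S.ker ⟨x.1, S.Q_le x.2.1⟩).2 x.2.1⟩
        left_inv := fun h => rfl
        right_inv := fun x => rfl }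
  have hr : Nat.card χ.range = 12 := by
    have h := χ.ker.card_mul_index
    rw [Subgroup.index_ker, hk, S.card_CE hu] at h
    omega
  obtain ⟨i, hi, huniq⟩ := exists_fixed χ.range hr
  have hrange : ∀ j, (∀ g ∈ χ.range, ap g j = j) ↔ FixPt φ u j := by
    intro j
    constructor
    · intro h g hg hgu
      rw [psi, dif_pos (mem_cent.2 hg)]
      exact h _ ⟨⟨g, mem_cent.2 hg, mem_cent.2 hgu⟩, rfl⟩
    · rintro h g ⟨⟨y, hy, hyu⟩, rfl⟩
      have := h y (mem_cent.1 hy) (mem_cent.1 hyu)
      rwa [psi, dif_pos (show y ∈ Subgroup.centralizer ({z} : Set G) from hy)] at this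
  exact ⟨i, (hrange i).1 hi, fun j hj => huniq j ((hrange j).2 hj)⟩

theorem pt_fix {u : G} (hu : Nci z Q u) : FixPt φ u (pt φ u) := by
  obtain ⟨i, hi, -⟩ := S.fixPt_unique hu
  exact Classical.epsilon_spec ⟨i, hi⟩

theorem pt_eq {u : G} (hu : Nci z Q u) {i : Fin 5} (hi : FixPt φ u i) : pt φ u = i := by
  obtain ⟨j, -, hj⟩ := S.fixPt_unique hu
  rw [hj i hi, hj _ (S.pt_fix hu)]

theorem pt_conj {h u : G} (hh : h * z = z * h) (hu : Nci z Q u) :
    pt φ (h * u * h⁻¹) = ap (psi φ h) (pt φ u) := by
  apply S.pt_eq (S.nci_conj hh hu)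
  intro g hg hgu
  have h1 : h⁻¹ * g * h * u = u * (h⁻¹ * g * h) := by
    calc h⁻¹ * g * h * u = h⁻¹ * (g * (h * u * h⁻¹)) * h := by group
      _ = h⁻¹ * (h * u * h⁻¹ * g) * h := by rw [hgu]
      _ = _ := by group
  have h2 := S.pt_fix hu _ (S.H_mul (S.H_mul (S.H_inv hh) hg) hh) h1
  rw [S.psi_mul (S.H_mul (S.H_inv hh) hg) hh, S.psi_mul (S.H_inv hh) hg, S.psi_inv hh] at h2
  simp only [ap, Subgroup.coe_mul, InvMemClass.coe_inv, Equiv.Perm.mul_apply,
    Equiv.Perm.inv_eq_iff_eq] at h2
  exact h2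

theorem pt_mul_z {u : G} (hu : Nci z Q u) : pt φ (u * z) = pt φ u := by
  apply S.pt_eq (S.nci_mul_z hu)
  intro g hg hgu
  refine S.pt_fix hu g hg (mul_right_cancel (b := z) ?_)
  calc g * u * z = g * (u * z) := mul_assoc _ _ _
    _ = u * z * g := hgu
    _ = u * (g * z) := by rw [hg]; group
    _ = _ := by group

theorem pt_surj (i : Fin 5) : ∃ u, Nci z Q u ∧ pt φ u = i := by
  obtain ⟨g₀, hg₀⟩ := S.exists_nci
  obtain ⟨g, hg⟩ := transitive (pt φ (g₀ * z * g₀⁻¹)) i
  obtain ⟨h, hh, rfl⟩ := S.psi_surj g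
  exact ⟨_, S.nci_conj hh hg₀, (S.pt_conj hh hg₀).trans hg⟩

theorem pt_eq_iff {u w : G} (hu : Nci z Q u) (hw : Nci z Q w) :
    pt φ w = pt φ u ↔ w = u ∨ w = u * z := by
  classical
  haveI := Fintype.ofFinite G
  refine ⟨fun h => ?_, ?_⟩
  · let JF : Finset G := Finset.univ.filter fun x => Nci z Q x
    have hJ : JF.card = 10 := by
      rw [← S.nci_core.1, Nat.card_eq_fintype_card, Fintype.card_subtype]
    have hge : ∀ i ∈ (Finset.univ : Finset (Fin 5)),
        2 ≤ (JF.filter fun x => pt φ x = i).card := by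
      intro i _
      obtain ⟨x, hx, hxi⟩ := S.pt_surj i
      refine Finset.one_lt_card.2 ⟨x, ?_, x * z, ?_, S.ne_mul_z x⟩
      · simp [JF, hx, hxi]
      · simp [JF, S.nci_mul_z hx, S.pt_mul_z hx, hxi]
    have hsum := Finset.card_eq_sum_card_fiberwise (f := pt φ) (s := JF)
      (t := (Finset.univ : Finset (Fin 5))) (fun x _ => Finset.mem_univ _)
    have hall := (Finset.sum_eq_sum_iff_of_le hge).1 (by
      rw [← hsum, hJ]; simp) (pt φ u) (Finset.mem_univ _)
    have heq : ({u, u * z} : Finset G) = JF.filter fun x => pt φ x = pt φ u := by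
      refine Finset.eq_of_subset_of_card_le ?_ (by rw [← hall, Finset.card_pair (S.ne_mul_z u)])
      intro x hx
      simp only [Finset.mem_insert, Finset.mem_singleton] at hx
      rcases hx with rfl | rfl
      · simp [JF, hu]
      · simp [JF, S.nci_mul_z hu, S.pt_mul_z hu]
    have hmem : w ∈ JF.filter fun x => pt φ x = pt φ u := by simp [JF, hw, h]
    rw [← heq] at hmem
    simpa using hmem
  · rintro (rfl | rfl)
    exacts [rfl, S.pt_mul_z hu]

theorem pt_fix_iff {h u : G} (hh : h * z = z * h) (hu : Nci z Q u) :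
    ap (psi φ h) (pt φ u) = pt φ u ↔ h * u * h⁻¹ = u ∨ h * u * h⁻¹ = u * z := by
  rw [← S.pt_conj hh hu]
  exact S.pt_eq_iff hu (S.nci_conj hh hu)

theorem nc_of_pt_ne {u w : G} (hu : Nci z Q u) (hw : Nci z Q w) (h : pt φ u ≠ pt φ w) :
    u * w ≠ w * u := by
  intro hc
  apply h
  rcases S.nci_core.2 w u hw hu hc with e | e
  · rw [e]
  · rw [e, S.pt_mul_z hw]

end FiniteG

end Setup

end Cfsg.Agent.HJ
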