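import Cfsg.Agent.Lib.HJ.ThreeSylow
import Mathlib.GroupTheory.FixedPointFree

/-!
The Sylow 5-subgroups.
-/

set_option autoImplicit false
set_option linter.style.haveILetI false

open scoped Pointwise

namespace Cfsg.Agent.HJ

theorem conj_card_cent {G : Type*} [Group G] {y : G} (g : G) :
    Nat.card (Subgroup.centralizer ({g⁻¹ * y * g} : Set G)) =
      Nat.card (Subgroup.centralizer ({y} : Set G)) := by
  rw [card_cent_equiv (MulAut.conj g), show MulAut.conj g (g⁻¹ * y * g) = y by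
    show g * (g⁻¹ * y * g) * g⁻¹ = y; group]

variable {G : Type*} [Group G] [Finite G] {z : G} {Q : Subgroup G}
  {φ : ↥(Subgroup.centralizer ({z} : Set G)) →* A5} {u a x s : G} {K V : Subgroup G}

namespace Setup

variable (S : Setup z Q φ)
include S

theorem fix_five {y : G} (hyz : y * z = z * y) (hy5 : y ^ 5 = 1) (hy1 : y ≠ 1) :
    Nat.card ↥(Q ⊓ Subgroup.centralizer ({y} : Set G)) = 2 := by
  haveI : Fact (Nat.Prime 5) := ⟨by norm_num⟩
  have hmod := card_fixed_modEq hy5 (Q : Set G) fun w hw => S.conj_mem_Q hyz hw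
  set X := Q ⊓ Subgroup.centralizer ({y} : Set G) with hX
  have hXc : Nat.card {w : G // w ∈ (Q : Set G) ∧ y * w = w * y} = Nat.card X :=
    Nat.card_congr (Equiv.subtypeEquivRight fun w => by
      simp [hX, Subgroup.mem_inf, mem_cent, eq_comm])
  rw [hXc, show Nat.card {w : G // w ∈ (Q : Set G)} = 32 from S.card] at hmod
  have hdvd : Nat.card X ∣ 32 := S.card ▸ Subgroup.card_dvd_of_le inf_le_left
  have hne : Nat.card X ≠ 32 := by
    intro h
    have hXQ : X = Q := Subgroup.eq_of_le_of_card_ge inf_le_left (by rw [h, S.card])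
    have hyQ : y ∈ Q := S.self y hyz fun w hw => by
      rw [← hXQ] at hw
      exact (mem_cent.1 hw.2).symm
    have h5 := Subgroup.orderOf_dvd_natCard Q hyQ
    rw [orderOf_eq_prime hy5 hy1, S.card] at h5
    omega
  have hm : Nat.card X ∈ Nat.divisors 32 := Nat.mem_divisors.2 ⟨hdvd, by norm_num⟩
  rw [show Nat.divisors 32 = {1, 2, 4, 8, 16, 32} by decide] at hm
  simp only [Finset.mem_insert, Finset.mem_singleton] at hm
  rw [Nat.ModEq] at hmod
  omega

theorem five_notQ {y : G} (hy5 : y ^ 5 = 1) (hy1 : y ≠ 1) : y ∉ Q := fun h => by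
  have h5 := Subgroup.orderOf_dvd_natCard Q h
  rw [orderOf_eq_prime (hp := ⟨Nat.prime_five⟩) hy5 hy1, S.card] at h5
  omega

theorem card_CH_five {y : G} (hyz : y * z = z * y) (hy5 : y ^ 5 = 1) (hy1 : y ≠ 1) :
    Nat.card ↥(Subgroup.centralizer ({z} : Set G) ⊓ Subgroup.centralizer ({y} : Set G)) = 10 := by
  classical
  set A := Subgroup.centralizer ({z} : Set G) ⊓ Subgroup.centralizer ({y} : Set G)
  let χ : A →* A5 := φ.comp (Subgroup.inclusion inf_le_left)
  have hχ : ∀ g : A, χ g = psi φ (g : G) := fun g => by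
    rw [psi, dif_pos (show (g : G) ∈ Subgroup.centralizer ({z} : Set G) from g.2.1)]; rfl
  have hk : Nat.card χ.ker = 2 := by
    rw [← S.fix_five hyz hy5 hy1]
    exact Nat.card_congr
      { toFun := fun g => ⟨g.1.1, (S.ker _).1 g.2, g.1.2.2⟩
        invFun := fun w => ⟨⟨w.1, S.Q_le w.2.1, w.2.2⟩, (S.ker ⟨w.1, S.Q_le w.2.1⟩).2 w.2.1⟩
        left_inv := fun g => rfl
        right_inv := fun w => rfl }
  have hψ : psi φ y ^ 5 = 1 ∧ psi φ y ≠ 1 := by
    refine ⟨?_, fun h => S.five_notQ hy5 hy1 ((S.psi_eq_one hyz).1 h)⟩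
    rw [← S.psi_pow hyz, hy5]; exact (S.psi_eq_one (by simp)).2 Q.one_mem
  have hr : Nat.card χ.range = 5 := by
    refine le_antisymm ?_ ?_
    · refine le_trans ?_ (le_of_eq (A5_cent_five _ hψ.1 hψ.2))
      rw [Nat.card_eq_fintype_card, Fintype.card_subtype]
      refine Finset.card_le_card fun σ hσ => ?_
      simp only [Finset.mem_filter, Finset.mem_univ, true_and, MonoidHom.mem_range] at hσ ⊢
      obtain ⟨g, rfl⟩ := hσ
      rw [hχ, ← S.psi_mul (mem_cent.1 g.2.1) hyz, ← S.psi_mul hyz (mem_cent.1 g.2.1),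
        mem_cent.1 g.2.2]
    · have hd : orderOf (psi φ y) ∣ Nat.card χ.range := Subgroup.orderOf_dvd_natCard _
        ⟨⟨y, mem_cent.2 hyz, mem_cent.2 rfl⟩, hχ _⟩
      rw [orderOf_eq_prime (hp := ⟨Nat.prime_five⟩) hψ.1 hψ.2] at hd
      exact Nat.le_of_dvd Nat.card_pos hd
  rw [← χ.ker.card_mul_index, Subgroup.index_ker, hk, hr]

/-- The centraliser of an element of order five centralising `z`. -/
theorem cent_five {y : G} (hyz : y * z = z * y) (hy5 : y ^ 5 = 1) (hy1 : y ≠ 1) :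
    ¬ 4 ∣ Nat.card (Subgroup.centralizer ({y} : Set G)) ∧
    ∀ P : Subgroup G, IsPGroup 5 P → y ∈ P → P ≤ Subgroup.centralizer ({y} : Set G) →
      Subgroup.centralizer ({y} : Set G) ≤ Subgroup.normalizer (P : Set G) := by
  classical
  haveI : Fact (Nat.Prime 2) := ⟨Nat.prime_two⟩
  haveI : Fact (Nat.Prime 5) := ⟨Nat.prime_five⟩
  set M := Subgroup.centralizer ({y} : Set G) with hM
  have hzM : z ∈ M := mem_cent.2 hyz.symm
  let zT : M := ⟨z, hzM⟩
  have hzT : orderOf zT = 2 :=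
    orderOf_eq_two_iff'.2 ⟨Subtype.ext S.zz, fun h => S.zne (congrArg Subtype.val h)⟩
  -- elements of two-power order commuting with `z`
  have htwo : ∀ w : G, w ∈ M → w * z = z * w → ∀ k, w ^ 2 ^ k = 1 → w = 1 ∨ w = z := by
    intro w hw hwz k hk
    have h10 : w ^ 10 = 1 := by
      have h := pow_card_eq_one' (G := ↥(Subgroup.centralizer ({z} : Set G) ⊓ M))
        (x := ⟨w, mem_cent.2 hwz, hw⟩)
      rw [S.card_CH_five hyz hy5 hy1] at h
      exact congrArg Subtype.val h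
    have h2 : w * w = 1 := by
      have hd := Nat.dvd_gcd (orderOf_dvd_of_pow_eq_one h10) (orderOf_dvd_of_pow_eq_one hk)
      obtain ⟨j, hj, hj'⟩ := (Nat.dvd_prime_pow Nat.prime_two).1 (orderOf_dvd_of_pow_eq_one hk)
      have hj1 : j ≤ 1 := by
        by_contra hlt
        have := (hj' ▸ orderOf_dvd_of_pow_eq_one h10 : 2 ^ j ∣ 10)
        have h4 := (pow_dvd_pow 2 (show 2 ≤ j by omega)).trans this
        norm_num at h4
      rw [← pow_two]
      apply orderOf_dvd_iff_pow_eq_one.1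
      rw [hj']
      exact (pow_dvd_pow 2 hj1).trans (by norm_num)
    have hwQ : w ∈ Q := by
      rw [← S.psi_eq_one hwz]
      have e1 : psi φ w * psi φ w = 1 := by
        rw [← S.psi_mul hwz hwz, h2]; exact (S.psi_eq_one (by simp)).2 Q.one_mem
      have e5 : psi φ y ^ 5 = 1 := by
        rw [← S.psi_pow hyz, hy5]; exact (S.psi_eq_one (by simp)).2 Q.one_mem
      have ec : psi φ w * psi φ y = psi φ y * psi φ w := by
        rw [← S.psi_mul hwz hyz, mem_cent.1 hw, S.psi_mul hyz hwz]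
      by_contra hne
      have hy' : psi φ y ≠ 1 := fun h => S.five_notQ hy5 hy1 ((S.psi_eq_one hyz).1 h)
      let Z : Subgroup A5 := Subgroup.centralizer ({psi φ y} : Set A5)
      have hZ : Nat.card Z = 5 := by
        refine Eq.trans ?_ (A5_cent_five _ e5 hy')
        rw [Nat.card_eq_fintype_card, Fintype.card_subtype]
        congr 1
        ext τ
        simp [Z, mem_cent]
      have := Subgroup.orderOf_dvd_natCard Z (mem_cent.2 ec : psi φ w ∈ Z)
      rw [hZ, orderOf_eq_two_iff'.2 ⟨e1, hne⟩] at this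
      omega
    have h' := S.fix_five hyz hy5 hy1
    obtain ⟨⟨c, hc⟩, hc1, huniq⟩ := (Nat.card_eq_two_iff' (1 : ↥(Q ⊓ M))).1 h'
    by_cases hw1 : w = 1
    · exact Or.inl hw1
    · right
      have a1 := huniq ⟨w, hwQ, hw⟩ fun h => hw1 (congrArg Subtype.val h)
      have a2 := huniq ⟨z, S.zQ, hzM⟩ fun h => S.zne (congrArg Subtype.val h)
      exact congrArg Subtype.val (a1.trans a2.symm)
  obtain ⟨R, hR⟩ := (IsPGroup.of_card (p := 2) (n := 1) (G := Subgroup.zpowers zT) (by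
    rw [pow_one, Nat.card_zpowers, hzT])).exists_le_sylow
  have hzR : zT ∈ (R : Subgroup M) := hR (Subgroup.mem_zpowers _)
  haveI : Nontrivial (R : Subgroup M) :=
    ⟨⟨⟨zT, hzR⟩, 1, fun h => S.zne (congrArg (fun q : (R : Subgroup M) => ((q : M) : G)) h)⟩⟩
  haveI := R.2.center_nontrivial
  obtain ⟨c, hc1⟩ := exists_ne (1 : Subgroup.center (R : Subgroup M))
  have hcc : ∀ r : (R : Subgroup M), r * c.1 = c.1 * r := fun r => Subgroup.mem_center_iff.1 c.2 r
  obtain ⟨k, hk⟩ := R.2 c.1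
  have hck : (((c.1 : (R : Subgroup M)) : M) : G) ^ 2 ^ k = 1 :=
    congrArg (fun q : (R : Subgroup M) => ((q : M) : G)) hk
  have hcz : (((c.1 : (R : Subgroup M)) : M) : G) * z = z * (((c.1 : (R : Subgroup M)) : M) : G) :=
    (congrArg (fun q : (R : Subgroup M) => ((q : M) : G)) (hcc ⟨zT, hzR⟩)).symm
  have hceq : (((c.1 : (R : Subgroup M)) : M) : G) = z :=
    (htwo _ (c.1 : M).2 hcz k hck).resolve_left fun h => hc1 (Subtype.ext (Subtype.ext (Subtype.ext h)))
  have hRset : ∀ r : M, r ∈ (R : Subgroup M) → (r : G) = 1 ∨ (r : G) = z := by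
    intro r hr
    obtain ⟨j, hj⟩ := R.2 ⟨r, hr⟩
    refine htwo _ r.2 ?_ j (congrArg (fun q : (R : Subgroup M) => ((q : M) : G)) hj)
    have := congrArg (fun q : (R : Subgroup M) => ((q : M) : G)) (hcc ⟨r, hr⟩)
    simpa [hceq] using this
  have hR2 : (R : Subgroup M) = Subgroup.zpowers zT := by
    refine le_antisymm (fun r hr => ?_) hR
    rcases hRset r hr with h | h
    · rw [show r = 1 from Subtype.ext h]; exact one_mem _
    · rw [show r = zT from Subtype.ext h]; exact Subgroup.mem_zpowers _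
  have hRc : Nat.card (R : Subgroup M) = 2 := by rw [hR2, Nat.card_zpowers, hzT]
  refine ⟨fun h4 => ?_, fun P hP hyP hPM => ?_⟩
  · have h := R.card_eq_multiplicity
    rw [hRc] at h
    have : 2 ≤ (Nat.card M).factorization 2 :=
      (Nat.Prime.pow_dvd_iff_le_factorization Nat.prime_two Nat.card_pos.ne').1 h4
    have h2 := Nat.pow_le_pow_right (show 0 < 2 by norm_num) this
    omega
  -- the normal complement
  have hNC : Subgroup.normalizer ((R : Subgroup M) : Set M) ≤ Subgroup.centralizer ((R : Subgroup M) : Set M) := by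
    intro g hg
    refine Subgroup.mem_centralizer_iff.2 fun r hr => ?_
    rcases hRset r hr with h | h
    · rw [show r = 1 from Subtype.ext h]; simp
    · have hgz := (Subgroup.mem_normalizer_iff.1 hg r).1 hr
      rcases hRset _ hgz with h' | h'
      · exfalso
        exact S.zne (conj_inj' (a := (g : G)) (show (g : G) * z * (g : G)⁻¹ = (g : G) * 1 * (g : G)⁻¹ by
          rw [mul_one, mul_inv_cancel, ← h]; exact h'))
      · apply Subtype.ext
        show (r : G) * g = g * r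
        rw [h]
        have h'' : (g : G) * (r : G) * (g : G)⁻¹ = z := h'
        rw [h] at h''
        exact (conj_eq_iff_comm.1 h'').symm
  have hcompl := MonoidHom.ker_transferSylow_isComplement' R hNC
  set O := (MonoidHom.transferSylow R hNC).ker with hO
  haveI hOn : O.Normal := MonoidHom.normal_ker _
  have hOidx : O.index = 2 := by rw [hcompl.symm.index_eq_card, hRc]
  have hOodd : ¬ 2 ∣ Nat.card O := by
    rw [← hcompl.index_eq_card]; exact R.not_dvd_index
  have hOcap : ∀ r : M, r ∈ O → r ∈ (R : Subgroup M) → r = 1 := by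
    intro r h1 h2
    have := hcompl.disjoint.le_bot ⟨h1, h2⟩
    exact Subgroup.mem_bot.1 this
  let yT : M := ⟨y, mem_cent.2 rfl⟩
  have hycen : ∀ g : M, g * yT = yT * g := fun g => Subtype.ext (mem_cent.1 g.2)
  have hofodd : ∀ w : M, w ^ 25 = 1 → w ∈ O := by
    intro w hw
    rw [← QuotientGroup.eq_one_iff]
    have h2 : ((w : M ⧸ O)) ^ 2 = 1 := by rw [← hOidx]; exact pow_card_eq_one'
    have h25 : ((w : M ⧸ O)) ^ 25 = 1 := by rw [← QuotientGroup.mk_pow, hw]; rfl
    have := pow_gcd_eq_one.2 ⟨h2, h25⟩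
    rwa [show Nat.gcd 2 25 = 1 from rfl, pow_one] at this
  have hy25 : yT ^ 25 = 1 := by
    apply Subtype.ext
    show y ^ 25 = 1
    rw [show 25 = 5 * 5 from rfl, pow_mul, hy5, one_pow]
  let X : Subgroup O := Subgroup.zpowers ⟨yT, hofodd yT hy25⟩
  haveI hXn : X.Normal := ⟨fun w hw g => by
    obtain ⟨n, rfl⟩ := Subgroup.mem_zpowers_iff.1 hw
    have hc : Commute g ((⟨yT, hofodd yT hy25⟩ : O) ^ n) :=
      (show Commute g (⟨yT, hofodd yT hy25⟩ : O) from Subtype.ext (hycen g)).zpow_right n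
    rw [hc.eq, mul_inv_cancel_right]; exact hw⟩
  have hconjO : ∀ g : O, zT * (g : M) * zT⁻¹ ∈ O := fun g => hOn.conj_mem _ g.2 zT
  let σ : O →* O :=
    { toFun := fun g => ⟨zT * (g : M) * zT⁻¹, hconjO g⟩
      map_one' := Subtype.ext (by simp)
      map_mul' := fun g h => Subtype.ext (by
        show zT * ((g : M) * h) * zT⁻¹ = zT * g * zT⁻¹ * (zT * h * zT⁻¹); group) }
  have hσσ : ∀ g, σ (σ g) = g := fun g => by
    apply Subtype.ext; apply Subtype.ext
    show z * (z * ((g : M) : G) * z⁻¹) * z⁻¹ = ((g : M) : G)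
    rw [conj_conj, S.zz]; group
  have hσX : X ≤ X.comap σ := by
    intro w hw
    obtain ⟨n, rfl⟩ := Subgroup.mem_zpowers_iff.1 hw
    rw [Subgroup.mem_comap, map_zpow]
    refine zpow_mem ?_ n
    have : σ ⟨yT, hofodd yT hy25⟩ = ⟨yT, hofodd yT hy25⟩ := Subtype.ext (by
      show zT * yT * zT⁻¹ = yT
      rw [hycen zT, mul_inv_cancel_right])
    rw [this]; exact Subgroup.mem_zpowers _
  let σ' : O ⧸ X →* O ⧸ X := QuotientGroup.map X X σ hσX
  have hinvol : Function.Involutive σ' := by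
    intro q
    obtain ⟨g, rfl⟩ := QuotientGroup.mk_surjective q
    show ((σ (σ g) : O) : O ⧸ X) = _
    rw [hσσ]
  have hfpf : MonoidHom.FixedPointFree σ' := by
    intro q hq
    obtain ⟨g, rfl⟩ := QuotientGroup.mk_surjective q
    have hmem : g⁻¹ * σ g ∈ X := QuotientGroup.eq.1 hq.symm
    obtain ⟨n, hn⟩ := Subgroup.mem_zpowers_iff.1 hmem
    have hg : ((σ g : O) : M) = (g : M) * yT ^ n := by
      have h := congrArg (fun w : O => (g : M) * (w : M)) hn
      simpa [← mul_assoc] using h.symm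
    have hgg : (g : M) * yT ^ (2 * n) = g := by
      have hσy : zT * yT ^ n * zT⁻¹ = yT ^ n := by
        rw [((show Commute zT yT from hycen zT).zpow_right n).eq, mul_inv_cancel_right]
      have h : ((σ (σ g) : O) : M) = (g : M) * yT ^ n * yT ^ n := by
        show zT * ((σ g : O) : M) * zT⁻¹ = _
        rw [hg, conj_mul', hσy]
        show ((σ g : O) : M) * yT ^ n = _
        rw [hg]
      rw [hσσ] at h
      rw [two_mul, zpow_add, ← mul_assoc, ← h]
    have h2n : yT ^ (2 * n) = 1 := mul_left_cancel (hgg.trans (mul_one _).symm)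
    have hn0 : yT ^ n = 1 := by
      have hd := orderOf_dvd_iff_zpow_eq_one.2 h2n
      have ho : orderOf yT = 5 := by rw [Subgroup.orderOf_mk, orderOf_eq_prime hy5 hy1]
      rw [ho] at hd
      apply orderOf_dvd_iff_zpow_eq_one.1
      rw [ho]
      exact Int.dvd_of_dvd_mul_right_of_gcd_one hd (by decide)
    rw [hn0, mul_one] at hg
    have hgz : (g : M) * zT = zT * (g : M) := (conj_eq_iff_comm.1 (show zT * (g : M) * zT⁻¹ = g from hg)).symm
    -- so it lies in `X`
    have h10 : ((g : M) : G) ^ 10 = 1 := by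
      have h := pow_card_eq_one' (G := ↥(Subgroup.centralizer ({z} : Set G) ⊓ M))
        (x := ⟨((g : M) : G), mem_cent.2 (congrArg Subtype.val hgz), (g : M).2⟩)
      rw [S.card_CH_five hyz hy5 hy1] at h
      exact congrArg Subtype.val h
    have hg5 : (g : M) ^ 5 = 1 := by
      refine sq_eq_one_of_odd O (Nat.odd_iff.2 (Nat.two_dvd_ne_zero.1 hOodd)) (O.pow_mem g.2 5) ?_
      apply Subtype.ext
      show ((g : M) : G) ^ 5 * ((g : M) : G) ^ 5 = 1
      rw [← pow_add, h10]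
    refine (QuotientGroup.eq_one_iff g).2 ?_
    -- compare inside the group of order ten
    by_contra hgX
    set A := Subgroup.centralizer ({z} : Set G) ⊓ M
    have hgA : ((g : M) : G) ∈ A := ⟨mem_cent.2 (congrArg Subtype.val hgz), (g : M).2⟩
    let yA : A := ⟨y, mem_cent.2 hyz, mem_cent.2 rfl⟩
    let gA : A := ⟨_, hgA⟩
    have hA : Nat.card A = 10 := S.card_CH_five hyz hy5 hy1
    have hf : (Nat.card A).factorization 5 = 1 := by
      rw [hA, show (10 : ℕ) = 5 ^ 1 * 2 by norm_num, Nat.factorization_mul (by norm_num) (by norm_num),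
        Finsupp.add_apply, Nat.factorization_pow_self Nat.prime_five,
        Nat.factorization_eq_zero_of_not_dvd (by norm_num)]
    have hyA : orderOf yA = 5 := by
      rw [← Subgroup.orderOf_coe]; exact orderOf_eq_prime hy5 hy1
    let PA : Sylow 5 A := Sylow.ofCard (Subgroup.zpowers yA) (by rw [hf, pow_one, Nat.card_zpowers, hyA])
    have hnorm : (PA : Subgroup A).Normal := by
      rw [show (PA : Subgroup A) = Subgroup.zpowers yA from Sylow.coe_ofCard _ _]
      refine ⟨fun w hw b => ?_⟩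
      obtain ⟨n, rfl⟩ := Subgroup.mem_zpowers_iff.1 hw
      have hc : Commute b (yA ^ n) :=
        (show Commute b yA from Subtype.ext (mem_cent.1 b.2.2)).zpow_right n
      rw [hc.eq, mul_inv_cancel_right]; exact hw
    have hgP : gA ∈ (PA : Subgroup A) := by
      have hp : IsPGroup 5 (Subgroup.zpowers gA) := by
        rintro ⟨w, hw⟩
        obtain ⟨n, rfl⟩ := Subgroup.mem_zpowers_iff.1 hw
        refine ⟨1, Subtype.ext (Subtype.ext ?_)⟩
        show (((g : M) : G) ^ n) ^ (5 ^ 1) = 1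
        have h5 : ((g : M) : G) ^ 5 = 1 := congrArg Subtype.val hg5
        rw [pow_one, ← zpow_natCast, ← zpow_mul, mul_comm, zpow_mul, zpow_natCast, h5, one_zpow]
      obtain ⟨T, hT⟩ := hp.exists_le_sylow
      haveI := Sylow.unique_of_normal PA hnorm
      rw [Subsingleton.elim PA T]
      exact hT (Subgroup.mem_zpowers _)
    rw [show (PA : Subgroup A) = Subgroup.zpowers yA from Sylow.coe_ofCard _ _] at hgP
    obtain ⟨n, hn⟩ := Subgroup.mem_zpowers_iff.1 hgP
    have hn' : y ^ n = ((g : M) : G) := congrArg Subtype.val hn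
    exact hgX ⟨n, Subtype.ext (Subtype.ext hn')⟩
  have hinv := hfpf.coe_eq_inv_of_involutive hinvol
  -- normalising the five-group
  intro g hg
  have h25 : ∀ p : G, p ∈ P → p ^ 25 = 1 := by
    intro p hp
    obtain ⟨k, hk⟩ := hP ⟨p, hp⟩
    have hk' : p ^ 5 ^ k = 1 := congrArg Subtype.val hk
    have hd := orderOf_dvd_of_pow_eq_one hk'
    obtain ⟨j, hj, hj'⟩ := (Nat.dvd_prime_pow Nat.prime_five).1 hd
    have hG : orderOf p ∣ 604800 := by
      obtain ⟨u', a', x', s', K', V', C⟩ := S.exists_ctx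
      rw [← C.S.card_G]; exact orderOf_dvd_natCard p
    have hj2 : j ≤ 2 := by
      by_contra hlt
      have h3 := (pow_dvd_pow 5 (show 3 ≤ j by omega)).trans (hj' ▸ hG : 5 ^ j ∣ 604800)
      norm_num at h3
    apply orderOf_dvd_iff_pow_eq_one.1
    rw [hj']
    exact (pow_dvd_pow 5 hj2).trans (by norm_num)
  have hPO : ∀ (p : G) (hp : p ∈ P), (⟨p, hPM hp⟩ : M) ∈ O := fun p hp =>
    hofodd _ (Subtype.ext (h25 p hp))
  have hXP : ∀ w : O, w ∈ X → ((w : M) : G) ∈ P := by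
    intro w hw
    obtain ⟨n, rfl⟩ := Subgroup.mem_zpowers_iff.1 hw
    exact P.zpow_mem hyP n
  have hOP : ∀ g : O, ∀ p ∈ P, ((g : M) : G) * p * ((g : M) : G)⁻¹ ∈ P := by
    intro g p hp
    let pO : O := ⟨⟨p, hPM hp⟩, hPO p hp⟩
    have hc := hfpf.commute_all_of_involutive hinvol (g : O ⧸ X) (pO : O ⧸ X)
    have hmem : g * pO * g⁻¹ * pO⁻¹ ∈ X := (QuotientGroup.eq_one_iff _).1 (by
      rw [QuotientGroup.mk_mul, QuotientGroup.mk_mul, QuotientGroup.mk_mul, QuotientGroup.mk_inv,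
        QuotientGroup.mk_inv, hc.eq]; group)
    have h1 := P.mul_mem (hXP _ hmem) hp
    have e : (((g * pO * g⁻¹ * pO⁻¹ : O) : M) : G) * p =
        ((g : M) : G) * p * ((g : M) : G)⁻¹ := by
      show ((g : M) : G) * p * ((g : M) : G)⁻¹ * p⁻¹ * p = _
      rw [inv_mul_cancel_right]
    rwa [e] at h1
  have hzP : ∀ p ∈ P, z * p * z⁻¹ ∈ P := by
    intro p hp
    let pO : O := ⟨⟨p, hPM hp⟩, hPO p hp⟩
    have h := congrFun hinv (pO : O ⧸ X)
    have hmem : pO * σ pO ∈ X := (QuotientGroup.eq_one_iff _).1 (by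
      rw [QuotientGroup.mk_mul]
      show (pO : O ⧸ X) * σ' (pO : O ⧸ X) = 1
      rw [h, mul_inv_cancel])
    have h1 := P.mul_mem (P.inv_mem hp) (hXP _ hmem)
    have e : p⁻¹ * (((pO * σ pO : O) : M) : G) = z * p * z⁻¹ := by
      show p⁻¹ * (p * (z * p * z⁻¹)) = _
      rw [inv_mul_cancel_left]
    rwa [e] at h1
  have hdec : (⟨g, hg⟩ : M) ∈ O ∨ ∃ o ∈ O, (⟨g, hg⟩ : M) = o * zT := by
    by_cases h : (⟨g, hg⟩ : M) ∈ O
    · exact Or.inl h
    · right
      have hzO : zT ∉ O := fun h' => S.zne (congrArg Subtype.val (hOcap _ h' hzR))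
      exact ⟨(⟨g, hg⟩ : M) * zT⁻¹, ((Subgroup.mul_mem_iff_of_index_two hOidx).2
        (iff_of_false h fun e => hzO (by simpa using O.inv_mem e))), by group⟩
  have hgP : ∀ p ∈ P, g * p * g⁻¹ ∈ P := by
    intro p hp
    rcases hdec with h | ⟨o, ho, h⟩
    · exact hOP ⟨_, h⟩ p hp
    · have e : g = (o : G) * z := congrArg Subtype.val h
      rw [e, ← conj_conj]
      exact hOP ⟨o, ho⟩ _ (hzP p hp)
  exact Subgroup.mem_normalizer_iff_map_conj_eq.2 (Subgroup.eq_of_le_of_card_ge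
    (by rintro _ ⟨p, hp, rfl⟩; exact hgP p hp)
    (le_of_eq (Nat.card_congr (P.equivMapOfInjective _ (MulAut.conj g).injective).toEquiv)))

end Setup

/-- An element of order five centralising a central involution. -/
def IsF (z : G) (y : G) : Prop := y ^ 5 = 1 ∧ y ≠ 1 ∧ ∃ g, g⁻¹ * y * g * z = z * (g⁻¹ * y * g)

/-- An element of order five conjugate into the component. -/
def IsF0 (K : Subgroup G) (y : G) : Prop := y ^ 5 = 1 ∧ y ≠ 1 ∧ ∃ g, g⁻¹ * y * g ∈ K

namespace Ctx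

variable (C : Ctx z Q φ u a x s K V)
include C

theorem exists_F : ∃ y, IsF z y := by
  obtain ⟨f, hfz, hf5, hf1, -⟩ := C.S.exists_five
  exact ⟨f, hf5, hf1, 1, by simpa using hfz⟩

theorem exists_F0 : ∃ y, IsF0 K y := by
  obtain ⟨ε⟩ := C.iso
  haveI : Fact (Nat.Prime 5) := ⟨Nat.prime_five⟩
  obtain ⟨⟨y, hy⟩, ho⟩ := exists_prime_orderOf_dvd_card' (p := 5) (G := K)
    (by rw [Nat.card_congr ε.toEquiv, card_A5]; norm_num)
  rw [Subgroup.orderOf_mk] at ho
  exact ⟨y, ho ▸ pow_orderOf_eq_one y, fun h => by rw [h, orderOf_one] at ho; omega, 1, by simpa using hy⟩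

omit C [Finite G] in
theorem pow5_conj {y : G} (g : G) (h5 : y ^ 5 = 1) (h1 : y ≠ 1) :
    (g⁻¹ * y * g) ^ 5 = 1 ∧ g⁻¹ * y * g ≠ 1 := by
  have h := conj_pow (a := g⁻¹) (b := y) (i := 5)
  rw [inv_inv] at h
  refine ⟨by rw [h, h5]; group, fun e => h1 ?_⟩
  calc y = g * (g⁻¹ * y * g) * g⁻¹ := by group
    _ = 1 := by rw [e]; group

theorem F_facts {y : G} (hy : IsF z y) :
    ¬ 4 ∣ Nat.card (Subgroup.centralizer ({y} : Set G)) ∧
    2 ∣ Nat.card (Subgroup.centralizer ({y} : Set G)) ∧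
    ∀ P : Subgroup G, IsPGroup 5 P → y ∈ P → P ≤ Subgroup.centralizer ({y} : Set G) →
      Subgroup.centralizer ({y} : Set G) ≤ Subgroup.normalizer (P : Set G) := by
  obtain ⟨h5, h1, g, hg⟩ := hy
  obtain ⟨h5', h1'⟩ := pow5_conj g h5 h1
  obtain ⟨h4, hP⟩ := C.S.cent_five hg h5' h1'
  refine ⟨conj_card_cent (y := y) g ▸ h4, ?_, ?_⟩
  · have hzc : g * z * g⁻¹ ∈ Subgroup.centralizer ({y} : Set G) := mem_cent.2 (by
      have := conj_comm g hg.symm
      rwa [show g * (g⁻¹ * y * g) * g⁻¹ = y by group] at this)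
    rw [← orderOf_eq_two_iff'.2 ⟨conj_sq g C.S.zz, conj_ne_one g C.S.zne⟩]
    exact Subgroup.orderOf_dvd_natCard _ hzc
  · intro P hPp hyP hPy c hc
    have hconj : ∀ p : G, p ∈ P → g⁻¹ * p * g ∈ P.map (MulAut.conj g⁻¹).toMonoidHom := fun p hp =>
      ⟨p, hp, by show g⁻¹ * p * g⁻¹⁻¹ = _; rw [inv_inv]⟩
    have hc' : g⁻¹ * c * g ∈ Subgroup.centralizer ({g⁻¹ * y * g} : Set G) := mem_cent.2 (by
      calc g⁻¹ * c * g * (g⁻¹ * y * g) = g⁻¹ * (c * y) * g := by group
        _ = g⁻¹ * (y * c) * g := by rw [mem_cent.1 hc]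
        _ = _ := by group)
    have hmem := hP (P.map (MulAut.conj g⁻¹).toMonoidHom) (hPp.map _) (hconj y hyP) (by
      rintro _ ⟨p, hp, rfl⟩
      refine mem_cent.2 ?_
      show g⁻¹ * p * g⁻¹⁻¹ * (g⁻¹ * y * g) = g⁻¹ * y * g * (g⁻¹ * p * g⁻¹⁻¹)
      calc g⁻¹ * p * g⁻¹⁻¹ * (g⁻¹ * y * g) = g⁻¹ * (p * y) * g := by group
        _ = g⁻¹ * (y * p) * g := by rw [mem_cent.1 (hPy hp)]
        _ = _ := by group) hc'
    rw [← Subgroup.map_equiv_normalizer_eq] at hmem
    obtain ⟨c', hc'', he⟩ := hmem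
    have : c' = c := conj_inj' (a := g⁻¹) (by
      show g⁻¹ * c' * g⁻¹⁻¹ = g⁻¹ * c * g⁻¹⁻¹
      rw [show g⁻¹ * c' * g⁻¹⁻¹ = g⁻¹ * c * g from he, inv_inv])
    exact this ▸ hc''

theorem factor_five : (Nat.card G).factorization 5 = 2 := by
  rw [C.S.card_G, show (604800 : ℕ) = 5 ^ 2 * 24192 by norm_num,
    Nat.factorization_mul (by norm_num) (by norm_num),
    Finsupp.add_apply, Nat.factorization_pow_self Nat.prime_five,
    Nat.factorization_eq_zero_of_not_dvd (by norm_num)]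

theorem sylow_five_card (P : Sylow 5 G) : Nat.card (P : Subgroup G) = 25 := by
  haveI : Fact (Nat.Prime 5) := ⟨Nat.prime_five⟩
  rw [P.card_eq_multiplicity, C.factor_five]; norm_num

theorem sylow_five_comm (P : Sylow 5 G) {p q : G} (hp : p ∈ (P : Subgroup G)) (hq : q ∈ (P : Subgroup G)) :
    p * q = q * p := by
  haveI : Fact (Nat.Prime 5) := ⟨Nat.prime_five⟩
  haveI := IsPGroup.isMulCommutative_of_card_eq_prime_sq (p := 5) (G := (P : Subgroup G))
    (by rw [C.sylow_five_card P]; norm_num)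
  exact congrArg Subtype.val (mul_comm' (⟨p, hp⟩ : (P : Subgroup G)) ⟨q, hq⟩)

theorem exists_sylow_five {y : G} (hy5 : y ^ 5 = 1) (hy1 : y ≠ 1) :
    ∃ P : Sylow 5 G, y ∈ (P : Subgroup G) ∧ (P : Subgroup G) ≤ Subgroup.centralizer ({y} : Set G) := by
  haveI : Fact (Nat.Prime 5) := ⟨Nat.prime_five⟩
  obtain ⟨P, hP⟩ := (IsPGroup.of_card (p := 5) (n := 1) (G := Subgroup.zpowers y) (by
    rw [pow_one, Nat.card_zpowers, orderOf_eq_prime hy5 hy1])).exists_le_sylow
  exact ⟨P, hP (Subgroup.mem_zpowers y), fun p hp =>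
    mem_cent.2 (C.sylow_five_comm P hp (hP (Subgroup.mem_zpowers y)))⟩

theorem F0_facts {y : G} (hy : IsF0 K y) :
    Nat.card (Subgroup.centralizer ({y} : Set G)) = 300 ∧
    (∀ t, t * y = y * t → t * t = 1 → t ≠ 1 → ∃ g, g * s * g⁻¹ = t) ∧
    (∃ r, r ^ 3 = 1 ∧ r ≠ 1 ∧ r * y = y * r) ∧
    ∃ k, k * y * k⁻¹ = y⁻¹ := by
  classical
  obtain ⟨h5, h1, g, hg⟩ := hy
  obtain ⟨h5', h1'⟩ := pow5_conj g h5 h1
  obtain ⟨y0, hy0⟩ : ∃ y0, y0 = g⁻¹ * y * g := ⟨_, rfl⟩
  rw [← hy0] at hg h5' h1'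
  have hyy : g * y0 * g⁻¹ = y := by rw [hy0]; group
  have hall : ∀ t, t * y0 = y0 * t → t * t = 1 → t ≠ 1 → ∃ g, g * s * g⁻¹ = t := by
    intro t hty ht ht1
    refine (C.S.two_classes C.L.hs ht ht1).resolve_left fun ⟨r, hr⟩ => ?_
    have hF : IsF z y0 := ⟨h5', h1', r, by
      have h : y0 * (r * z * r⁻¹) = r * z * r⁻¹ * y0 := by rw [hr]; exact hty.symm
      calc r⁻¹ * y0 * r * z = r⁻¹ * (y0 * (r * z * r⁻¹)) * r := by group
        _ = _ := by rw [h]; group⟩
    apply (C.F_facts hF).1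
    have hVc : V ≤ Subgroup.centralizer ({y0} : Set G) := fun v hv =>
      mem_cent.2 (C.D.comm y0 hg v hv).symm
    have hd := Subgroup.card_dvd_of_le hVc
    haveI := Fintype.ofFinite G
    have hV4 : Nat.card V = 4 := by
      have e := C.D.card_C C.S C.L
      have hf : Function.Bijective (fun r : K × V =>
          (⟨(r.1 : G) * r.2, mem_cent.2 (C.D.mem_C C.S C.L r.1.2 r.2.2)⟩ :
            ↥(Subgroup.centralizer ({s} : Set G)))) := by
        constructor
        · rintro ⟨⟨k, hk⟩, ⟨v, hv⟩⟩ ⟨⟨k', hk'⟩, ⟨v', hv'⟩⟩ h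
          obtain ⟨rfl, rfl⟩ := C.D.unique hk hk' hv hv' (congrArg Subtype.val h)
          rfl
        · rintro ⟨c, hcs⟩
          obtain ⟨k, hk, v, hv, rfl⟩ := C.D.decomp c (mem_cent.1 hcs)
          exact ⟨(⟨k, hk⟩, ⟨v, hv⟩), rfl⟩
      rw [← Nat.card_congr (Equiv.ofBijective _ hf), Nat.card_prod] at e
      exact Nat.eq_of_mul_eq_mul_left Nat.card_pos e
    rwa [hV4] at hd
  have h300 : Nat.card (Subgroup.centralizer ({y0} : Set G)) = 300 := by
    rcases C.small_cent (p := 5) (Or.inr rfl) hg h5' h1' hall with e | e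
    · exfalso
      obtain ⟨P, -, hP⟩ := C.exists_sylow_five h5' h1'
      have hd := Subgroup.card_dvd_of_le hP
      rw [C.sylow_five_card P, e] at hd
      omega
    · exact e
  refine ⟨by rw [← conj_card_cent (y := y) g, ← hy0, h300], fun t hty ht ht1 => ?_,
    ⟨g * x * g⁻¹, by rw [conj_pow, C.L.x3]; group, conj_ne_one g C.x_ne,
      by rw [← hyy]; exact conj_comm g (C.xK y0 hg)⟩, ?_⟩
  · obtain ⟨r, hr⟩ := hall (g⁻¹ * t * g) (by
        rw [hy0]
        calc g⁻¹ * t * g * (g⁻¹ * y * g) = g⁻¹ * (t * y) * g := by group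
          _ = _ := by rw [hty]; group)
      (by calc g⁻¹ * t * g * (g⁻¹ * t * g) = g⁻¹ * (t * t) * g := by group
            _ = 1 := by rw [ht]; group)
      (fun e => ht1 (by
        calc t = g * (g⁻¹ * t * g) * g⁻¹ := by group
          _ = 1 := by rw [e]; group))
    exact ⟨g * r, by rw [← conj_conj, hr]; group⟩
  · obtain ⟨ε⟩ := C.iso
    obtain ⟨τ, hτ⟩ := A5_real_five (ε ⟨y0, hg⟩) (by
      rw [← map_pow, ← map_one ε]; exact congrArg ε (Subtype.ext h5'))
    refine ⟨g * (ε.symm τ : K) * g⁻¹, ?_⟩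
    have h := congrArg ε.symm hτ
    rw [map_mul, map_mul, map_inv, map_inv, ε.symm_apply_apply] at h
    have h' : ((ε.symm τ : K) : G) * y0 * ((ε.symm τ : K) : G)⁻¹ = y0⁻¹ := congrArg Subtype.val h
    rw [← hyy]
    calc g * ↑(ε.symm τ) * g⁻¹ * (g * y0 * g⁻¹) * (g * ↑(ε.symm τ) * g⁻¹)⁻¹
        = g * (↑(ε.symm τ) * y0 * (↑(ε.symm τ))⁻¹) * g⁻¹ := by group
      _ = (g * y0 * g⁻¹)⁻¹ := by rw [h']; group

omit C [Finite G] in
theorem mem_zp_three {y r : G} (h3 : r ^ 3 = 1) (hr : r ≠ 1) : orderOf r = 3 :=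
  orderOf_eq_prime (hp := ⟨Nat.prime_three⟩) h3 hr

theorem cent_sylow_five (P : Sylow 5 G) :
    Subgroup.centralizer ((P : Subgroup G) : Set G) = (P : Subgroup G) := by
  haveI : Fact (Nat.Prime 5) := ⟨Nat.prime_five⟩
  obtain ⟨y, hy⟩ := C.exists_F0
  obtain ⟨R, hR⟩ := (IsPGroup.of_card (p := 5) (n := 1) (G := Subgroup.zpowers y) (by
    rw [pow_one, Nat.card_zpowers, orderOf_eq_prime hy.1 hy.2.1])).exists_le_sylow
  obtain ⟨g, hg⟩ := MulAction.exists_smul_eq G R P
  obtain ⟨y', hy'⟩ : ∃ y', y' = g * y * g⁻¹ := ⟨_, rfl⟩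
  have hy'P : y' ∈ (P : Subgroup G) := by
    rw [hy', ← hg, Sylow.coe_subgroup_smul]
    exact ⟨y, hR (Subgroup.mem_zpowers y), rfl⟩
  have hy'0 : IsF0 K y' := by
    obtain ⟨k, hk⟩ := hy.2.2
    exact ⟨by rw [hy', conj_pow, hy.1]; group, hy' ▸ conj_ne_one g hy.2.1, g * k, by
      rw [hy', show (g * k)⁻¹ * (g * y * g⁻¹) * (g * k) = k⁻¹ * y * k by group]; exact hk⟩
  obtain ⟨h300, hall, -, -⟩ := C.F0_facts hy'0
  set Cp := Subgroup.centralizer ((P : Subgroup G) : Set G)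
  have hle : (P : Subgroup G) ≤ Cp := fun p hp =>
    Subgroup.mem_centralizer_iff.2 fun q hq => C.sylow_five_comm P hq hp
  refine le_antisymm ?_ hle
  have hCy : Cp ≤ Subgroup.centralizer ({y'} : Set G) := fun c hc =>
    mem_cent.2 (Subgroup.mem_centralizer_iff.1 hc y' hy'P).symm
  have hd : Nat.card Cp ∣ 300 := h300 ▸ Subgroup.card_dvd_of_le hCy
  have hPdvd : ∀ (r : G), r ∈ Cp → 25 ∣ Nat.card (Subgroup.centralizer ({r} : Set G)) := fun r hr => by
    rw [← C.sylow_five_card P]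
    exact Subgroup.card_dvd_of_le fun p hp => mem_cent.2 (Subgroup.mem_centralizer_iff.1 hr p hp)
  have h2 : ¬ 2 ∣ Nat.card Cp := fun h => by
    haveI : Fact (Nat.Prime 2) := ⟨Nat.prime_two⟩
    obtain ⟨⟨t, ht⟩, ho⟩ := exists_prime_orderOf_dvd_card' (p := 2) h
    rw [Subgroup.orderOf_mk] at ho
    obtain ⟨ht2, ht1⟩ := orderOf_eq_two_iff'.1 ho
    obtain ⟨r, hr⟩ := hall t (mem_cent.1 (hCy ht)) ht2 ht1
    have h25 := hPdvd t ht
    obtain ⟨ε⟩ := C.iso
    rw [← hr, show r * s * r⁻¹ = MulAut.conj r s from rfl, ← card_cent_equiv,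
      C.D.card_C C.S C.L, Nat.card_congr ε.toEquiv, card_A5] at h25
    omega
  have h3 : ¬ 3 ∣ Nat.card Cp := fun h => by
    haveI : Fact (Nat.Prime 3) := ⟨Nat.prime_three⟩
    obtain ⟨⟨r, hr⟩, ho⟩ := exists_prime_orderOf_dvd_card' (p := 3) h
    rw [Subgroup.orderOf_mk] at ho
    have h25 := hPdvd r hr
    rcases C.three_classes ho with e | e <;> obtain ⟨k, hk⟩ := isConj_iff.1 e
    · rw [card_cent_equiv (MulAut.conj k), show MulAut.conj k r = x from hk, C.card_M] at h25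
      omega
    · rw [card_cent_equiv (MulAut.conj k), show MulAut.conj k r = a from hk] at h25
      rcases C.card_cent_a with e' | e' <;> rw [e'] at h25 <;> omega
  refine le_of_eq (Subgroup.eq_of_le_of_card_ge hle ?_).symm
  rw [C.sylow_five_card P]
  have hm : Nat.card Cp ∣ 25 := by
    have c1 : Nat.Coprime (Nat.card Cp) (4 * 3) :=
      Nat.Coprime.mul_right
        (((Nat.prime_two.coprime_iff_not_dvd).2 h2).symm.pow_right 2 : Nat.Coprime (Nat.card Cp) (2 ^ 2))
        ((Nat.prime_three.coprime_iff_not_dvd).2 h3).symm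
    exact c1.dvd_of_dvd_mul_left (by exact hd)
  exact Nat.le_of_dvd (by norm_num) hm

/-- No element of order three normalises a Sylow 5-subgroup and fixes one of its elements. -/
theorem no_three (P : Sylow 5 G) {r y : G} (hr : r ∈ Subgroup.normalizer ((P : Subgroup G) : Set G))
    (h3 : r ^ 3 = 1) (hr1 : r ≠ 1) (hy : y ∈ (P : Subgroup G)) (hy1 : y ≠ 1) (hry : r * y = y * r) :
    False := by
  haveI : Fact (Nat.Prime 3) := ⟨Nat.prime_three⟩
  haveI : Fact (Nat.Prime 5) := ⟨Nat.prime_five⟩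
  have hmod := card_fixed_modEq h3 ((P : Subgroup G) : Set G)
    fun w hw => (Subgroup.mem_normalizer_iff.1 hr w).1 hw
  set X := (P : Subgroup G) ⊓ Subgroup.centralizer ({r} : Set G) with hX
  have hXc : Nat.card {w : G // w ∈ ((P : Subgroup G) : Set G) ∧ r * w = w * r} = Nat.card X :=
    Nat.card_congr (Equiv.subtypeEquivRight fun w => by
      simp [hX, Subgroup.mem_inf, mem_cent, eq_comm]; exact fun _ => Iff.rfl)
  rw [hXc, show Nat.card {w : G // w ∈ ((P : Subgroup G) : Set G)} = 25 from C.sylow_five_card P,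
    Nat.ModEq] at hmod
  have hd : Nat.card X ∣ 5 ^ 2 := by
    rw [show (5 : ℕ) ^ 2 = 25 from rfl, ← C.sylow_five_card P]
    exact Subgroup.card_dvd_of_le inf_le_left
  have hne1 : Nat.card X ≠ 1 := fun h => hy1 (by
    have hmem : y ∈ X := ⟨hy, mem_cent.2 hry.symm⟩
    rw [Subgroup.card_eq_one.1 h] at hmem
    exact Subgroup.mem_bot.1 hmem)
  obtain ⟨k, hk, hk'⟩ := (Nat.dvd_prime_pow Nat.prime_five).1 hd
  have h25 : Nat.card X = 25 := by
    interval_cases k
    · exact absurd (hk'.trans (pow_zero 5)) hne1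
    · rw [hk'] at hmod; omega
    · rw [hk']; rfl
  have hXP : X = (P : Subgroup G) :=
    Subgroup.eq_of_le_of_card_ge inf_le_left (by rw [h25, C.sylow_five_card P])
  have hrP : r ∈ (P : Subgroup G) := by
    rw [← C.cent_sylow_five P, Subgroup.mem_centralizer_iff]
    intro p hp
    have : p ∈ X := by rw [hXP]; exact hp
    exact mem_cent.1 this.2
  have := Subgroup.orderOf_dvd_natCard _ hrP
  rw [C.sylow_five_card P, orderOf_eq_prime h3 hr1] at this
  omega

end Ctx

end Cfsg.Agent.HJ
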