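import Cfsg.Agent.Lib.HJ.Five

/-!
The normaliser of a Sylow 5-subgroup and the classes of subgroups of order five.
-/

set_option autoImplicit false
set_option linter.style.haveILetI false

open scoped Pointwise

namespace Cfsg.Agent.HJ

variable {G : Type*} [Group G] [Finite G] {z : G} {Q : Subgroup G}
  {φ : ↥(Subgroup.centralizer ({z} : Set G)) →* A5} {u a x s : G} {K V : Subgroup G}

/-- The conjugates of `y` under `N`. -/
def orbitIn (N : Subgroup G) (y : G) : Set G := {w | ∃ n ∈ N, n * y * n⁻¹ = w}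

omit [Finite G] in
theorem orbitIn_disjoint {N : Subgroup G} {y y' : G} (h : ∀ n ∈ N, n * y * n⁻¹ ≠ y') :
    Disjoint (orbitIn N y) (orbitIn N y') := by
  rw [Set.disjoint_left]
  rintro w ⟨n, hn, rfl⟩ ⟨n', hn', e⟩
  refine h (n'⁻¹ * n) (N.mul_mem (N.inv_mem hn') hn) ?_
  rw [← conj_conj, ← e]; group

namespace Ctx

variable (C : Ctx z Q φ u a x s K V)
include C

theorem pow_facts {y : G} (h5 : y ^ 5 = 1) (h1 : y ≠ 1) :
    (y ^ 2) ^ 5 = 1 ∧ y ^ 2 ≠ 1 ∧
      Subgroup.centralizer ({y ^ 2} : Set G) = Subgroup.centralizer ({y} : Set G) := by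
  haveI : Fact (Nat.Prime 5) := ⟨Nat.prime_five⟩
  refine ⟨by rw [← pow_mul, mul_comm, pow_mul, h5, one_pow], fun h => ?_, ?_⟩
  · have := orderOf_dvd_of_pow_eq_one h
    rw [orderOf_eq_prime h5 h1] at this
    omega
  · ext c
    rw [mem_cent, mem_cent]
    refine ⟨fun h => ?_, fun h => (show Commute c y from h).pow_right 2⟩
    have h3 := (show Commute c (y ^ 2) from h).pow_right 3
    rw [← pow_mul, show 2 * 3 = 5 + 1 from rfl, pow_succ, h5, one_mul] at h3
    exact h3.eq

theorem conj_card {y y' n : G} (h : n * y * n⁻¹ = y') :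
    Nat.card (Subgroup.centralizer ({y} : Set G)) = Nat.card (Subgroup.centralizer ({y'} : Set G)) := by
  rw [card_cent_equiv (MulAut.conj n), show MulAut.conj n y = y' from h]

/-- The normaliser has order `300` and fuses `P#` into four orbits. -/
theorem five_structure (P : Sylow 5 G) :
    Nat.card (Subgroup.normalizer ((P : Subgroup G) : Set G)) = 300 ∧
    ∃ p q, IsF0 K p ∧ IsF z q ∧ p ∈ (P : Subgroup G) ∧ q ∈ (P : Subgroup G) ∧
      Nat.card (Subgroup.centralizer ({q} : Set G)) ∣ 300 ∧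
      ∀ w ∈ (P : Subgroup G), w ≠ 1 →
        ∃ n ∈ Subgroup.normalizer ((P : Subgroup G) : Set G),
          n * p * n⁻¹ = w ∨ n * p ^ 2 * n⁻¹ = w ∨ n * q * n⁻¹ = w ∨ n * q ^ 2 * n⁻¹ = w := by
  classical
  haveI : Fact (Nat.Prime 5) := ⟨Nat.prime_five⟩
  have intoP : ∀ y : G, y ^ 5 = 1 → y ≠ 1 → ∃ g, g * y * g⁻¹ ∈ (P : Subgroup G) := by
    intro y h5 h1
    obtain ⟨R, hR, -⟩ := C.exists_sylow_five h5 h1
    obtain ⟨g, hg⟩ := MulAction.exists_smul_eq G R P
    exact ⟨g, by rw [← hg, Sylow.coe_subgroup_smul]; exact ⟨y, hR, rfl⟩⟩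
  obtain ⟨p0, hp0⟩ := C.exists_F0
  obtain ⟨q0, hq0⟩ := C.exists_F
  obtain ⟨g, hg⟩ := intoP p0 hp0.1 hp0.2.1
  obtain ⟨g', hg'⟩ := intoP q0 hq0.1 hq0.2.1
  obtain ⟨p, hpdef⟩ : ∃ p, p = g * p0 * g⁻¹ := ⟨_, rfl⟩
  obtain ⟨q, hqdef⟩ : ∃ q, q = g' * q0 * g'⁻¹ := ⟨_, rfl⟩
  have hpP : p ∈ (P : Subgroup G) := hpdef ▸ hg
  have hqP : q ∈ (P : Subgroup G) := hqdef ▸ hg'
  have hp : IsF0 K p := by
    obtain ⟨k, hk⟩ := hp0.2.2
    exact ⟨by rw [hpdef, conj_pow, hp0.1]; group, hpdef ▸ conj_ne_one g hp0.2.1, g * k, by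
      rw [hpdef, show (g * k)⁻¹ * (g * p0 * g⁻¹) * (g * k) = k⁻¹ * p0 * k by group]; exact hk⟩
  have hq : IsF z q := by
    obtain ⟨k, hk⟩ := hq0.2.2
    exact ⟨by rw [hqdef, conj_pow, hq0.1]; group, hqdef ▸ conj_ne_one g' hq0.2.1, g' * k, by
      rw [hqdef, show (g' * k)⁻¹ * (g' * q0 * g'⁻¹) * (g' * k) = k⁻¹ * q0 * k by group]; exact hk⟩
  obtain ⟨h300, -, ⟨r, hr3, hr1, hrp⟩, ⟨k, hk⟩⟩ := C.F0_facts hp
  obtain ⟨hq4, hq2, hqN'⟩ := C.F_facts hq
  set N := Subgroup.normalizer ((P : Subgroup G) : Set G) with hN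
  have hPy : ∀ {y : G}, y ∈ (P : Subgroup G) → (P : Subgroup G) ≤ Subgroup.centralizer ({y} : Set G) :=
    fun hy w hw => mem_cent.2 (C.sylow_five_comm P hw hy)
  have hqN : Subgroup.centralizer ({q} : Set G) ≤ N := hqN' _ P.2 hqP (hPy hqP)
  have hPN : (P : Subgroup G) ≤ N := Subgroup.le_normalizer
  set M := Subgroup.centralizer ({p} : Set G) with hM
  let T : Sylow 5 M := Sylow.ofCard ((P : Subgroup G).subgroupOf M) (by
    rw [Nat.card_congr (Subgroup.subgroupOfEquivOfLe (hPy hpP)).toEquiv, C.sylow_five_card P, h300,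
      show (300 : ℕ) = 5 ^ 2 * 12 by norm_num, Nat.factorization_mul (by norm_num) (by norm_num),
      Finsupp.add_apply, Nat.factorization_pow_self Nat.prime_five,
      Nat.factorization_eq_zero_of_not_dvd (by norm_num)]
    norm_num)
  have hTN : Subgroup.normalizer ((T : Subgroup M) : Set M) = N.subgroupOf M := by
    rw [show (T : Subgroup M) = (P : Subgroup G).subgroupOf M from Sylow.coe_ofCard _ _]
    exact (Subgroup.subgroupOf_normalizer_eq (hPy hpP)).symm
  have hNM : Nat.card ↥(N ⊓ M) = 50 := by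
    have hn := T.card_eq_index_normalizer
    have hmod := card_sylow_modEq_one 5 M
    rw [hn, show Subgroup.normalizer (T : Set M) = N.subgroupOf M from hTN] at hmod
    have hmul := (N.subgroupOf M).card_mul_index
    rw [h300] at hmul
    have e : Nat.card ↥(N ⊓ M) = Nat.card (N.subgroupOf M) := by
      rw [← Nat.card_congr (Subgroup.subgroupOfEquivOfLe (inf_le_right : N ⊓ M ≤ M)).toEquiv,
        Subgroup.inf_subgroupOf_right]
    have h25 : 25 ∣ Nat.card ↥(N ⊓ M) := by
      rw [← C.sylow_five_card P]; exact Subgroup.card_dvd_of_le (le_inf hPN (hPy hpP))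
    rw [← e] at hmul
    obtain ⟨c, hc⟩ := h25
    rw [hc] at hmul ⊢
    have hidx : c * (N.subgroupOf M).index = 12 := by
      rw [mul_assoc] at hmul
      exact Nat.eq_of_mul_eq_mul_left (show 0 < 25 by norm_num) (hmul.trans (by norm_num))
    have hc12 : c ≠ 12 := by
      rintro rfl
      have h1 : (N.subgroupOf M).index = 1 := by omega
      have hMN : M ≤ N := Subgroup.subgroupOf_eq_top.1 (Subgroup.index_eq_one.1 h1)
      exact C.no_three P (hMN (mem_cent.2 hrp)) hr3 hr1 hpP hp.2.1 hrp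
    have hdvd : (N.subgroupOf M).index ∣ 12 := ⟨c, by rw [← hidx]; ring⟩
    have hle := Nat.le_of_dvd (by norm_num) hdvd
    unfold Nat.ModEq at hmod
    generalize (N.subgroupOf M).index = I at hmod hidx hle
    interval_cases I <;> omega
  -- an element of `N` inverting `p`
  obtain ⟨n0, hn0N, hn0⟩ : ∃ n0 ∈ N, n0 * p * n0⁻¹ = p⁻¹ := by
    have hkM : ∀ w ∈ (P : Subgroup G), k * w * k⁻¹ ∈ M := fun w hw => by
      have h := conj_comm k (mem_cent.1 (hPy hpP hw))
      rw [hk] at h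
      have h2 := (show Commute (k * w * k⁻¹) p⁻¹ from h).inv_right
      rw [inv_inv] at h2
      exact mem_cent.2 h2.eq
    have hle : (P : Subgroup G).map (MulAut.conj k).toMonoidHom ≤ M := by
      rintro _ ⟨w, hw, rfl⟩; exact hkM w hw
    let T2 : Sylow 5 M := Sylow.ofCard (((P : Subgroup G).map (MulAut.conj k).toMonoidHom).subgroupOf M) (by
      rw [Nat.card_congr (Subgroup.subgroupOfEquivOfLe hle).toEquiv,
        Subgroup.card_map_of_injective (f := (MulAut.conj k).toMonoidHom) (MulAut.conj k).injective,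
        C.sylow_five_card P, h300,
        show (300 : ℕ) = 5 ^ 2 * 12 by norm_num, Nat.factorization_mul (by norm_num) (by norm_num),
        Finsupp.add_apply, Nat.factorization_pow_self Nat.prime_five,
        Nat.factorization_eq_zero_of_not_dvd (by norm_num)]
      norm_num)
    obtain ⟨m, hm⟩ := MulAction.exists_smul_eq M T2 T
    refine ⟨(m : G) * k, ?_, ?_⟩
    · refine Subgroup.mem_normalizer_iff_map_conj_eq.2 (Subgroup.eq_of_le_of_card_ge ?_ (le_of_eq ?_))
      · rintro _ ⟨w, hw, rfl⟩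
        have hmem : m * ⟨k * w * k⁻¹, hkM w hw⟩ * m⁻¹ ∈ (T : Subgroup M) := by
          rw [← hm, Sylow.coe_subgroup_smul]
          exact ⟨⟨k * w * k⁻¹, hkM w hw⟩, by
            show (⟨k * w * k⁻¹, _⟩ : M) ∈ (T2 : Subgroup M)
            exact ⟨w, hw, rfl⟩, rfl⟩
        show (m : G) * k * w * ((m : G) * k)⁻¹ ∈ (P : Subgroup G)
        have h' : (m : G) * (k * w * k⁻¹) * (m : G)⁻¹ ∈ (P : Subgroup G) := hmem
        rwa [conj_conj] at h'
      · exact Nat.card_congr ((P : Subgroup G).equivMapOfInjective _ (MulAut.conj _).injective).toEquiv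
    · rw [← conj_conj, hk]
      exact conj_eq_iff_comm.2 ((show Commute (m : G) p from mem_cent.1 m.2).inv_right).eq
  -- the index
  obtain ⟨m, hm⟩ : 25 ∣ Nat.card N := by
    rw [← C.sylow_five_card P]; exact Subgroup.card_dvd_of_le hPN
  have orb : ∀ y : G, Nat.card ↥(orbitIn N y) *
      Nat.card ↥(N ⊓ Subgroup.centralizer ({y} : Set G)) = Nat.card N :=
    fun y => card_conj_orbit N y
  haveI := Fintype.ofFinite G
  let Pne : Set G := ((P : Subgroup G) : Set G) \ {1}
  have hPne : Pne.ncard = 24 := by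
    rw [Set.ncard_sdiff_singleton_of_mem (Subgroup.one_mem _), ← Nat.card_coe_set_eq]
    show Nat.card (P : Subgroup G) - 1 = 24
    rw [C.sylow_five_card P]
  have sub : ∀ y ∈ (P : Subgroup G), y ≠ 1 → orbitIn N y ⊆ Pne := by
    rintro y hy hy1 _ ⟨n, hn, rfl⟩
    exact ⟨(Subgroup.mem_normalizer_iff.1 hn y).1 hy, conj_ne_one n hy1⟩
  have hp25 : Nat.card (orbitIn N p) * 2 = m := by
    have h := orb p
    rw [hNM, hm] at h
    omega
  have h4m : 4 ∣ m := by
    let S := N ⊓ Subgroup.normalizer ((Subgroup.zpowers p : Subgroup G) : Set G)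
    have hSC : S ⊓ Subgroup.centralizer ({p} : Set G) = N ⊓ M := by
      refine le_antisymm (le_inf (inf_le_left.trans inf_le_left) inf_le_right) fun c hc => ⟨⟨hc.1, ?_⟩, hc.2⟩
      exact Subgroup.centralizer_le_normalizer _ (Subgroup.mem_centralizer_iff.2 fun w hw => by
        obtain ⟨i, rfl⟩ := Subgroup.mem_zpowers_iff.1 hw
        exact ((show Commute c p from mem_cent.1 hc.2).zpow_right i).symm.eq)
    have hn0S : n0 ∈ S := by
      refine ⟨hn0N, Subgroup.mem_normalizer_iff_map_conj_eq.2 ?_⟩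
      rw [MonoidHom.map_zpowers, show ((MulAut.conj n0 : G ≃* G) : G →* G) p = p⁻¹ from hn0,
        Subgroup.zpowers_inv]
    have hne : n0 ∉ M := fun h => by
      rw [conj_eq_iff_comm.2 (mem_cent.1 h)] at hn0
      have h2 : p * p = 1 := by nth_rw 2 [hn0]; exact mul_inv_cancel p
      have := orderOf_dvd_of_pow_eq_one (show p ^ 2 = 1 by rw [pow_two, h2])
      rw [orderOf_eq_prime hp.1 hp.2.1] at this
      omega
    have hlt : N ⊓ M < S := lt_of_le_of_ne (hSC ▸ inf_le_left) fun e => hne (e ▸ hn0S : n0 ∈ N ⊓ M).2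
    have h50 : 50 ∣ Nat.card S := hNM ▸ Subgroup.card_dvd_of_le hlt.le
    have hS : Nat.card S ∣ 25 * m := hm ▸ Subgroup.card_dvd_of_le inf_le_left
    have horbS := card_conj_orbit S p
    rw [hSC, hNM] at horbS
    -- orbit inside the nonidentity powers
    have hle : Nat.card {w : G // ∃ c ∈ S, c * p * c⁻¹ = w} ≤ 4 := by
      have hsub : {w : G | ∃ c ∈ S, c * p * c⁻¹ = w} ⊆ (Subgroup.zpowers p : Set G) \ {1} := by
        rintro _ ⟨c, hc, rfl⟩
        exact ⟨(Subgroup.mem_normalizer_iff.1 hc.2 p).1 (Subgroup.mem_zpowers p), conj_ne_one c hp.2.1⟩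
      have := Set.ncard_le_ncard hsub
      rw [Set.ncard_sdiff_singleton_of_mem (Subgroup.one_mem _), ← Nat.card_coe_set_eq,
        ← Nat.card_coe_set_eq] at this
      change _ ≤ Nat.card (Subgroup.zpowers p) - 1 at this
      rw [Nat.card_zpowers, orderOf_eq_prime hp.1 hp.2.1] at this
      exact this
    have hge : 2 ≤ Nat.card {w : G // ∃ c ∈ S, c * p * c⁻¹ = w} := by
      by_contra hlt2
      have hS50 : Nat.card S ≤ 50 := by
        rw [← horbS]
        calc _ ≤ 1 * 50 := Nat.mul_le_mul_right 50 (by omega)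
          _ = 50 := by norm_num
      exact hlt.ne (Subgroup.eq_of_le_of_card_ge hlt.le (by rw [hNM]; exact hS50))
    obtain ⟨e, he⟩ := hS
    generalize Nat.card {w : G // ∃ c ∈ S, c * p * c⁻¹ = w} = o at horbS hle hge
    rw [← horbS] at he
    -- the orbit size is two or four
    have ho : o ≠ 3 := by
      rintro rfl
      have h3 : 3 ∣ Nat.card S := ⟨50, horbS.symm⟩
      haveI : Fact (Nat.Prime 3) := ⟨Nat.prime_three⟩
      obtain ⟨⟨c, hc⟩, hco⟩ := exists_prime_orderOf_dvd_card' (p := 3) h3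
      rw [Subgroup.orderOf_mk] at hco
      have hc3 : c ^ 3 = 1 := hco ▸ pow_orderOf_eq_one c
      have hc1 : c ≠ 1 := fun e => by rw [e, orderOf_one] at hco; omega
      have hmod := card_fixed_modEq hc3 ((Subgroup.zpowers p : Subgroup G) : Set G)
        fun w hw => (Subgroup.mem_normalizer_iff.1 hc.2 w).1 hw
      obtain ⟨w, hw, hw1, hcw⟩ : ∃ w ∈ Subgroup.zpowers p, w ≠ 1 ∧ c * w = w * c := by
        by_contra hno
        push Not at hno
        have h1 : Nat.card {w : G // w ∈ ((Subgroup.zpowers p : Subgroup G) : Set G) ∧ c * w = w * c} = 1 :=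
          Nat.card_eq_one_iff_unique.2 ⟨⟨fun v w => Subtype.ext (by
            by_cases hv : v.1 = 1
            · by_cases hw : w.1 = 1
              · rw [hv, hw]
              · exact absurd w.2.2 (hno _ w.2.1 hw)
            · exact absurd v.2.2 (hno _ v.2.1 hv))⟩, ⟨⟨1, Subgroup.one_mem _, by simp⟩⟩⟩
        rw [h1, show Nat.card {w : G // w ∈ ((Subgroup.zpowers p : Subgroup G) : Set G)} =
          Nat.card (Subgroup.zpowers p) from rfl, Nat.card_zpowers, orderOf_eq_prime hp.1 hp.2.1,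
          Nat.ModEq] at hmod
        omega
      exact C.no_three P hc.1 hc3 hc1 (Subgroup.zpowers_le.2 hpP hw) hw1 hcw
    have ho' : o = 2 ∨ o = 4 := by omega
    rcases ho' with rfl | rfl <;> omega
  have hp2 := C.pow_facts hp.1 hp.2.1
  have hq2' := C.pow_facts hq.1 hq.2.1
  have hq300 : Nat.card (Subgroup.centralizer ({q} : Set G)) ∣ 25 * m :=
    hm ▸ Subgroup.card_dvd_of_le hqN
  have hqinf : N ⊓ Subgroup.centralizer ({q} : Set G) = Subgroup.centralizer ({q} : Set G) :=
    inf_eq_right.2 hqN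
  have hq25 : 25 ∣ Nat.card (Subgroup.centralizer ({q} : Set G)) := by
    rw [← C.sylow_five_card P]; exact Subgroup.card_dvd_of_le (hPy hqP)
  have hpq : ∀ n ∈ N, n * p * n⁻¹ ≠ q := fun n _ h => by
    apply hq4
    rw [← C.conj_card h, h300]; norm_num
  have hm48 : m ≤ 48 := by
    have h : Nat.card (orbitIn N p) ≤ 24 := by
      rw [← hPne, Nat.card_coe_set_eq]; exact Set.ncard_le_ncard (sub p hpP hp.2.1)
    omega
  have hm5 : m % 5 = 2 := by
    have hmul := N.card_mul_index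
    rw [hm, C.S.card_G] at hmul
    have hi : N.index % 5 = 1 := by
      have h1 := card_sylow_modEq_one 5 G
      rw [P.card_eq_index_normalizer] at h1
      exact h1
    have h' : m * N.index = 24192 := by
      rw [mul_assoc] at hmul
      exact Nat.eq_of_mul_eq_mul_left (show 0 < 25 by norm_num) (hmul.trans (by norm_num))
    have := congrArg (· % 5) h'
    simp only [Nat.mul_mod, hi, mul_one, Nat.mod_mod] at this
    omega
  have hm12 : m = 12 := by
    by_contra hne
    have h32 : m = 32 := by omega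
    subst h32
    obtain ⟨c, hc⟩ := hq25
    have hcd : c ∣ 32 := Nat.dvd_of_mul_dvd_mul_left (by norm_num) (hc ▸ hq300)
    have hc2 : c ≤ 2 := by
      obtain ⟨j, hj, rfl⟩ := (Nat.dvd_prime_pow Nat.prime_two).1 (show c ∣ 2 ^ 5 from hcd)
      by_contra hlt
      apply hq4
      rw [hc]
      refine Dvd.dvd.mul_left ?_ 25
      have hj2 : 2 ≤ j := by
        by_contra h2
        exact hlt (le_of_le_of_eq (Nat.pow_le_pow_right (by norm_num) (show j ≤ 1 by omega)) (by norm_num))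
      exact pow_dvd_pow 2 hj2
    have hq16 : 16 ≤ Nat.card (orbitIn N q) := by
      have h := orb q
      rw [hqinf, hc, hm] at h
      by_contra hlt
      have := Nat.mul_le_mul (show Nat.card (orbitIn N q) ≤ 15 by omega) (Nat.mul_le_mul_left 25 hc2)
      omega
    have hu := Set.ncard_le_ncard (Set.union_subset (sub p hpP hp.2.1) (sub q hqP hq.2.1))
    rw [Set.ncard_union_eq (orbitIn_disjoint hpq), hPne, ← Nat.card_coe_set_eq, ← Nat.card_coe_set_eq] at hu
    omega
  subst hm12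
  have hN300 : Nat.card N = 300 := hm
  refine ⟨hN300, p, q, hp, hq, hpP, hqP, hq300, ?_⟩
  have hq50 : Nat.card (Subgroup.centralizer ({q} : Set G)) = 50 := by
    obtain ⟨c, hc⟩ := hq25
    have hcd : c ∣ 12 := Nat.dvd_of_mul_dvd_mul_left (by norm_num) (hc ▸ hq300)
    have hc4 : ¬ 4 ∣ c := fun h => hq4 (hc ▸ h.mul_left 25)
    have hc2 : 2 ∣ c := (Nat.Coprime.dvd_of_dvd_mul_left (by norm_num) (hc ▸ hq2) : 2 ∣ c)
    have hc3 : ¬ 3 ∣ c := fun h => by
      haveI : Fact (Nat.Prime 3) := ⟨Nat.prime_three⟩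
      obtain ⟨⟨t, ht⟩, hto⟩ := exists_prime_orderOf_dvd_card' (p := 3)
        (G := Subgroup.centralizer ({q} : Set G)) (hc ▸ h.mul_left 25)
      rw [Subgroup.orderOf_mk] at hto
      exact C.no_three P (hqN ht) (hto ▸ pow_orderOf_eq_one t)
        (fun e => by rw [e, orderOf_one] at hto; omega) hqP hq.2.1 (mem_cent.1 ht)
    have hle := Nat.le_of_dvd (by norm_num) hcd
    rw [hc]
    interval_cases c <;> omega
  have hp50 : Nat.card ↥(N ⊓ Subgroup.centralizer ({p} : Set G)) = 50 := hNM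
  have six : ∀ y, Nat.card ↥(N ⊓ Subgroup.centralizer ({y} : Set G)) = 50 →
      (orbitIn N y).ncard = 6 := fun y hy => by
    have h := orb y
    rw [hy, hN300] at h
    rw [← Nat.card_coe_set_eq]
    omega
  have sq_ne : ∀ y, y ^ 5 = 1 → y ≠ 1 → Nat.card ↥(N ⊓ Subgroup.centralizer ({y} : Set G)) = 50 →
      ∀ n ∈ N, n * y * n⁻¹ ≠ y ^ 2 := by
    intro y hy5 hy1 h50 n hn hny
    have hpw : ∀ i : ℕ, n ^ i * y * (n ^ i)⁻¹ = y ^ 2 ^ i := by
      intro i
      induction i with
      | zero => simp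
      | succ i ih =>
        rw [pow_succ', ← conj_conj, ih, ← conj_pow, hny, ← pow_mul, ← pow_succ']
    let S := N ⊓ Subgroup.normalizer ((Subgroup.zpowers y : Subgroup G) : Set G)
    have hnS : n ∈ S := by
      refine ⟨hn, Subgroup.mem_normalizer_iff_map_conj_eq.2 (Subgroup.eq_of_le_of_card_ge ?_ (le_of_eq ?_))⟩
      · rintro _ ⟨w, hw, rfl⟩
        obtain ⟨i, rfl⟩ := Subgroup.mem_zpowers_iff.1 hw
        show n * y ^ i * n⁻¹ ∈ Subgroup.zpowers y
        rw [← conj_zpow, hny]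
        exact zpow_mem (pow_mem (Subgroup.mem_zpowers y) 2) i
      · exact Nat.card_congr ((Subgroup.zpowers y).equivMapOfInjective _ (MulAut.conj _).injective).toEquiv
    have hSC : S ⊓ Subgroup.centralizer ({y} : Set G) = N ⊓ Subgroup.centralizer ({y} : Set G) := by
      refine le_antisymm (inf_le_inf_right _ inf_le_left) fun c hc => ⟨⟨hc.1, ?_⟩, hc.2⟩
      exact Subgroup.centralizer_le_normalizer _ (Subgroup.mem_centralizer_iff.2 fun w hw => by
        obtain ⟨i, rfl⟩ := Subgroup.mem_zpowers_iff.1 hw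
        exact ((show Commute c y from mem_cent.1 hc.2).zpow_right i).symm.eq)
    have h := card_conj_orbit S y
    rw [hSC, h50] at h
    have ho : orderOf y = 5 := orderOf_eq_prime hy5 hy1
    have hset : {w : G | ∃ c ∈ S, c * y * c⁻¹ = w} = (Subgroup.zpowers y : Set G) \ {1} := by
      ext w
      constructor
      · rintro ⟨c, hc, rfl⟩
        exact ⟨(Subgroup.mem_normalizer_iff.1 hc.2 y).1 (Subgroup.mem_zpowers y), conj_ne_one c hy1⟩
      · rintro ⟨hw, hw1⟩
        rw [SetLike.mem_coe, mem_zpowers_iff_mem_range_orderOf, ho, Finset.mem_image] at hw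
        obtain ⟨i, hi, rfl⟩ := hw
        rw [Finset.mem_range] at hi
        have key : ∀ j, 2 ^ j % 5 = i → ∃ c ∈ S, c * y * c⁻¹ = y ^ i := fun j hj => by
          refine ⟨n ^ j, S.pow_mem hnS j, ?_⟩
          rw [hpw, ← hj, ← ho, pow_mod_orderOf]
        interval_cases i
        · exact absurd (pow_zero y) hw1
        · exact key 0 (by norm_num)
        · exact key 1 (by norm_num)
        · exact key 3 (by norm_num)
        · exact key 2 (by norm_num)
    have h4 : Nat.card {w : G // ∃ c ∈ S, c * y * c⁻¹ = w} = 4 := by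
      show Nat.card ↥{w : G | ∃ c ∈ S, c * y * c⁻¹ = w} = 4
      rw [hset, Nat.card_coe_set_eq, Set.ncard_sdiff_singleton_of_mem (Subgroup.one_mem _),
        ← Nat.card_coe_set_eq]
      show Nat.card (Subgroup.zpowers y) - 1 = 4
      rw [Nat.card_zpowers, ho]
    rw [h4] at h
    have hd := Subgroup.card_dvd_of_le (inf_le_left : S ≤ N)
    rw [← h, hN300] at hd
    omega
  have hq50' : Nat.card ↥(N ⊓ Subgroup.centralizer ({q} : Set G)) = 50 := by rw [hqinf, hq50]
  have d12 : Disjoint (orbitIn N p) (orbitIn N (p ^ 2)) :=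
    orbitIn_disjoint (sq_ne p hp.1 hp.2.1 hp50)
  have d34 : Disjoint (orbitIn N q) (orbitIn N (q ^ 2)) :=
    orbitIn_disjoint (sq_ne q hq.1 hq.2.1 hq50')
  have cross : ∀ y y', Subgroup.centralizer ({y} : Set G) = M →
      Subgroup.centralizer ({y'} : Set G) = Subgroup.centralizer ({q} : Set G) →
      Disjoint (orbitIn N y) (orbitIn N y') := fun y y' hy hy' => orbitIn_disjoint fun n _ h => by
    have := C.conj_card h
    rw [hy, hy', h300, hq50] at this
    omega
  have u12 : (orbitIn N p ∪ orbitIn N (p ^ 2)).ncard = 12 := by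
    rw [Set.ncard_union_eq d12, six p hp50, six _ (by rw [hp2.2.2]; exact hp50)]
  have u34 : (orbitIn N q ∪ orbitIn N (q ^ 2)).ncard = 12 := by
    rw [Set.ncard_union_eq d34, six q hq50', six _ (by rw [hq2'.2.2]; exact hq50')]
  have hall : (orbitIn N p ∪ orbitIn N (p ^ 2)) ∪ (orbitIn N q ∪ orbitIn N (q ^ 2)) = Pne := by
    refine Set.eq_of_subset_of_ncard_le (Set.union_subset (Set.union_subset (sub p hpP hp.2.1)
      (sub _ (pow_mem hpP 2) hp2.2.1)) (Set.union_subset (sub q hqP hq.2.1)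
      (sub _ (pow_mem hqP 2) hq2'.2.1))) ?_
    rw [Set.ncard_union_eq, u12, u34, hPne]
    exact Set.disjoint_union_left.2 ⟨Set.disjoint_union_right.2 ⟨cross _ _ rfl rfl, cross _ _ rfl hq2'.2.2⟩,
      Set.disjoint_union_right.2 ⟨cross _ _ hp2.2.2 rfl, cross _ _ hp2.2.2 hq2'.2.2⟩⟩
  intro w hw hw1
  have hmem : w ∈ Pne := ⟨hw, hw1⟩
  rw [← hall] at hmem
  rcases hmem with (⟨n, hn, e⟩ | ⟨n, hn, e⟩) | (⟨n, hn, e⟩ | ⟨n, hn, e⟩)
  · exact ⟨n, hn, Or.inl e⟩
  · exact ⟨n, hn, Or.inr (Or.inl e)⟩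
  · exact ⟨n, hn, Or.inr (Or.inr (Or.inl e))⟩
  · exact ⟨n, hn, Or.inr (Or.inr (Or.inr e))⟩

/-- The two classes of subgroups of order five. -/
theorem five_classes : ∃ X Y : Subgroup G, Nat.card X = 5 ∧ Nat.card Y = 5 ∧
    (∀ g : G, X.map (MulAut.conj g).toMonoidHom ≠ Y) ∧
    ∀ W : Subgroup G, Nat.card W = 5 → ∃ g : G, W.map (MulAut.conj g).toMonoidHom = X ∨
      W.map (MulAut.conj g).toMonoidHom = Y := by
  classical
  haveI : Fact (Nat.Prime 5) := ⟨Nat.prime_five⟩
  obtain ⟨P⟩ : Nonempty (Sylow 5 G) := inferInstance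
  obtain ⟨-, p, q, hp, hq, hpP, hqP, -, hcl⟩ := C.five_structure P
  have hop : orderOf p = 5 := orderOf_eq_prime hp.1 hp.2.1
  have hoq : orderOf q = 5 := orderOf_eq_prime hq.1 hq.2.1
  refine ⟨Subgroup.zpowers p, Subgroup.zpowers q, by rw [Nat.card_zpowers, hop],
    by rw [Nat.card_zpowers, hoq], fun g hg => ?_, fun W hW => ?_⟩
  · have hmem : q ∈ (Subgroup.zpowers p).map (MulAut.conj g).toMonoidHom := hg ▸ Subgroup.mem_zpowers q
    rw [MonoidHom.map_zpowers, Subgroup.mem_zpowers_iff] at hmem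
    obtain ⟨i, hi⟩ := hmem
    have hpq : ∀ c, c * p = p * c → g * c * g⁻¹ * q = q * (g * c * g⁻¹) := fun c hc => by
      rw [← hi]
      exact ((show Commute (g * c * g⁻¹) (g * p * g⁻¹) from conj_comm g hc).zpow_right i).eq
    have hle : (Subgroup.centralizer ({p} : Set G)).map (MulAut.conj g).toMonoidHom ≤
        Subgroup.centralizer ({q} : Set G) := by
      rintro _ ⟨c, hc, rfl⟩
      exact mem_cent.2 (hpq c (mem_cent.1 hc))
    have hd := Subgroup.card_dvd_of_le hle
    rw [Subgroup.card_map_of_injective (f := (MulAut.conj g).toMonoidHom) (MulAut.conj g).injective,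
      (C.F0_facts hp).1] at hd
    exact (C.F_facts hq).1 ((show 4 ∣ 300 by norm_num).trans hd)
  · obtain ⟨⟨w, hwW⟩, hwo⟩ := exists_prime_orderOf_dvd_card' (p := 5) (G := W) (by rw [hW])
    rw [Subgroup.orderOf_mk] at hwo
    have hWz : W = Subgroup.zpowers w := (Subgroup.eq_of_le_of_card_ge (Subgroup.zpowers_le.2 hwW)
      (by rw [hW, Nat.card_zpowers, hwo])).symm
    have hw1 : w ≠ 1 := fun e => by rw [e, orderOf_one] at hwo; omega
    obtain ⟨R, hR, -⟩ := C.exists_sylow_five (hwo ▸ pow_orderOf_eq_one w) hw1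
    obtain ⟨g, hg⟩ := MulAction.exists_smul_eq G R P
    have hgP : g * w * g⁻¹ ∈ (P : Subgroup G) := by
      rw [← hg, Sylow.coe_subgroup_smul]; exact ⟨w, hR, rfl⟩
    obtain ⟨n, -, hn⟩ := hcl _ hgP (conj_ne_one g hw1)
    have gen : ∀ y : G, y ^ 5 = 1 → y ≠ 1 → Subgroup.zpowers (y ^ 2) = Subgroup.zpowers y := by
      intro y h5 h1
      refine le_antisymm (Subgroup.zpowers_le.2 (pow_mem (Subgroup.mem_zpowers y) 2))
        (Subgroup.zpowers_le.2 ?_)
      have : (y ^ 2) ^ 3 = y := by rw [← pow_mul, show 2 * 3 = 5 + 1 from rfl, pow_succ, h5, one_mul]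
      have h := pow_mem (Subgroup.mem_zpowers (y ^ 2)) 3
      rwa [this] at h
    have key : ∀ y, n * y * n⁻¹ = g * w * g⁻¹ →
        W.map (MulAut.conj (n⁻¹ * g)).toMonoidHom = Subgroup.zpowers y := by
      intro y hy
      rw [hWz, MonoidHom.map_zpowers]
      congr 1
      show n⁻¹ * g * w * (n⁻¹ * g)⁻¹ = y
      rw [← conj_conj, ← hy]; group
    refine ⟨n⁻¹ * g, ?_⟩
    rcases hn with e | e | e | e
    · exact Or.inl (key _ e)
    · exact Or.inl ((key _ e).trans (gen p hp.1 hp.2.1))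
    · exact Or.inr (key _ e)
    · exact Or.inr ((key _ e).trans (gen q hq.1 hq.2.1))

/-- The centraliser of an element of order five has order prime to seven. -/
theorem five_not_seven {y : G} (hy : orderOf y = 5) :
    ¬ 7 ∣ Nat.card (Subgroup.centralizer ({y} : Set G)) := by
  haveI : Fact (Nat.Prime 5) := ⟨Nat.prime_five⟩
  have h1 : y ≠ 1 := fun e => by rw [e, orderOf_one] at hy; omega
  have h5 : y ^ 5 = 1 := hy ▸ pow_orderOf_eq_one y
  obtain ⟨P, hyP, -⟩ := C.exists_sylow_five h5 h1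
  obtain ⟨-, p, q, hp, hq, -, -, hqd, hcl⟩ := C.five_structure P
  obtain ⟨n, -, hn⟩ := hcl y hyP h1
  have hd : Nat.card (Subgroup.centralizer ({y} : Set G)) ∣ 300 := by
    rcases hn with e | e | e | e <;> rw [← C.conj_card e]
    · rw [(C.F0_facts hp).1]
    · rw [(C.pow_facts hp.1 hp.2.1).2.2, (C.F0_facts hp).1]
    · exact hqd
    · rw [(C.pow_facts hq.1 hq.2.1).2.2]; exact hqd
  exact fun h => absurd (h.trans hd) (by norm_num)

end Ctx

end Cfsg.Agent.HJ
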