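import Cfsg.Agent.S0300
import Cfsg.Agent.Lib.Classical.ProjLine

/-!
The elliptic orthogonal group in dimension four over the field with two elements is `A₅`.
-/

set_option autoImplicit false
set_option linter.style.haveILetI false
set_option synthInstance.maxSize 4000
set_option synthInstance.maxHeartbeats 400000

open scoped Matrix

namespace Cfsg.Agent.HJ

/-- The four-dimensional coordinate space. -/
abbrev V4 := (Fin 1 ⊕ Fin 1) ⊕ Fin 2 → ZMod 2

/-- The elliptic form. -/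
abbrev q4 : V4 → ZMod 2 := Cfsg.quadFormMinus 1 (ZMod 2) 1 1

/-- The nonzero singular vectors. -/
abbrev Sing := {v : V4 // q4 v = 0 ∧ v ≠ 0}

theorem card_sing : Fintype.card Sing = 5 := by decide +kernel

/-- An isometry as a matrix. -/
abbrev mat (g : Cfsg.isometryGroup (ZMod 2) q4) :
    Matrix ((Fin 1 ⊕ Fin 1) ⊕ Fin 2) ((Fin 1 ⊕ Fin 1) ⊕ Fin 2) (ZMod 2) :=
  ((g : GL ((Fin 1 ⊕ Fin 1) ⊕ Fin 2) (ZMod 2)) : Matrix _ _ (ZMod 2))

theorem mat_mul (g h : Cfsg.isometryGroup (ZMod 2) q4) : mat (g * h) = mat g * mat h := rfl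

theorem mat_one : mat 1 = 1 := rfl

theorem sing_mem (g : Cfsg.isometryGroup (ZMod 2) q4) (v : Sing) :
    q4 (mat g *ᵥ v.1) = 0 ∧ mat g *ᵥ v.1 ≠ 0 := by
  have hg : ∀ u w : V4, q4 (mat g *ᵥ u) = q4 u := g.2
  refine ⟨(hg v.1 v.1).trans v.2.1, fun h => v.2.2 ?_⟩
  have : mat g⁻¹ *ᵥ (mat g *ᵥ v.1) = v.1 := by
    rw [Matrix.mulVec_mulVec, ← mat_mul, inv_mul_cancel, mat_one, Matrix.one_mulVec]
  rw [← this, h, Matrix.mulVec_zero]

/-- The action on singular vectors. -/
def act : Cfsg.isometryGroup (ZMod 2) q4 →* Equiv.Perm Sing where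
  toFun g :=
    { toFun := fun v => ⟨mat g *ᵥ v.1, sing_mem g v⟩
      invFun := fun v => ⟨mat g⁻¹ *ᵥ v.1, sing_mem g⁻¹ v⟩
      left_inv := fun v => Subtype.ext (by
        show mat g⁻¹ *ᵥ (mat g *ᵥ v.1) = v.1
        rw [Matrix.mulVec_mulVec, ← mat_mul, inv_mul_cancel, mat_one, Matrix.one_mulVec])
      right_inv := fun v => Subtype.ext (by
        show mat g *ᵥ (mat g⁻¹ *ᵥ v.1) = v.1
        rw [Matrix.mulVec_mulVec, ← mat_mul, mul_inv_cancel, mat_one, Matrix.one_mulVec]) }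
  map_one' := Equiv.ext fun v => Subtype.ext (by
    show mat 1 *ᵥ v.1 = v.1
    rw [mat_one, Matrix.one_mulVec])
  map_mul' g h := Equiv.ext fun v => Subtype.ext (by
    show mat (g * h) *ᵥ v.1 = mat g *ᵥ (mat h *ᵥ v.1)
    rw [mat_mul, Matrix.mulVec_mulVec])

theorem basis_from_sing : ∀ j : (Fin 1 ⊕ Fin 1) ⊕ Fin 2,
    ∃ u v w : Sing, ∀ i, (if i = j then (1 : ZMod 2) else 0) = u.1 i + v.1 i + w.1 i := by decide +kernel

theorem act_injective : Function.Injective act := by
  intro g h hgh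
  apply Subtype.ext; apply Units.ext
  show mat g = mat h
  apply Matrix.ext_of_mulVec_single
  intro j
  obtain ⟨u, v, w, e⟩ := basis_from_sing j
  have hfix : ∀ x : Sing, mat g *ᵥ x.1 = mat h *ᵥ x.1 := fun x =>
    congrArg Subtype.val (Equiv.congr_fun hgh x)
  rw [show (Pi.single j 1 : V4) = u.1 + v.1 + w.1 from funext fun i => by
    rw [Pi.single_apply, Pi.add_apply, Pi.add_apply]; exact e i, Matrix.mulVec_add, Matrix.mulVec_add, Matrix.mulVec_add, Matrix.mulVec_add, hfix, hfix,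
    hfix]

theorem card_pomega : Nat.card (Cfsg.POmega (ZMod 2) q4) = 60 := by
  haveI : Fact (Nat.Prime 2) := ⟨Nat.prime_two⟩
  haveI := Fintype.ofFinite (GaloisField 2 2)
  obtain ⟨e⟩ := Cfsg.Agent.S0300.result (F := ZMod 2) (K := GaloisField 2 2) (q := 2) (ZMod.card 2)
    (by rw [← Nat.card_eq_fintype_card, GaloisField.card 2 2 (by norm_num)]) 1 1 (by decide +revert)
  rw [Nat.card_congr e.toEquiv]
  have h := ProjLine.two_mul_card_psl (F := GaloisField 2 2)
  rw [GaloisField.card 2 2 (by norm_num)] at h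
  norm_num at h
  omega

theorem omega_alt : Nonempty (Cfsg.Omega (ZMod 2) q4 ≃* alternatingGroup (Fin 5)) := by
  classical
  let e : Sing ≃ Fin 5 := Fintype.equivFinOfCardEq card_sing
  let f : Cfsg.isometryGroup (ZMod 2) q4 →* Equiv.Perm (Fin 5) :=
    e.permCongrHom.toMonoidHom.comp act
  have hf : Function.Injective f := e.permCongrHom.injective.comp act_injective
  have hmem : ∀ g : Cfsg.Omega (ZMod 2) q4, f g.1 ∈ alternatingGroup (Fin 5) := fun g => by
    rw [Equiv.Perm.mem_alternatingGroup]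
    show (Equiv.Perm.sign.comp f) g.1 = 1
    exact MonoidHom.mem_ker.1 (Abelianization.commutator_subset_ker (Equiv.Perm.sign.comp f) g.2)
  let f' : Cfsg.Omega (ZMod 2) q4 →* alternatingGroup (Fin 5) :=
    (f.comp (Cfsg.Omega (ZMod 2) q4).subtype).codRestrict _ hmem
  have hf' : Function.Injective f' := fun a b h =>
    Subtype.ext (hf (congrArg Subtype.val h))
  haveI : Finite (Cfsg.Omega (ZMod 2) q4) := Finite.of_injective _ hf'
  have h1 : 60 ≤ Nat.card (Cfsg.Omega (ZMod 2) q4) := by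
    rw [← card_pomega]
    exact Nat.card_le_card_of_surjective _ (QuotientGroup.mk'_surjective _)
  have h5 : Nat.card (alternatingGroup (Fin 5)) = 60 := by
    rw [nat_card_alternatingGroup, Nat.card_fin]; rfl
  have h2 := Nat.card_le_card_of_injective f' hf'
  exact ⟨MulEquiv.ofBijective f' (Nat.bijective_iff_injective_and_card f' |>.2 ⟨hf', by omega⟩)⟩

end Cfsg.Agent.HJ
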