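import Cfsg.Agent.Lib.HJ.Invols

/-!
The normaliser of a four-group of central involutions.
-/

set_option autoImplicit false

namespace Cfsg.Agent.HJ

variable {G : Type*} [Group G] [Finite G] {z : G} {Q : Subgroup G}
  {φ : ↥(Subgroup.centralizer ({z} : Set G)) →* A5}

/-- The configuration found inside the normaliser of a central four-group. -/
structure Loc (z : G) (Q : Subgroup G) (u a x s : G) : Prop where
  hu : Nci z Q u
  az : a * z * a⁻¹ = u
  au : a * u * a⁻¹ = u * z
  a3 : a ^ 3 = 1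
  x3 : x ^ 3 = 1
  xz : x * z = z * x
  xu : x * u = u * x
  xa : x * a = a * x
  sa : s * a = a * s
  su : s * u = u * s
  hs : Outer z Q s
  hs' : Outer z Q (x * s * x⁻¹)
  hss : Outer z Q (s * (x * s * x⁻¹))
  ne : x * s * x⁻¹ ≠ s
  comm : s * (x * s * x⁻¹) = x * s * x⁻¹ * s
  cyc : x * (x * s * x⁻¹) * x⁻¹ = s * (x * s * x⁻¹)

namespace Setup

variable (S : Setup z Q φ)
include S

/-- An element of order three centralising `z` and `u` centralises no further element of
`C_Q(u)`. -/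
theorem fix_W {u : G} (hu : Nci z Q u) {x : G} (hxz : x * z = z * x) (hxu : x * u = u * x)
    (hx3 : x ^ 3 = 1) (hx1 : x ≠ 1) {y : G} (hy : y ∈ Q) (hyu : y * u = u * y)
    (hyx : x * y = y * x) : y = 1 ∨ y = z ∨ y = u ∨ y = u * z := by
  haveI : Fact (Nat.Prime 3) := ⟨Nat.prime_three⟩
  set W := Q ⊓ Subgroup.centralizer ({u} : Set G) with hW
  set X := Q ⊓ Subgroup.centralizer ({x} : Set G) with hX
  have conjW : ∀ w ∈ W, x * w * x⁻¹ ∈ W := fun w hw => by
    refine ⟨S.conj_mem_Q hxz hw.1, mem_cent.2 ?_⟩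
    have h := conj_comm x (mem_cent.1 hw.2)
    rwa [conj_eq_iff_comm.2 hxu] at h
  have m1 := card_fixed_modEq hx3 (Q : Set G) fun w hw => S.conj_mem_Q hxz hw
  have m2 := card_fixed_modEq hx3 (W : Set G) conjW
  have e1 : Nat.card {w : G // w ∈ (Q : Set G) ∧ x * w = w * x} = Nat.card X :=
    Nat.card_congr (Equiv.subtypeEquivRight fun w => by
      simp [hX, Subgroup.mem_inf, mem_cent, eq_comm])
  have e2 : Nat.card {w : G // w ∈ (W : Set G) ∧ x * w = w * x} =
      Nat.card ↥(W ⊓ X) :=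
    Nat.card_congr (Equiv.subtypeEquivRight fun w => by
      simp [hX, hW, Subgroup.mem_inf, mem_cent, eq_comm]; tauto)
  rw [e1, show Nat.card {w : G // w ∈ (Q : Set G)} = 32 from S.card] at m1
  rw [e2, show Nat.card {w : G // w ∈ (W : Set G)} = 16 from S.card_cent hu.1 hu.2.2.1 hu.2.2.2]
    at m2
  rw [Nat.ModEq] at m1 m2
  have hE : ({1, z, u, u * z} : Set G) ⊆ ((W ⊓ X : Subgroup G) : Set G) := by
    intro w hw
    simp only [Set.mem_insert_iff, Set.mem_singleton_iff] at hw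
    simp only [SetLike.mem_coe, hW, hX, Subgroup.mem_inf, mem_cent]
    rcases hw with rfl | rfl | rfl | rfl
    · exact ⟨⟨Q.one_mem, by simp⟩, Q.one_mem, by simp⟩
    · exact ⟨⟨S.zQ, (S.Q_comm_z hu.1).symm⟩, S.zQ, hxz.symm⟩
    · exact ⟨⟨hu.1, rfl⟩, hu.1, hxu.symm⟩
    · refine ⟨⟨(S.nci_mul_z hu).1, ?_⟩, (S.nci_mul_z hu).1, ?_⟩
      · exact comm_mul rfl (S.Q_comm_z hu.1).symm
      · exact comm_mul hxu.symm hxz.symm
  have hE4 : ({1, z, u, u * z} : Set G).ncard = 4 := by
    have n1 := (S.nci_mul_z hu).2.2.1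
    have n2 := (S.nci_mul_z hu).2.2.2
    rw [Set.ncard_insert_of_notMem (by simp [Ne.symm S.zne, Ne.symm hu.2.2.1, Ne.symm n1]),
      Set.ncard_insert_of_notMem (by simp [Ne.symm hu.2.2.2, Ne.symm n2]),
      Set.ncard_pair (S.ne_mul_z u)]
  have h4 : 4 ≤ Nat.card ↥(W ⊓ X) := by
    have := Set.ncard_le_ncard hE
    rwa [hE4, ← Nat.card_coe_set_eq] at this
  have hWX : Nat.card ↥(W ⊓ X) ≤ Nat.card X :=
    Nat.le_of_dvd Nat.card_pos (Subgroup.card_dvd_of_le inf_le_right)
  have hX32 : Nat.card X ≠ 32 := by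
    intro h
    have hXQ : X = Q := Subgroup.eq_of_le_of_card_ge inf_le_left (by rw [h, S.card])
    have hxQ : x ∈ Q := S.self x hxz fun w hw => by
      rw [← hXQ] at hw
      exact (mem_cent.1 hw.2).symm
    have hd := Subgroup.orderOf_dvd_natCard Q hxQ
    rw [orderOf_eq_prime hx3 hx1, S.card] at hd
    omega
  have hdX : Nat.card X ∈ Nat.divisors 32 :=
    Nat.mem_divisors.2 ⟨S.card ▸ Subgroup.card_dvd_of_le inf_le_left, by norm_num⟩
  have hdW : Nat.card ↥(W ⊓ X) ∈ Nat.divisors 16 := by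
    refine Nat.mem_divisors.2 ⟨?_, by norm_num⟩
    have := Subgroup.card_dvd_of_le (inf_le_left : W ⊓ X ≤ W)
    rwa [show Nat.card W = 16 from S.card_cent hu.1 hu.2.2.1 hu.2.2.2] at this
  rw [show Nat.divisors 32 = {1, 2, 4, 8, 16, 32} by decide] at hdX
  rw [show Nat.divisors 16 = {1, 2, 4, 8, 16} by decide] at hdW
  simp only [Finset.mem_insert, Finset.mem_singleton] at hdX hdW
  have hW4 : Nat.card ↥(W ⊓ X) = 4 := by omega
  have heq := Set.eq_of_subset_of_ncard_le hE (by
    rw [hE4, ← Nat.card_coe_set_eq]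
    exact le_of_eq hW4)
  have hyWX : y ∈ ((W ⊓ X : Subgroup G) : Set G) :=
    ⟨⟨hy, mem_cent.2 hyu⟩, hy, mem_cent.2 hyx.symm⟩
  rw [← heq] at hyWX
  simpa using hyWX

theorem exists_loc : ∃ u a x s, Loc z Q u a x s := by
  classical
  haveI := Fintype.ofFinite G
  haveI : Fact (Nat.Prime 3) := ⟨Nat.prime_three⟩
  obtain ⟨g, hu⟩ := S.exists_nci
  obtain ⟨u, hug⟩ : ∃ u, u = g * z * g⁻¹ := ⟨_, rfl⟩
  rw [← hug] at hu
  have huz : u * z = z * u := S.Q_comm_z hu.1
  have back : ∀ {y : G}, y * u = u * y → g⁻¹ * y * g * z = z * (g⁻¹ * y * g) := by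
    intro y h
    rw [hug] at h
    calc g⁻¹ * y * g * z = g⁻¹ * (y * (g * z * g⁻¹)) * g := by group
      _ = g⁻¹ * (g * z * g⁻¹ * y) * g := by rw [h]
      _ = _ := by group
  have forth : ∀ {y : G}, g⁻¹ * y * g * z = z * (g⁻¹ * y * g) → y * u = u * y := by
    intro y h
    rw [hug]
    calc y * (g * z * g⁻¹) = g * (g⁻¹ * y * g * z) * g⁻¹ := by group
      _ = g * (z * (g⁻¹ * y * g)) * g⁻¹ := by rw [h]
      _ = _ := by group
  -- the preimage of `z`
  obtain ⟨w, hwdef⟩ : ∃ w, w = g⁻¹ * z * g := ⟨_, rfl⟩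
  have hgw : g * w * g⁻¹ = z := by rw [hwdef]; group
  have hw : Nci z Q w := by
    have h2 : w * w = 1 := by rw [hwdef]; simpa using conj_sq g⁻¹ S.zz
    have h1 : w ≠ 1 := fun h => S.zne (by rw [← hgw, h]; group)
    have hwH : w * z = z * w := hwdef ▸ back huz.symm
    refine ⟨S.conj_z_inQ hwH ⟨g⁻¹, by rw [hwdef]; group⟩, h2, h1, fun h => hu.2.2.2 ?_⟩
    rw [hug, ← h, hgw, h]
  -- the subgroups
  let E : Set G := {1, z, u, u * z}
  have memE : ∀ y, y ∈ E ↔ y = 1 ∨ y = z ∨ y = u ∨ y = u * z := fun y => by simp [E]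
  have Esq : ∀ e ∈ E, e * e = 1 := by
    intro e he
    rcases (memE e).1 he with rfl | rfl | rfl | rfl
    exacts [one_mul 1, S.zz, hu.2.1, (S.nci_mul_z hu).2.1]
  let inCE : G → Prop := fun y => y * z = z * y ∧ y * u = u * y
  have Ecomm : ∀ e ∈ E, ∀ y, inCE y → e * y = y * e := by
    intro e he y hy
    rcases (memE e).1 he with rfl | rfl | rfl | rfl
    · simp
    · exact hy.1.symm
    · exact hy.2.symm
    · exact comm_mul hy.2.symm hy.1.symm
  have EQ : ∀ e ∈ E, e ∈ Q ∧ e * u = u * e ∧ e * z = z * e := by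
    intro e he
    rcases (memE e).1 he with rfl | rfl | rfl | rfl
    · exact ⟨Q.one_mem, by simp, by simp⟩
    · exact ⟨S.zQ, huz.symm, rfl⟩
    · exact ⟨hu.1, rfl, huz⟩
    · exact ⟨(S.nci_mul_z hu).1, comm_mul rfl huz.symm, comm_mul huz rfl⟩
  let inW1 : G → Prop := fun y => y ∈ Q ∧ y * u = u * y
  let inW2 : G → Prop := fun y => y * z = z * y ∧ g⁻¹ * y * g ∈ Q
  have W1CE : ∀ y, inW1 y → inCE y := fun y h => ⟨S.Q_comm_z h.1, h.2⟩
  have W2CE : ∀ y, inW2 y → inCE y := fun y h => ⟨h.1, forth (S.Q_comm_z h.2)⟩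
  have inter : ∀ y, inW1 y → inW2 y → y ∈ E := by
    intro y h1 h2
    have hy2 : y * y = 1 := by
      rcases S.sq y h1.1 with e | e
      · exact e
      · exfalso
        rcases S.sq _ h2.2 with e' | e'
        · apply S.zne
          rw [← e]
          calc y * y = g * (g⁻¹ * y * g * (g⁻¹ * y * g)) * g⁻¹ := by group
            _ = 1 := by rw [e']; group
        · apply hu.2.2.2
          rw [hug, ← e']
          calc g * (g⁻¹ * y * g * (g⁻¹ * y * g)) * g⁻¹ = y * y := by group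
            _ = g⁻¹ * y * g * (g⁻¹ * y * g) := by rw [e, e']
    rw [memE]
    by_cases h : y = 1
    · exact Or.inl h
    by_cases h' : y = z
    · exact Or.inr (Or.inl h')
    rcases S.nci_core.2 u y hu ⟨h1.1, hy2, h, h'⟩ h1.2 with e | e
    · exact Or.inr (Or.inr (Or.inl e))
    · exact Or.inr (Or.inr (Or.inr e))
  have conjW1 : ∀ h y, inCE h → inW1 y → inW1 (h * y * h⁻¹) := fun h y hh hy => by
    refine ⟨S.conj_mem_Q hh.1 hy.1, ?_⟩
    have := conj_comm h hy.2
    rwa [conj_eq_iff_comm.2 hh.2] at this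
  have conjW2 : ∀ h y, inCE h → inW2 y → inW2 (h * y * h⁻¹) := fun h y hh hy => by
    refine ⟨?_, ?_⟩
    · have := conj_comm h hy.1
      rwa [conj_eq_iff_comm.2 hh.1] at this
    · rw [show g⁻¹ * (h * y * h⁻¹) * g = g⁻¹ * h * g * (g⁻¹ * y * g) * (g⁻¹ * h * g)⁻¹ by group]
      exact S.conj_mem_Q (back hh.2) hy.2
  have W2mul : ∀ p q, inW2 p → inW2 q → inW2 (p * q) := fun p q hp hq =>
    ⟨S.H_mul hp.1 hq.1, by
      rw [show g⁻¹ * (p * q) * g = g⁻¹ * p * g * (g⁻¹ * q * g) by group]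
      exact Q.mul_mem hp.2 hq.2⟩
  have W2inv : ∀ p, inW2 p → inW2 p⁻¹ := fun p hp =>
    ⟨S.H_inv hp.1, by
      rw [show g⁻¹ * p⁻¹ * g = (g⁻¹ * p * g)⁻¹ by group]
      exact Q.inv_mem hp.2⟩
  have W1mul : ∀ p q, inW1 p → inW1 q → inW1 (p * q) := fun p q hp hq =>
    ⟨Q.mul_mem hp.1 hq.1, comm_mul hp.2 hq.2⟩
  have W1inv : ∀ p, inW1 p → inW1 p⁻¹ := fun p hp =>
    ⟨Q.inv_mem hp.1, (Commute.inv_left hp.2)⟩
  set i := pt φ u with hi
  have fixi : ∀ y, inCE y → ap (psi φ y) i = i := fun y hy => S.pt_fix hu y hy.1 hy.2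
  have W2psi : ∀ y, inW2 y → psi φ y * psi φ y = 1 := by
    intro y hy
    refine stab_pow_four i _ (fixi y (W2CE y hy)) ?_
    rw [← S.psi_pow hy.1, S.psi_eq_one (S.H_pow hy.1 4)]
    have h4 : (g⁻¹ * y * g) ^ 4 = 1 := by
      rw [show (4 : ℕ) = 2 * 2 from rfl, pow_mul, pow_two, pow_two]
      rcases S.sq _ hy.2 with e | e <;> rw [e]
      · exact one_mul 1
      · exact S.zz
    have : y ^ 4 = 1 := by
      calc y ^ 4 = g * (g⁻¹ * y * g) ^ 4 * g⁻¹ := by rw [← conj_pow]; group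
        _ = 1 := by rw [h4]; group
    rw [this]; exact Q.one_mem
  -- lifts of the four elements
  let T4 : Finset A5 := Finset.univ.filter fun σ => ap σ i = i ∧ σ * σ = 1
  have hT4 : T4.card = 4 := card_stab_invol i
  let W2F : Finset G := Finset.univ.filter inW2
  have hW2c : W2F.card = 16 := by
    rw [← S.card_cent hw.1 hw.2.2.1 hw.2.2.2, Nat.card_eq_fintype_card, Fintype.card_subtype]
    refine Finset.card_nbij' (fun y => g⁻¹ * y * g) (fun y => g * y * g⁻¹) ?_ ?_ ?_ ?_
    · intro y hy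
      simp only [W2F, Finset.coe_filter, Finset.mem_univ, true_and, Set.mem_setOf_eq] at hy ⊢
      refine ⟨hy.2, mem_cent.2 ?_⟩
      rw [hwdef]
      calc g⁻¹ * y * g * (g⁻¹ * z * g) = g⁻¹ * (y * z) * g := by group
        _ = g⁻¹ * (z * y) * g := by rw [hy.1]
        _ = _ := by group
    · intro y hy
      simp only [W2F, Finset.coe_filter, Finset.mem_univ, true_and, Set.mem_setOf_eq,
        Subgroup.mem_inf, mem_cent] at hy ⊢
      refine ⟨?_, by simpa [mul_assoc] using hy.1⟩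
      have := conj_comm g hy.2
      rwa [hgw] at this
    · intro y _; group
    · intro y _; group
  have lift : ∀ σ, ap σ i = i → σ * σ = 1 → ∃ y, inW2 y ∧ psi φ y = σ := by
    intro σ h1 h2
    have hsub : W2F.image (psi φ) ⊆ T4 := by
      intro τ hτ
      simp only [Finset.mem_image, W2F, Finset.mem_filter, Finset.mem_univ, true_and] at hτ
      obtain ⟨y, hy, rfl⟩ := hτ
      simp only [T4, Finset.mem_filter, Finset.mem_univ, true_and]
      exact ⟨fixi y (W2CE y hy), W2psi y hy⟩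
    have hfib : ∀ τ ∈ W2F.image (psi φ), (W2F.filter fun y => psi φ y = τ).card ≤ 4 := by
      intro τ hτ
      simp only [Finset.mem_image, W2F, Finset.mem_filter, Finset.mem_univ, true_and] at hτ
      obtain ⟨y₀, hy₀, rfl⟩ := hτ
      refine (Finset.card_le_card_of_injOn (fun y => y₀⁻¹ * y) (t := ({1, z, u, u * z} : Finset G))
        ?_ ?_).trans ?_
      · intro y hy
        simp only [W2F, Finset.coe_filter, Finset.mem_filter, Finset.mem_univ, true_and,
          Set.mem_setOf_eq] at hy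
        have hq : y₀⁻¹ * y ∈ Q := by
          rw [← S.psi_eq_one (S.H_mul (S.H_inv hy₀.1) hy.1.1), S.psi_mul (S.H_inv hy₀.1) hy.1.1,
            S.psi_inv hy₀.1, hy.2, inv_mul_cancel]
        have h2' := W2mul _ _ (W2inv _ hy₀) hy.1
        have := inter _ ⟨hq, (W2CE _ h2').2⟩ h2'
        simpa [E] using this
      · intro a _ b _ h; simpa using h
      · refine le_trans (Finset.card_insert_le _ _) (Nat.succ_le_succ ?_)
        refine le_trans (Finset.card_insert_le _ _) (Nat.succ_le_succ ?_)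
        exact Finset.card_le_two
    have hle : W2F.card ≤ 4 * (W2F.image (psi φ)).card :=
      Finset.card_le_mul_card_image W2F 4 hfib
    have heq := Finset.eq_of_subset_of_card_le hsub (by omega)
    have hσ : σ ∈ T4 := by simp [T4, h1, h2]
    rw [← heq] at hσ
    simp only [Finset.mem_image, W2F, Finset.mem_filter, Finset.mem_univ, true_and] at hσ
    exact hσ
  let inF : G → Prop := fun y => inCE y ∧ psi φ y * psi φ y = 1
  have decomp : ∀ y, inF y → ∃ p q, inW1 p ∧ inW2 q ∧ y = p * q := by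
    intro y hy
    obtain ⟨q, hq, hqy⟩ := lift _ (fixi y hy.1) hy.2
    refine ⟨y * q⁻¹, q, ⟨?_, comm_mul hy.1.2 (W2CE _ (W2inv q hq)).2⟩, hq,
      (inv_mul_cancel_right y q).symm⟩
    rw [← S.psi_eq_one (S.H_mul hy.1.1 (S.H_inv hq.1)), S.psi_mul hy.1.1 (S.H_inv hq.1),
      S.psi_inv hq.1, hqy, mul_inv_cancel]
  have Fsq : ∀ y, inF y → y * y ∈ E ∧ y ^ 4 = 1 := by
    intro y hy
    obtain ⟨p, q, hp, hq, rfl⟩ := decomp y hy
    have hc : p⁻¹ * q * p * q⁻¹ ∈ E := by
      refine inter _ ?_ ?_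
      · rw [show p⁻¹ * q * p * q⁻¹ = p⁻¹ * (q * p * q⁻¹) by group]
        exact W1mul _ _ (W1inv _ hp) (conjW1 _ _ (W2CE q hq) hp)
      · refine W2mul _ _ ?_ (W2inv _ hq)
        have := conjW2 _ _ (W1CE _ (W1inv p hp)) hq
        rwa [inv_inv] at this
    have hp2 : p * p ∈ E := by
      rw [memE]; rcases S.sq p hp.1 with e | e <;> tauto
    have hq2 : q * q ∈ E := by
      rw [memE]
      rcases S.sq _ hq.2 with e | e
      · left
        calc q * q = g * (g⁻¹ * q * g * (g⁻¹ * q * g)) * g⁻¹ := by group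
          _ = 1 := by rw [e]; group
      · right; right; left
        calc q * q = g * (g⁻¹ * q * g * (g⁻¹ * q * g)) * g⁻¹ := by group
          _ = u := by rw [e, hug]
    have h1 : p * q * (p * q) ∈ E := by
      rw [show p * q * (p * q) = p * p * (p⁻¹ * q * p * q⁻¹) * (q * q) by group]
      exact inter _
        ⟨Q.mul_mem (Q.mul_mem (EQ _ hp2).1 (EQ _ hc).1) (EQ _ hq2).1,
          comm_mul (comm_mul (EQ _ hp2).2.1 (EQ _ hc).2.1) (EQ _ hq2).2.1⟩
        ⟨S.H_mul (S.H_mul (EQ _ hp2).2.2 (EQ _ hc).2.2) (EQ _ hq2).2.2, by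
          have mem : ∀ e ∈ E, g⁻¹ * e * g ∈ Q := by
            intro e he
            rcases (memE e).1 he with rfl | rfl | rfl | rfl
            · simp
            · rw [← hwdef]; exact hw.1
            · rw [hug, show g⁻¹ * (g * z * g⁻¹) * g = z by group]; exact S.zQ
            · rw [hug, show g⁻¹ * (g * z * g⁻¹ * z) * g = z * (g⁻¹ * z * g) by group, ← hwdef]
              exact Q.mul_mem S.zQ hw.1
          rw [show g⁻¹ * (p * p * (p⁻¹ * q * p * q⁻¹) * (q * q)) * g =
            g⁻¹ * (p * p) * g * (g⁻¹ * (p⁻¹ * q * p * q⁻¹) * g) * (g⁻¹ * (q * q) * g) by group]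
          exact Q.mul_mem (Q.mul_mem (mem _ hp2) (mem _ hc)) (mem _ hq2)⟩
    refine ⟨h1, ?_⟩
    rw [show (4 : ℕ) = 2 * 2 from rfl, pow_mul, pow_two, pow_two]
    exact Esq _ h1
  have F4 : ∀ y, inCE y → y ^ 4 = 1 → inF y := fun y hy h =>
    ⟨hy, stab_pow_four i _ (fixi y hy) (by
      rw [← S.psi_pow hy.1, S.psi_eq_one (S.H_pow hy.1 4), h]; exact Q.one_mem)⟩
  -- fixed points of elements of order three
  have fpf : ∀ x y, inCE x → x ^ 3 = 1 → x ≠ 1 → inF y → x * y = y * x → y ∈ E := by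
    intro x y hx hx3 hx1 hy hxy
    obtain ⟨p, q, hp, hq, rfl⟩ := decomp y hy
    have hcx : x * (p * q) * x⁻¹ = p * q := conj_eq_iff_comm.2 hxy
    rw [conj_mul'] at hcx
    have hpe : p⁻¹ * (x * p * x⁻¹) ∈ E := by
      refine inter _ (W1mul _ _ (W1inv _ hp) (conjW1 _ _ hx hp)) ?_
      rw [show p⁻¹ * (x * p * x⁻¹) = q * (x * q * x⁻¹)⁻¹ by
        rw [eq_mul_inv_iff_mul_eq, mul_assoc, hcx, inv_mul_cancel_left]]
      exact W2mul _ _ hq (W2inv _ (conjW2 _ _ hx hq))
    -- a fixed point in the coset `p E`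
    have hinv : ∀ v ∈ {v | p⁻¹ * v ∈ E}, x * v * x⁻¹ ∈ {v | p⁻¹ * v ∈ E} := by
      intro v hv
      have hEm : ∀ e f, e ∈ E → f ∈ E → e * f ∈ E := by
        intro e f he hf
        refine inter _ ⟨Q.mul_mem (EQ e he).1 (EQ f hf).1, comm_mul (EQ e he).2.1 (EQ f hf).2.1⟩ ?_
        have mem : ∀ e ∈ E, g⁻¹ * e * g ∈ Q := by
          intro e he
          rcases (memE e).1 he with rfl | rfl | rfl | rfl
          · simp
          · rw [← hwdef]; exact hw.1
          · rw [hug, show g⁻¹ * (g * z * g⁻¹) * g = z by group]; exact S.zQ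
          · rw [hug, show g⁻¹ * (g * z * g⁻¹ * z) * g = z * (g⁻¹ * z * g) by group, ← hwdef]
            exact Q.mul_mem S.zQ hw.1
        exact W2mul _ _ ⟨(EQ e he).2.2, mem e he⟩ ⟨(EQ f hf).2.2, mem f hf⟩
      show p⁻¹ * (x * v * x⁻¹) ∈ E
      rw [show p⁻¹ * (x * v * x⁻¹) =
        p⁻¹ * (x * p * x⁻¹) * (x * (p⁻¹ * v) * x⁻¹) by group]
      refine hEm _ _ hpe ?_
      rw [conj_eq_iff_comm.2 (Ecomm _ hv x hx).symm]
      exact hv
    have hmod := card_fixed_modEq hx3 {v | p⁻¹ * v ∈ E} hinv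
    have hc4 : Nat.card {v : G // v ∈ {v | p⁻¹ * v ∈ E}} = 4 := by
      have : Nat.card {v : G // v ∈ {v | p⁻¹ * v ∈ E}} = Nat.card E :=
        Nat.card_congr
          { toFun := fun v => ⟨p⁻¹ * v.1, v.2⟩
            invFun := fun e => ⟨p * e.1, by show p⁻¹ * (p * e.1) ∈ E; rw [inv_mul_cancel_left]; exact e.2⟩
            left_inv := fun v => Subtype.ext (mul_inv_cancel_left p v.1)
            right_inv := fun e => Subtype.ext (inv_mul_cancel_left p e.1) }
      rw [this, Nat.card_coe_set_eq]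
      have n1 := (S.nci_mul_z hu).2.2.1
      have n2 := (S.nci_mul_z hu).2.2.2
      rw [Set.ncard_insert_of_notMem (by simp [Ne.symm S.zne, Ne.symm hu.2.2.1, Ne.symm n1]),
        Set.ncard_insert_of_notMem (by simp [Ne.symm hu.2.2.2, Ne.symm n2]),
        Set.ncard_pair (S.ne_mul_z u)]
    rw [hc4, Nat.ModEq] at hmod
    obtain ⟨⟨v, hv, hxv⟩⟩ : Nonempty {v : G // v ∈ {v | p⁻¹ * v ∈ E} ∧ x * v = v * x} := by
      by_contra hne
      rw [not_nonempty_iff] at hne
      rw [Nat.card_of_isEmpty] at hmod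
      omega
    have hvW : inW1 v := by
      rw [show v = p * (p⁻¹ * v) by group]
      exact W1mul _ _ hp ⟨(EQ _ hv).1, (EQ _ hv).2.1⟩
    have hvE : v ∈ E := (memE v).2 (S.fix_W hu hx.1 hx.2 hx3 hx1 hvW.1 hvW.2 hxv)
    have hpE : ∀ e, e ∈ E → inW2 e := by
      intro e he
      refine ⟨(EQ e he).2.2, ?_⟩
      rcases (memE e).1 he with rfl | rfl | rfl | rfl
      · simp
      · rw [← hwdef]; exact hw.1
      · rw [hug, show g⁻¹ * (g * z * g⁻¹) * g = z by group]; exact S.zQ
      · rw [hug, show g⁻¹ * (g * z * g⁻¹ * z) * g = z * (g⁻¹ * z * g) by group, ← hwdef]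
        exact Q.mul_mem S.zQ hw.1
    have hy2 : inW2 (p * q) := by
      refine W2mul _ _ ?_ hq
      rw [show p = v * (p⁻¹ * v)⁻¹ by group]
      exact W2mul _ _ (hpE v hvE) (W2inv _ (hpE _ hv))
    -- transport to the conjugate frame
    have hyu := (W2CE _ hy2).2
    have hfix := S.fix_W (x := g⁻¹ * x * g) (y := g⁻¹ * (p * q) * g) hw (back hx.2)
      (by
        rw [hwdef]
        calc g⁻¹ * x * g * (g⁻¹ * z * g) = g⁻¹ * (x * z) * g := by group
          _ = g⁻¹ * (z * x) * g := by rw [hx.1]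
          _ = _ := by group)
      (by
        have : g⁻¹ * x * g = g⁻¹ * x * g⁻¹⁻¹ := by rw [inv_inv]
        rw [this, conj_pow, hx3]; group)
      (fun e => hx1 (by
        calc x = g * (g⁻¹ * x * g) * g⁻¹ := by group
          _ = 1 := by rw [e]; group))
      hy2.2
      (by
        rw [hwdef]
        calc g⁻¹ * (p * q) * g * (g⁻¹ * z * g) = g⁻¹ * (p * q * z) * g := by group
          _ = g⁻¹ * (z * (p * q)) * g := by rw [hy2.1]
          _ = _ := by group)
      (by
        calc g⁻¹ * x * g * (g⁻¹ * (p * q) * g) = g⁻¹ * (x * (p * q)) * g := by group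
          _ = g⁻¹ * (p * q * x) * g := by rw [hxy]
          _ = _ := by group)
    rw [memE]
    have hval : ∀ t, g⁻¹ * (p * q) * g = t → p * q = g * t * g⁻¹ := by
      rintro t rfl; group
    rcases hfix with e | e | e | e <;> rw [hval _ e]
    · left; group
    · right; right; left; exact hug.symm
    · right; left; exact hgw
    · right; right; right
      rw [conj_mul', hgw, ← hug]; exact huz.symm
  -- the normaliser of the four-group
  have memN : ∀ h, h ∈ Subgroup.normalizer E ↔ ∀ e, e ∈ E ↔ h * e * h⁻¹ ∈ E := fun h => Iff.rfl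
  set N := Subgroup.normalizer E with hN
  have N3 : ∀ h ∈ N, ∀ e ∈ ({z, u, u * z} : Set G), h * e * h⁻¹ ∈ ({z, u, u * z} : Set G) := by
    intro h hh e he
    simp only [Set.mem_insert_iff, Set.mem_singleton_iff] at he ⊢
    have he1 : e ≠ 1 := by
      rcases he with rfl | rfl | rfl
      exacts [S.zne, hu.2.2.1, (S.nci_mul_z hu).2.2.1]
    have := ((memN h).1 hh e).1 ((memE e).2 (Or.inr he))
    exact ((memE _).1 this).resolve_left (conj_ne_one h he1)
  -- the three-cycle
  obtain ⟨q₁, hq₁, hq₁u⟩ := S.exists_nc hu.1 hu.2.2.1 hu.2.2.2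
  obtain ⟨q₂, hq₂, hq₂w⟩ := S.exists_nc hw.1 hw.2.2.1 hw.2.2.2
  have hA : q₁ * u * q₁⁻¹ = u * z :=
    (S.conj_Q hq₁ hu.1).resolve_left fun e => hq₁u (conj_eq_iff_comm.1 e).symm
  have hA' : q₁ * z * q₁⁻¹ = z := conj_eq_iff_comm.2 (S.Q_comm_z hq₁)
  have hB : g * q₂ * g⁻¹ * z * (g * q₂ * g⁻¹)⁻¹ = u * z := by
    have h := (S.conj_Q hq₂ hw.1).resolve_left fun e => hq₂w (conj_eq_iff_comm.1 e).symm
    calc g * q₂ * g⁻¹ * z * (g * q₂ * g⁻¹)⁻¹ = g * (q₂ * w * q₂⁻¹) * g⁻¹ := by rw [hwdef]; group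
      _ = g * (w * z) * g⁻¹ := by rw [h]
      _ = z * u := by rw [conj_mul', hgw, hug]
      _ = u * z := huz.symm
  have hB' : g * q₂ * g⁻¹ * u * (g * q₂ * g⁻¹)⁻¹ = u := by
    rw [hug]
    calc g * q₂ * g⁻¹ * (g * z * g⁻¹) * (g * q₂ * g⁻¹)⁻¹ = g * (q₂ * z * q₂⁻¹) * g⁻¹ := by group
      _ = _ := by rw [conj_eq_iff_comm.2 (S.Q_comm_z hq₂)]
  obtain ⟨c, hcdef⟩ : ∃ c, c = q₁ * (g * q₂ * g⁻¹) := ⟨_, rfl⟩
  have hcz : c * z * c⁻¹ = u := by
    rw [hcdef, ← conj_conj, hB, conj_mul', hA, hA', S.mul_z_z]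
  have hcu : c * u * c⁻¹ = u * z := by rw [hcdef, ← conj_conj, hB', hA]
  have hcuz : c * (u * z) * c⁻¹ = z := by
    rw [conj_mul', hcu, hcz]
    calc u * z * u = z * (u * u) := by rw [huz]; group
      _ = z := by rw [hu.2.1, mul_one]
  have hcE : ∀ e ∈ E, c * e * c⁻¹ ∈ E := by
    intro e he
    rw [memE]
    rcases (memE e).1 he with rfl | rfl | rfl | rfl
    · left; group
    · exact Or.inr (Or.inr (Or.inl hcz))
    · exact Or.inr (Or.inr (Or.inr hcu))
    · exact Or.inr (Or.inl hcuz)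
  have normE : ∀ h, (∀ e ∈ E, h * e * h⁻¹ ∈ E) → h ∈ N := by
    intro h hh
    rw [memN]
    intro e
    refine ⟨hh e, fun he => ?_⟩
    have himg : (fun v => h * v * h⁻¹) '' E = E := by
      refine Set.eq_of_subset_of_ncard_le ?_ (le_of_eq ?_) (Set.toFinite E)
      · rintro _ ⟨v, hv, rfl⟩; exact hh v hv
      · exact (Set.ncard_image_of_injective E fun a b hab => conj_inj' hab).symm
    have hbij : Set.SurjOn (fun v => h * v * h⁻¹) E E := himg.symm.subset
    obtain ⟨v, hv, hve⟩ := hbij he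
    exact conj_inj' hve ▸ hv
  have hcN : c ∈ N := normE c hcE
  have hqN : q₁ ∈ N := normE q₁ fun e he => by
    rw [memE]
    rcases (memE e).1 he with rfl | rfl | rfl | rfl
    · left; group
    · exact Or.inr (Or.inl hA')
    · exact Or.inr (Or.inr (Or.inr hA))
    · right; right; left; rw [conj_mul', hA, hA', S.mul_z_z]
  have hCEN : ∀ h, inCE h → h ∈ N := fun h hh => normE h fun e he => by
    rw [conj_eq_iff_comm.2 (Ecomm e he h hh).symm]; exact he
  -- its order
  have card3 : ({z, u, u * z} : Set G).ncard = 3 :=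
    Set.ncard_eq_three.2 ⟨z, u, u * z, Ne.symm hu.2.2.2, Ne.symm (S.nci_mul_z hu).2.2.2,
      S.ne_mul_z u, rfl⟩
  have hN1152 : Nat.card N = 1152 := by
    have h1 := card_conj_orbit N z
    have h2 := card_conj_orbit (N ⊓ Subgroup.centralizer ({z} : Set G)) u
    have o1 : Nat.card {y : G // ∃ h ∈ N, h * z * h⁻¹ = y} = 3 := by
      rw [← card3, ← Nat.card_coe_set_eq]
      refine Nat.card_congr (Equiv.subtypeEquivRight fun y => ⟨?_, ?_⟩)
      · rintro ⟨h, hh, rfl⟩
        exact N3 h hh z (by simp)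
      · intro hy
        simp only [Set.mem_insert_iff, Set.mem_singleton_iff] at hy
        rcases hy with rfl | rfl | rfl
        · exact ⟨1, N.one_mem, by simp⟩
        · exact ⟨c, hcN, hcz⟩
        · exact ⟨c * c, N.mul_mem hcN hcN, by rw [← conj_conj, hcz, hcu]⟩
    have o2 : Nat.card {y : G // ∃ h ∈ N ⊓ Subgroup.centralizer ({z} : Set G), h * u * h⁻¹ = y} = 2 := by
      rw [← Set.ncard_pair (S.ne_mul_z u), ← Nat.card_coe_set_eq]
      refine Nat.card_congr (Equiv.subtypeEquivRight fun y => ⟨?_, ?_⟩)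
      · rintro ⟨h, ⟨hh, hhz⟩, rfl⟩
        have := N3 h hh u (by simp)
        simp only [Set.mem_insert_iff, Set.mem_singleton_iff] at this ⊢
        refine this.resolve_left fun e => hu.2.2.2 (conj_inj' (a := h) ?_)
        rw [e, conj_eq_iff_comm.2 (mem_cent.1 hhz)]
      · intro hy
        simp only [Set.mem_insert_iff, Set.mem_singleton_iff] at hy
        rcases hy with rfl | rfl
        · exact ⟨1, one_mem _, by simp⟩
        · exact ⟨q₁, ⟨hqN, S.Q_le hq₁⟩, hA⟩
    have e3 : N ⊓ Subgroup.centralizer ({z} : Set G) ⊓ Subgroup.centralizer ({u} : Set G) =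
        Subgroup.centralizer ({z} : Set G) ⊓ Subgroup.centralizer ({u} : Set G) := by
      refine le_antisymm (inf_le_inf_right _ inf_le_right) fun y hy => ⟨⟨?_, hy.1⟩, hy.2⟩
      exact hCEN y ⟨mem_cent.1 hy.1, mem_cent.1 hy.2⟩
    rw [o1] at h1
    rw [o2, e3, S.card_CE hu] at h2
    omega
  obtain ⟨P⟩ : Nonempty (Sylow 3 ↥N) := inferInstance
  set P' : Subgroup G := (P : Subgroup ↥N).map N.subtype with hP'
  have hP9 : Nat.card P' = 9 := by
    rw [hP', Subgroup.card_map_of_injective (Subgroup.subtype_injective N),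
      P.card_eq_multiplicity, hN1152,
      show (1152 : ℕ) = 3 ^ 2 * 128 by norm_num, Nat.factorization_mul (by norm_num) (by norm_num),
      Finsupp.add_apply, Nat.factorization_pow_self Nat.prime_three,
      Nat.factorization_eq_zero_of_not_dvd (by norm_num)]
    norm_num
  have hPN : P' ≤ N := Subgroup.map_subtype_le _
  have hPcomm : ∀ p ∈ P', ∀ q ∈ P', p * q = q * p := by
    intro p hp q hq
    haveI := IsPGroup.isMulCommutative_of_card_eq_prime_sq (p := 3) (G := P') (by rw [hP9]; norm_num)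
    exact congrArg Subtype.val (mul_comm' (⟨p, hp⟩ : P') ⟨q, hq⟩)
  have hP9' : ∀ p ∈ P', p ^ 9 = 1 := fun p hp => by
    have h : (⟨p, hp⟩ : P') ^ Nat.card P' = 1 := pow_card_eq_one'
    rw [hP9] at h
    exact congrArg Subtype.val h
  have hPCE : ∀ p ∈ P', p * z = z * p → inCE p := by
    intro p hp hpz
    refine ⟨hpz, ?_⟩
    have := N3 p (hPN hp) u (by simp)
    simp only [Set.mem_insert_iff, Set.mem_singleton_iff] at this
    rcases this with e | e | e
    · exact absurd (conj_inj' (a := p) (e.trans (conj_eq_iff_comm.2 hpz).symm)) hu.2.2.2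
    · exact conj_eq_iff_comm.1 e
    · have h2 : Commute (p ^ 2) u := by
        apply conj_eq_iff_comm.1
        rw [pow_two, ← conj_conj, e, conj_mul', e, conj_eq_iff_comm.2 hpz, S.mul_z_z]
      have h5 := h2.pow_left 5
      rw [← pow_mul, show 2 * 5 = 9 + 1 from rfl, pow_succ, hP9' p hp, one_mul] at h5
      exact h5
  set P0 := P' ⊓ Subgroup.centralizer ({z} : Set G) with hP0
  have hP0 : Nat.card P0 = 3 := by
    have h := card_conj_orbit P' z
    rw [hP9] at h
    have hle : Nat.card {y : G // ∃ p ∈ P', p * z * p⁻¹ = y} ≤ 3 := by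
      rw [← card3, ← Nat.card_coe_set_eq]
      exact Nat.card_le_card_of_injective (α := {y : G // ∃ p ∈ P', p * z * p⁻¹ = y})
        (fun y => ⟨y.1, by obtain ⟨p, hp, e⟩ := y.2; exact e ▸ N3 p (hPN hp) z (by simp)⟩)
        (fun a b e => Subtype.ext (congrArg (fun w : ({z, u, u * z} : Set G) => (w : G)) e))
    have hd : Nat.card P0 ∣ 192 := by
      rw [← S.card_CE hu]
      exact Subgroup.card_dvd_of_le fun p hp =>
        ⟨hp.2, mem_cent.2 (hPCE p hp.1 (mem_cent.1 hp.2)).2⟩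
    have hd9 : Nat.card P0 ∣ 9 := hP9 ▸ Subgroup.card_dvd_of_le inf_le_left
    have h3 : Nat.card P0 ∣ 3 := (Nat.dvd_gcd hd hd9).trans (by norm_num)
    have hm : Nat.card P0 = 1 ∨ Nat.card P0 = 3 := (Nat.dvd_prime Nat.prime_three).1 h3
    have h' : Nat.card {y : G // ∃ p ∈ P', p * z * p⁻¹ = y} * Nat.card P0 = 9 := h
    rcases hm with e | e
    · rw [e] at h'; omega
    · exact e
  have hP03 : ∀ p ∈ P0, p ^ 3 = 1 := fun p hp => by
    have h : (⟨p, hp⟩ : P0) ^ Nat.card P0 = 1 := pow_card_eq_one'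
    rw [hP0] at h
    exact congrArg Subtype.val h
  obtain ⟨x, hxP, hx1⟩ : ∃ x ∈ P0, x ≠ 1 := by
    by_contra hcon
    push Not at hcon
    have : P0 = ⊥ := (Subgroup.eq_bot_iff_forall _).2 hcon
    rw [this, Subgroup.card_bot] at hP0
    omega
  have hxCE := hPCE x hxP.1 (mem_cent.1 hxP.2)
  have hx3 := hP03 x hxP
  -- some element of `P` fixes an element of `F ∖ E`
  have hfixed : ∃ a ∈ P', a ≠ 1 ∧ ∃ y, inF y ∧ y ∉ E ∧ a * y = y * a := by
    by_contra hcon
    push Not at hcon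
    let D : Finset G := Finset.univ.filter fun y => inF y ∧ y ∉ E
    have hFc : (Finset.univ.filter inF).card = 64 := by
      have hmap : ∀ y ∈ (Finset.univ.filter inF : Finset G), psi φ y ∈ T4 := by
        intro y hy
        rw [Finset.mem_filter] at hy
        simp only [T4, Finset.mem_filter, Finset.mem_univ, true_and]
        exact ⟨fixi y hy.2.1, hy.2.2⟩
      rw [Finset.card_eq_sum_card_fiberwise hmap, Finset.sum_const_nat (m := 16), hT4]
      intro σ hσ
      simp only [T4, Finset.mem_filter, Finset.mem_univ, true_and] at hσ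
      obtain ⟨q, hq, rfl⟩ := lift σ hσ.1 hσ.2
      rw [← S.card_cent hu.1 hu.2.2.1 hu.2.2.2, Nat.card_eq_fintype_card, Fintype.card_subtype]
      refine Finset.card_nbij' (fun y => y * q⁻¹) (fun y => y * q) ?_ ?_ ?_ ?_
      · intro y hy
        simp only [Finset.coe_filter, Finset.mem_filter, Finset.mem_univ, true_and,
          Set.mem_setOf_eq, Subgroup.mem_inf, mem_cent] at hy ⊢
        refine ⟨?_, comm_mul hy.1.1.2 (W2CE _ (W2inv q hq)).2⟩
        rw [← S.psi_eq_one (S.H_mul hy.1.1.1 (S.H_inv hq.1)),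
          S.psi_mul hy.1.1.1 (S.H_inv hq.1), S.psi_inv hq.1, hy.2, mul_inv_cancel]
      · intro y hy
        simp only [Finset.coe_filter, Finset.mem_filter, Finset.mem_univ, true_and,
          Set.mem_setOf_eq, Subgroup.mem_inf, mem_cent] at hy ⊢
        have hyH := S.Q_comm_z hy.1
        have hψ : psi φ (y * q) = psi φ q := by
          rw [S.psi_mul hyH hq.1, (S.psi_eq_one hyH).2 hy.1, one_mul]
        refine ⟨⟨⟨S.H_mul hyH hq.1, comm_mul hy.2 (W2CE q hq).2⟩, ?_⟩, hψ⟩
        rw [hψ]; exact W2psi q hq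
      · intro y _; group
      · intro y _; group
    have hD : D.card = 60 := by
      have hsub : ({1, z, u, u * z} : Finset G) ⊆ Finset.univ.filter inF := by
        intro e he
        have heE : e ∈ E := by simpa [E] using he
        rw [Finset.mem_filter]
        refine ⟨Finset.mem_univ _, ⟨(EQ e heE).2.2, (EQ e heE).2.1⟩, ?_⟩
        rw [(S.psi_eq_one (EQ e heE).2.2).2 (EQ e heE).1, one_mul]
      have n1 := (S.nci_mul_z hu).2.2.1
      have n2 := (S.nci_mul_z hu).2.2.2
      have h4 : ({1, z, u, u * z} : Finset G).card = 4 := by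
        rw [Finset.card_insert_of_notMem (by simp [Ne.symm S.zne, Ne.symm hu.2.2.1, Ne.symm n1]),
          Finset.card_insert_of_notMem (by simp [Ne.symm hu.2.2.2, Ne.symm n2]),
          Finset.card_pair (S.ne_mul_z u)]
      have hDe : D = (Finset.univ.filter inF) \ {1, z, u, u * z} := by
        ext y
        simp [D, E]
      rw [hDe, Finset.card_sdiff_of_subset hsub, hFc, h4]
    have hPD : ∀ p ∈ P', ∀ y ∈ D, p * y * p⁻¹ ∈ D := by
      intro p hp y hy
      simp only [D, Finset.mem_filter, Finset.mem_univ, true_and] at hy ⊢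
      have hE' := (memN p).1 (hPN hp)
      refine ⟨F4 _ ?_ ?_, fun h => hy.2 ((hE' y).2 h)⟩
      · constructor
        · have hpre := ((memN p⁻¹).1 (N.inv_mem (hPN hp)) z).1 ((memE z).2 (Or.inr (Or.inl rfl)))
          have := conj_comm p (Ecomm _ hpre y hy.1.1).symm
          rwa [show p * (p⁻¹ * z * p⁻¹⁻¹) * p⁻¹ = z by group] at this
        · have hpre := ((memN p⁻¹).1 (N.inv_mem (hPN hp)) u).1
            ((memE u).2 (Or.inr (Or.inr (Or.inl rfl))))
          have := conj_comm p (Ecomm _ hpre y hy.1.1).symm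
          rwa [show p * (p⁻¹ * u * p⁻¹⁻¹) * p⁻¹ = u by group] at this
      · rw [conj_pow, (Fsq y hy.1).2]; group
    -- all orbits have length nine
    let orb : G → Finset G := fun y => Finset.univ.filter fun w => ∃ p ∈ P', p * y * p⁻¹ = w
    have horb : ∀ y ∈ D, (orb y).card = 9 := by
      intro y hy
      have h := card_conj_orbit P' y
      have hbot : P' ⊓ Subgroup.centralizer ({y} : Set G) = ⊥ := by
        rw [Subgroup.eq_bot_iff_forall]
        intro p hp
        by_contra hp1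
        simp only [D, Finset.mem_filter, Finset.mem_univ, true_and] at hy
        exact hcon p hp.1 hp1 y hy.1 hy.2 (mem_cent.1 hp.2)
      rw [hbot, Subgroup.card_bot, mul_one, hP9] at h
      rw [← h, Nat.card_eq_fintype_card, Fintype.card_subtype]
    have h9 : 9 ∣ D.card := by
      rw [Finset.card_eq_sum_card_image orb D]
      refine Finset.dvd_sum fun o ho => ?_
      rw [Finset.mem_image] at ho
      obtain ⟨y, hy, rfl⟩ := ho
      have : (D.filter fun w => orb w = orb y) = orb y := by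
        ext w
        simp only [Finset.mem_filter, orb, Finset.mem_univ, true_and]
        constructor
        · rintro ⟨-, e⟩
          have : w ∈ orb w := by
            simp only [orb, Finset.mem_filter, Finset.mem_univ, true_and]
            exact ⟨1, P'.one_mem, by simp⟩
          rw [show orb w = orb y from e] at this
          simpa [orb] using this
        · rintro ⟨p, hp, rfl⟩
          refine ⟨hPD p hp y hy, ?_⟩
          ext v
          simp only [Finset.mem_filter, Finset.mem_univ, true_and]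
          constructor
          · rintro ⟨q, hq, rfl⟩
            exact ⟨q * p, P'.mul_mem hq hp, by rw [← conj_conj]⟩
          · rintro ⟨q, hq, rfl⟩
            exact ⟨q * p⁻¹, P'.mul_mem hq (P'.inv_mem hp), by group⟩
      rw [this, horb y hy]
    rw [hD] at h9
    omega
  obtain ⟨a, haP, ha1, s, hsF, hsE, has⟩ := hfixed
  have hnfix : ∀ k ∈ P', k * z = z * k → k * s = s * k → k = 1 := fun k hk hkz hks => by
    by_contra hk1
    exact hsE (fpf k s (hPCE k hk hkz) (hP03 k ⟨hk, mem_cent.2 hkz⟩) hk1 hsF hks)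
  have hanz : a * z * a⁻¹ ≠ z := fun h => ha1 (hnfix a haP (conj_eq_iff_comm.1 h) has)
  obtain ⟨u', hu'def⟩ : ∃ u', u' = a * z * a⁻¹ := ⟨_, rfl⟩
  rw [← hu'def] at hanz
  have hu'3 : u' ∈ ({z, u, u * z} : Set G) := hu'def ▸ N3 a (hPN haP) z (by simp)
  have hu'2 : u' = u ∨ u' = u * z := by
    simp only [Set.mem_insert_iff, Set.mem_singleton_iff] at hu'3
    exact hu'3.resolve_left hanz
  have hu'Nci : Nci z Q u' := by
    rcases hu'2 with rfl | rfl
    exacts [hu, S.nci_mul_z hu]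
  have hau' : a * u' * a⁻¹ = u' * z := by
    have h1 : a * u' * a⁻¹ ∈ ({z, u, u * z} : Set G) := N3 a (hPN haP) u' hu'3
    have h2 : a * u' * a⁻¹ ≠ z := by
      intro h
      have hc2 : Commute (a ^ 2) z := by
        apply conj_eq_iff_comm.1
        rw [pow_two, ← conj_conj, ← hu'def, h]
      have h5 := hc2.pow_left 5
      rw [← pow_mul, show 2 * 5 = 9 + 1 from rfl, pow_succ, hP9' a haP, one_mul] at h5
      exact hanz (hu'def.trans (conj_eq_iff_comm.2 h5))
    have h3 : a * u' * a⁻¹ ≠ u' := fun h => hanz (conj_inj' (a := a) (h.trans hu'def))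
    simp only [Set.mem_insert_iff, Set.mem_singleton_iff] at h1
    rcases h1.resolve_left h2 with e | e <;> rcases hu'2 with rfl | rfl
    · exact absurd e h3
    · rw [e, S.mul_z_z]
    · exact e
    · exact absurd e h3
  have hauz : a * (u' * z) * a⁻¹ = z := by
    rw [conj_mul', hau', ← hu'def, S.Q_comm_z hu'Nci.1, mul_assoc, hu'Nci.2.1, mul_one]
  have ha3 : a ^ 3 = 1 := by
    refine hnfix _ (P'.pow_mem haP 3) ?_ ((show Commute a s from has).pow_left 3)
    rw [← conj_eq_iff_comm, pow_succ, pow_two, ← conj_conj, ← hu'def, ← conj_conj, hau', hauz]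
  -- the group of fixed points of `a` in `F`
  let inV : G → Prop := fun y => inF y ∧ a * y = y * a
  have VE : ∀ e ∈ E, a * e = e * a → e = 1 := by
    intro e he hae
    have hd : e = 1 ∨ e = z ∨ e = u' ∨ e = u' * z := by
      rcases (memE e).1 he with rfl | rfl | rfl | rfl
      · tauto
      · tauto
      · rcases hu'2 with rfl | rfl
        · tauto
        · right; right; right; rw [S.mul_z_z]
      · rcases hu'2 with rfl | rfl <;> tauto
    rcases hd with h | h | h | h
    · exact h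
    · exact absurd (hu'def.trans (conj_eq_iff_comm.2 (h ▸ hae))) hanz
    · subst h
      exact absurd ((conj_eq_iff_comm.2 hae).symm.trans hau') (S.ne_mul_z _)
    · subst h
      exact absurd (hauz.symm.trans (conj_eq_iff_comm.2 hae)) (Ne.symm (S.nci_mul_z hu'Nci).2.2.2)
  have Vsq : ∀ y, inV y → y * y = 1 := fun y hy =>
    VE _ (Fsq y hy.1).1 (Commute.mul_right hy.2 hy.2)
  have Vmul : ∀ p q, inV p → inV q → inV (p * q) := fun p q hp hq =>
    ⟨⟨⟨S.H_mul hp.1.1.1 hq.1.1.1, comm_mul hp.1.1.2 hq.1.1.2⟩, by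
      rw [S.psi_mul hp.1.1.1 hq.1.1.1]
      exact (stab_sq_mul i _ _ (fixi p hp.1.1) (fixi q hq.1.1) hp.1.2 hq.1.2).1⟩,
      Commute.mul_right hp.2 hq.2⟩
  have VQ : ∀ y, inV y → y ∈ Q → y = 1 := by
    intro y hy hyQ
    refine VE y ?_ hy.2
    rw [memE]
    by_cases h : y = 1
    · exact Or.inl h
    by_cases h' : y = z
    · exact Or.inr (Or.inl h')
    rcases S.nci_core.2 u y hu ⟨hyQ, Vsq y hy, h, h'⟩ hy.1.1.2 with e | e <;> tauto
  have Vout : ∀ y, inV y → y ≠ 1 → Outer z Q y := fun y hy h1 =>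
    ⟨hy.1.1.1, Vsq y hy, fun h => h1 (VQ y hy h)⟩
  have sV : inV s := ⟨hsF, has⟩
  have hs1 : s ≠ 1 := fun h => hsE ((memE s).2 (Or.inl h))
  have hxN : x ∈ N := hPN hxP.1
  have hax : x * a = a * x := hPcomm x hxP.1 a haP
  have conjV : ∀ y, inV y → inV (x * y * x⁻¹) := fun y hy => by
    refine ⟨F4 _ ⟨?_, ?_⟩ ?_, ?_⟩
    · have := conj_comm x hy.1.1.1
      rwa [conj_eq_iff_comm.2 hxCE.1] at this
    · have := conj_comm x hy.1.1.2
      rwa [conj_eq_iff_comm.2 hxCE.2] at this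
    · rw [conj_pow, (Fsq y hy.1).2]; group
    · have := conj_comm x hy.2
      rwa [conj_eq_iff_comm.2 hax] at this
  have hs'V := conjV s sV
  have hne : x * s * x⁻¹ ≠ s := fun h =>
    hsE (fpf x s hxCE hx3 hx1 hsF (conj_eq_iff_comm.1 h))
  have hs'1 : x * s * x⁻¹ ≠ 1 := conj_ne_one x hs1
  have hcomm : s * (x * s * x⁻¹) = x * s * x⁻¹ * s := by
    have h := Vsq _ (Vmul _ _ sV hs'V)
    have e1 := inv_of_sq (Vsq _ sV)
    have e2 := inv_of_sq (Vsq _ hs'V)
    calc s * (x * s * x⁻¹) = (s * (x * s * x⁻¹))⁻¹ := (inv_of_sq h).symm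
      _ = _ := by rw [mul_inv_rev, e1, e2]
  have hss1 : s * (x * s * x⁻¹) ≠ 1 := fun h => hne (by
    rw [mul_eq_one_iff_inv_eq, inv_of_sq (Vsq _ sV)] at h; exact h.symm)
  -- at most four elements
  have Vinj : ∀ p q, inV p → inV q → psi φ p = psi φ q → p = q := by
    intro p q hp hq h
    have : p * q = 1 := by
      refine VQ _ (Vmul p q hp hq) ?_
      rw [← S.psi_eq_one (S.H_mul hp.1.1.1 hq.1.1.1), S.psi_mul hp.1.1.1 hq.1.1.1, h]
      exact hq.1.2
    rw [mul_eq_one_iff_eq_inv, inv_of_sq (Vsq q hq)] at this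
    exact this
  have Vfour : ∀ y, inV y → y = 1 ∨ y = s ∨ y = x * s * x⁻¹ ∨ y = s * (x * s * x⁻¹) := by
    intro y hy
    let T : Finset G := {1, s, x * s * x⁻¹, s * (x * s * x⁻¹)}
    have hTV : ∀ t ∈ T, inV t := by
      intro t ht
      simp only [T, Finset.mem_insert, Finset.mem_singleton] at ht
      rcases ht with rfl | rfl | rfl | rfl
      · refine ⟨⟨⟨by simp, by simp⟩, ?_⟩, by simp⟩
        rw [(S.psi_eq_one (by simp)).2 Q.one_mem, one_mul]
      exacts [sV, hs'V, Vmul _ _ sV hs'V]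
    have hT : T.card = 4 := by
      have n1 : s * (x * s * x⁻¹) ≠ s := fun h => hs'1 (mul_left_cancel (h.trans (mul_one s).symm))
      have n2 : s * (x * s * x⁻¹) ≠ x * s * x⁻¹ := fun h =>
        hs1 (mul_right_cancel (h.trans (one_mul _).symm))
      rw [Finset.card_insert_of_notMem (by simp [Ne.symm hs1, Ne.symm hs'1, Ne.symm hss1]),
        Finset.card_insert_of_notMem (by simp [Ne.symm hne, Ne.symm n1]),
        Finset.card_pair (Ne.symm n2)]
    have hinj : Set.InjOn (psi φ) (↑(insert y T) : Set G) := by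
      intro p hp q hq h
      simp only [Finset.coe_insert, Set.mem_insert_iff, Finset.mem_coe] at hp hq
      have hpV : inV p := by rcases hp with rfl | hp; exacts [hy, hTV p hp]
      have hqV : inV q := by rcases hq with rfl | hq; exacts [hy, hTV q hq]
      exact Vinj p q hpV hqV h
    have hle : (insert y T).card ≤ T4.card := Finset.card_le_card_of_injOn (psi φ) (by
      intro p hp
      simp only [Finset.coe_insert, Set.mem_insert_iff, Finset.mem_coe] at hp
      have hpV : inV p := by rcases hp with rfl | hp; exacts [hy, hTV p hp]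
      simp only [T4, Finset.coe_filter, Finset.mem_univ, true_and, Set.mem_setOf_eq]
      exact ⟨fixi p hpV.1.1, hpV.1.2⟩) hinj
    have hyT : y ∈ T := by
      by_contra hyn
      rw [Finset.card_insert_of_notMem hyn, hT, hT4] at hle
      omega
    simpa [T] using hyT
  have hcyc : x * (x * s * x⁻¹) * x⁻¹ = s * (x * s * x⁻¹) := by
    rcases Vfour _ (conjV _ hs'V) with e | e | e | e
    · exact absurd e (conj_ne_one x hs'1)
    · exfalso
      apply hne
      have h3 : x * (x * (x * s * x⁻¹) * x⁻¹) * x⁻¹ = s := by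
        rw [conj_conj, conj_conj, show x * x * x = 1 by
          rw [← hx3, pow_succ, pow_two]]
        group
      rw [e] at h3; exact h3
    · exact absurd (conj_inj' (a := x) e) hne
    · exact e
  refine ⟨u', a, x, s, ⟨hu'Nci, hu'def.symm, hau', ha3, hx3, hxCE.1, ?_, hax, has.symm, ?_,
    Vout s sV hs1, Vout _ hs'V hs'1, Vout _ (Vmul _ _ sV hs'V) hss1, hne, hcomm, hcyc⟩⟩
  · rcases hu'2 with rfl | rfl
    · exact hxCE.2
    · exact (comm_mul hxCE.2.symm hxCE.1.symm).symm
  · rcases hu'2 with rfl | rfl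
    · exact hsF.1.2
    · exact (comm_mul hsF.1.2.symm hsF.1.1.symm).symm

end Setup

end Cfsg.Agent.HJ
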