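import Cfsg.Agent.Lib.HJ.Cent
import Cfsg.Agent.S0213

/-!
The order of a group of Hall–Janko type.
-/

set_option autoImplicit false
set_option linter.style.haveILetI false

namespace Cfsg.Agent.HJ

variable {G : Type*} [Group G] [Finite G] {z : G} {Q : Subgroup G}
  {φ : ↥(Subgroup.centralizer ({z} : Set G)) →* A5} {u a x s : G} {K V : Subgroup G}

namespace CentData

variable (D : CentData z Q u a x s K V)
include D

omit [Finite G] in
theorem sV : s ∈ V := (D.hV s).2 (Or.inr (Or.inl rfl))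

omit [Finite G] in
theorem unique {k k' v v' : G} (hk : k ∈ K) (hk' : k' ∈ K) (hv : v ∈ V) (hv' : v' ∈ V)
    (h : k * v = k' * v') : k = k' ∧ v = v' := by
  have h1 : v * v'⁻¹ = k⁻¹ * k' := by
    rw [mul_inv_eq_iff_eq_mul, mul_assoc, ← h, inv_mul_cancel_left]
  have h2 := D.inter _ (V.mul_mem hv (V.inv_mem hv')) (h1 ▸ K.mul_mem (K.inv_mem hk) hk')
  rw [mul_inv_eq_one] at h2
  subst h2
  exact ⟨mul_right_cancel h, rfl⟩

omit [Finite G] in
theorem vdata (S : Setup z Q φ) (L : Loc z Q u a x s) {v : G} (hv : v ∈ V) :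
    (v * v = 1 ∧ v * z = z * v ∧ v * s = s * v) ∧ (v ≠ 1 → Outer z Q v) := by
  rcases (D.hV v).1 hv with rfl | rfl | rfl | rfl
  · simp
  · exact ⟨⟨L.hs.2.1, L.hs.1, rfl⟩, fun _ => L.hs⟩
  · exact ⟨⟨L.hs'.2.1, L.hs'.1, L.comm.symm⟩, fun _ => L.hs'⟩
  · exact ⟨⟨L.hss.2.1, L.hss.1, Setup.comm_mul rfl L.comm.symm⟩, fun _ => L.hss⟩

omit [Finite G] in
theorem mem_C (S : Setup z Q φ) (L : Loc z Q u a x s) {k v : G} (hk : k ∈ K) (hv : v ∈ V) :
    k * v * s = s * (k * v) :=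
  Setup.comm_mul (mem_cent.1 (D.hK hk)) (D.vdata S L hv).1.2.2

theorem card_C (S : Setup z Q φ) (L : Loc z Q u a x s) :
    Nat.card (Subgroup.centralizer ({s} : Set G)) = Nat.card K * 4 := by
  classical
  haveI := Fintype.ofFinite G
  let f : K × V → Subgroup.centralizer ({s} : Set G) := fun p =>
    ⟨p.1 * p.2, mem_cent.2 (D.mem_C S L p.1.2 p.2.2)⟩
  have hf : Function.Bijective f := by
    constructor
    · rintro ⟨⟨k, hk⟩, ⟨v, hv⟩⟩ ⟨⟨k', hk'⟩, ⟨v', hv'⟩⟩ h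
      obtain ⟨rfl, rfl⟩ := D.unique hk hk' hv hv' (congrArg Subtype.val h)
      rfl
    · rintro ⟨c, hc⟩
      obtain ⟨k, hk, v, hv, rfl⟩ := D.decomp c (mem_cent.1 hc)
      exact ⟨⟨⟨k, hk⟩, ⟨v, hv⟩⟩, rfl⟩
  rw [← Nat.card_congr (Equiv.ofBijective f hf), Nat.card_prod]
  congr 1
  have h1 : ∀ {w}, Outer z Q w → w ≠ 1 := fun hw h => hw.2.2 (h ▸ Q.one_mem)
  have n1 : s ≠ s * (x * s * x⁻¹) := fun h => h1 L.hs' (mul_left_cancel ((mul_one s).trans h)).symm
  have n2 : x * s * x⁻¹ ≠ s * (x * s * x⁻¹) := fun h =>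
    h1 L.hs (mul_right_cancel ((one_mul _).trans h)).symm
  have hVF : (V : Set G) = ({1, s, x * s * x⁻¹, s * (x * s * x⁻¹)} : Finset G) := by
    ext v; simp [D.hV]
  rw [show Nat.card ↥V = Nat.card ↥(V : Set G) from rfl, hVF, Nat.card_coe_set_eq, Set.ncard_coe_finset,
    Finset.card_insert_of_notMem (by simp [Ne.symm (h1 L.hs), Ne.symm (h1 L.hs'), Ne.symm (h1 L.hss)]),
    Finset.card_insert_of_notMem (by simp [Ne.symm L.ne, n1]), Finset.card_pair n2]

omit [Finite G] in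
/-- Every involution of `K` is conjugate to `z` in `K`. -/
theorem invol_K (S : Setup z Q φ) (L : Loc z Q u a x s) {k : G} (hk : k ∈ K) (hk2 : k * k = 1)
    (hk1 : k ≠ 1) : ∃ g ∈ K, g * z * g⁻¹ = k := by
  rcases D.shape with ⟨⟨ε⟩, -⟩ | ⟨-, h⟩
  · have hn : ∀ {w : G} (hw : w ∈ K), w * w = 1 → w ≠ 1 →
        ε ⟨w, hw⟩ * ε ⟨w, hw⟩ = 1 ∧ ε ⟨w, hw⟩ ≠ 1 := fun hw h2 h1 => by
      refine ⟨?_, fun h => h1 (congrArg Subtype.val (ε.injective (h.trans (map_one ε).symm)))⟩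
      rw [← map_mul, ← map_one ε]
      exact congrArg ε (Subtype.ext h2)
    obtain ⟨g, hg⟩ := invol_conj _ _ (hn D.zK S.zz S.zne).1 (hn D.zK S.zz S.zne).2
      (hn hk hk2 hk1).1 (hn hk hk2 hk1).2
    refine ⟨(ε.symm g : K), (ε.symm g).2, ?_⟩
    have := congrArg ε.symm hg
    rw [map_mul, map_mul, map_inv, ε.symm_apply_apply, ε.symm_apply_apply] at this
    exact congrArg Subtype.val this
  · rcases h k hk hk2 with rfl | rfl | rfl | rfl
    · exact absurd rfl hk1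
    · exact ⟨1, K.one_mem, by simp⟩
    · exact ⟨a, D.aK, L.az⟩
    · exact ⟨a * a, K.mul_mem D.aK D.aK, by rw [← conj_conj, L.az, L.au]⟩

/-- The classes of the involutions centralising `s`. -/
theorem class_z (S : Setup z Q φ) (L : Loc z Q u a x s) {k v : G} (hk : k ∈ K) (hv : v ∈ V) :
    ((∃ g, g * z * g⁻¹ = k * v) ↔ k * k = 1 ∧ k ≠ 1 ∧ v = 1) ∧
    ((∃ g, g * s * g⁻¹ = k * v) ↔ k * k = 1 ∧ v ≠ 1) := by
  obtain ⟨⟨hv2, hvz, -⟩, hvo⟩ := D.vdata S L hv
  have hsq : k * v * (k * v) = 1 → k * k = 1 := fun h => by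
    have hc : k * v = v * k := D.comm k hk v hv
    have : k * v * (k * v) = k * k * (v * v) := by
      calc k * v * (k * v) = k * (v * k) * v := by group
        _ = _ := by rw [← hc]; group
    rw [this, hv2, mul_one] at h
    exact h
  have notz : k * k = 1 → v ≠ 1 → ∀ g, g * z * g⁻¹ ≠ k * v := by
    intro hk2 hv1 g hg
    by_cases hk1 : k = 1
    · rw [hk1, one_mul] at hg; exact S.outer_not_conj (hvo hv1) g hg
    obtain ⟨c, hc, hck⟩ := D.invol_K S L hk hk2 hk1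
    have hcv : c * v * c⁻¹ = v := conj_eq_iff_comm.2 (D.comm c hc v hv)
    have hzv : Outer z Q (z * v) := by
      refine ⟨Setup.comm_mul rfl hvz, ?_, fun h => (hvo hv1).2.2 ?_⟩
      · calc z * v * (z * v) = z * (v * z) * v := by group
          _ = z * z * (v * v) := by rw [hvz]; group
          _ = 1 := by rw [S.zz, hv2, one_mul]
      · simpa [← mul_assoc, S.zz] using Q.mul_mem S.zQ h
    refine S.outer_not_conj hzv (c⁻¹ * g) ?_
    rw [← conj_conj, hg, inv_inv, ← hck]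
    nth_rw 1 [← hcv]
    group
  constructor
  · constructor
    · rintro ⟨g, hg⟩
      have hk2 := hsq (hg ▸ conj_sq g S.zz)
      have hv1 : v = 1 := by_contra fun h => notz hk2 h g hg
      refine ⟨hk2, fun h => ?_, hv1⟩
      rw [h, hv1, one_mul] at hg
      exact conj_ne_one g S.zne hg
    · rintro ⟨hk2, hk1, rfl⟩
      obtain ⟨c, -, hc⟩ := D.invol_K S L hk hk2 hk1
      exact ⟨c, by rw [mul_one, hc]⟩
  · constructor
    · rintro ⟨g, hg⟩
      have hk2 := hsq (hg ▸ conj_sq g L.hs.2.1)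
      refine ⟨hk2, fun h => ?_⟩
      subst h
      by_cases hk1 : k = 1
      · rw [hk1, one_mul] at hg
        exact conj_ne_one g (fun e : s = 1 => L.hs.2.2 (by rw [e]; exact Q.one_mem)) hg
      obtain ⟨c, -, hc⟩ := D.invol_K S L hk hk2 hk1
      refine S.outer_not_conj L.hs (g⁻¹ * c) ?_
      rw [← conj_conj, hc, ← mul_one k, ← hg]
      group
    · rintro ⟨hk2, hv1⟩
      have hne : k * v ≠ 1 := fun h => by
        have := D.unique hk K.one_mem hv V.one_mem (h.trans (one_mul 1).symm)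
        exact hv1 this.2
      have hkv2 : k * v * (k * v) = 1 := by
        calc k * v * (k * v) = k * (v * k) * v := by group
          _ = k * k * (v * v) := by rw [← D.comm k hk v hv]; group
          _ = 1 := by rw [hk2, hv2, one_mul]
      exact (S.two_classes L.hs hkv2 hne).resolve_left fun ⟨g, hg⟩ => notz hk2 hv1 g hg

/-- The pairs counted at the outer involution, described inside `K`. -/
theorem count_s (S : Setup z Q φ) (L : Loc z Q u a x s) :
    Nat.card {r : G × G // IsConj z r.1 ∧ IsConj s r.2 ∧ s ∈ Subgroup.zpowers (r.1 * r.2)} =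
      Nat.card {r : K × K //
        r.1 * r.1 = 1 ∧ r.1 ≠ 1 ∧ r.2 * r.2 = 1 ∧ ∃ n : ℕ, Odd n ∧ (r.1 * r.2) ^ n = 1} := by
  have hs1 : s ≠ 1 := fun e => L.hs.2.2 (e ▸ Q.one_mem)
  symm
  refine Nat.card_congr (Equiv.ofBijective (fun r => ⟨((r.1.1 : G), (r.1.2 : G) * s), ?_⟩) ?_)
  · obtain ⟨⟨⟨k, hk⟩, ⟨l, hl⟩⟩, h1, h2, h3, n, hn, hpow⟩ := r
    have hk2 : k * k = 1 := congrArg Subtype.val h1
    have hl2 : l * l = 1 := congrArg Subtype.val h3
    refine ⟨isConj_iff.2 ?_, isConj_iff.2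
      ((D.class_z S L hl D.sV).2.2 ⟨hl2, hs1⟩), ?_⟩
    · obtain ⟨g, hg⟩ := (D.class_z S L hk V.one_mem).1.2 ⟨hk2, fun e => h2 (Subtype.ext e), rfl⟩
      exact ⟨g, by rw [hg, mul_one]⟩
    · show s ∈ Subgroup.zpowers (k * (l * s))
      have hpow' : (k * l) ^ n = 1 := congrArg Subtype.val hpow
      have hc : Commute (k * l) s := mem_cent.1 (D.hK (K.mul_mem hk hl))
      refine ⟨(n : ℤ), ?_⟩
      simp only [zpow_natCast]
      rw [← mul_assoc, hc.mul_pow, hpow', one_mul]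
      obtain ⟨j, rfl⟩ := hn
      rw [pow_add, pow_mul, pow_two, L.hs.2.1, one_pow, one_mul, pow_one]
  constructor
  · rintro ⟨⟨k, l⟩, _⟩ ⟨⟨k', l'⟩, _⟩ h
    obtain ⟨e1, e2⟩ := Prod.ext_iff.1 (congrArg Subtype.val h)
    exact Subtype.ext (Prod.ext (Subtype.ext e1) (Subtype.ext (mul_right_cancel e2)))
  · rintro ⟨⟨p, q⟩, hp, hq, hpq⟩
    obtain ⟨g, hg⟩ := isConj_iff.1 hp
    obtain ⟨g', hg'⟩ := isConj_iff.1 hq
    simp only at hg hg' hpq
    obtain ⟨hps, hqs⟩ := comm_of_mem_zpowers (hg ▸ conj_sq g S.zz) (hg' ▸ conj_sq g' L.hs.2.1)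
      L.hs.2.1 hpq
    obtain ⟨k, hk, v, hv, rfl⟩ := D.decomp p hps
    obtain ⟨l, hl, w, hw, rfl⟩ := D.decomp q hqs
    obtain ⟨hk2, hk1, rfl⟩ := (D.class_z S L hk hv).1.1 ⟨g, hg⟩
    obtain ⟨hl2, hw1⟩ := (D.class_z S L hl hw).2.1 ⟨g', hg'⟩
    rw [mul_one, ← mul_assoc] at hpq
    obtain ⟨n, hn⟩ := Submonoid.mem_powers_iff _ _ |>.1
      ((isOfFinOrder_of_finite (k * l * w)).mem_powers_iff_mem_zpowers.2 hpq)
    have hklw : Commute (k * l) w := D.comm _ (K.mul_mem hk hl) w hw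
    rw [hklw.mul_pow] at hn
    obtain ⟨hkl, hwn⟩ := D.unique (K.pow_mem (K.mul_mem hk hl) n) K.one_mem (V.pow_mem hw n) D.sV
      (hn.trans (one_mul s).symm)
    have hodd : Odd n := by
      by_contra he
      obtain ⟨j, rfl⟩ := Nat.not_odd_iff_even.1 he
      apply hs1
      rw [← hwn, ← two_mul, pow_mul, pow_two, (D.vdata S L hw).1.1, one_pow]
    have hws : w = s := by
      obtain ⟨j, rfl⟩ := hodd
      rw [pow_add, pow_mul, pow_two, (D.vdata S L hw).1.1, one_pow, one_mul, pow_one] at hwn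
      exact hwn
    subst hws
    exact ⟨⟨(⟨k, hk⟩, ⟨l, hl⟩), Subtype.ext hk2, fun e => hk1 (congrArg Subtype.val e),
      Subtype.ext hl2, n, hodd, Subtype.ext hkl⟩, Subtype.ext (Prod.ext (mul_one k).symm rfl)⟩

/-- The count in `A₅`. -/
theorem count_alt (ε : K ≃* A5) :
    Nat.card {r : K × K //
        r.1 * r.1 = 1 ∧ r.1 ≠ 1 ∧ r.2 * r.2 = 1 ∧ ∃ n : ℕ, Odd n ∧ (r.1 * r.2) ^ n = 1} = 195 := by
  classical
  rw [← card_odd_pairs, ← Fintype.card_subtype, ← Nat.card_eq_fintype_card]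
  refine Nat.card_congr (Equiv.subtypeEquiv (ε.toEquiv.prodCongr ε.toEquiv) fun r => ?_)
  simp only [Equiv.prodCongr_apply, Prod.map_fst, Prod.map_snd, MulEquiv.toEquiv_eq_coe,
    MulEquiv.coe_toEquiv, ← map_mul, ← map_pow, ne_eq, EmbeddingLike.map_eq_one_iff]
  refine and_congr_right fun _ => and_congr_right fun _ => and_congr_right fun _ => ?_
  constructor
  · rintro ⟨n, hn, h⟩
    have h30 : (r.1 * r.2) ^ 30 = 1 := ε.injective (by rw [map_pow, map_one]; exact exponent_thirty _)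
    have h1 := orderOf_dvd_of_pow_eq_one h
    have h2 := orderOf_dvd_of_pow_eq_one h30
    apply orderOf_dvd_iff_pow_eq_one.1
    rw [show (30 : ℕ) = 2 * 15 from rfl] at h2
    refine Nat.Coprime.dvd_of_dvd_mul_left ?_ h2
    exact Nat.coprime_two_right.2 (hn.of_dvd_nat h1)
  · exact fun h => ⟨15, ⟨7, rfl⟩, h⟩

/-- The count when `K` has order twelve. -/
theorem count_twelve (S : Setup z Q φ) (L : Loc z Q u a x s)
    (h : ∀ k ∈ K, k * k = 1 → k = 1 ∨ k = z ∨ k = u ∨ k = u * z) :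
    Nat.card {r : K × K //
        r.1 * r.1 = 1 ∧ r.1 ≠ 1 ∧ r.2 * r.2 = 1 ∧ ∃ n : ℕ, Odd n ∧ (r.1 * r.2) ^ n = 1} = 3 := by
  classical
  haveI := Fintype.ofFinite G
  have hu' := S.nci_mul_z L.hu
  have huz : u * z = z * u := S.Q_comm_z L.hu.1
  have comm4 : ∀ p q : G, (p = 1 ∨ p = z ∨ p = u ∨ p = u * z) →
      (q = 1 ∨ q = z ∨ q = u ∨ q = u * z) → Commute p q := by
    have c1 : Commute u z := huz
    rintro p q (rfl | rfl | rfl | rfl) (rfl | rfl | rfl | rfl) <;>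
      first
        | exact Commute.one_left _
        | exact Commute.one_right _
        | exact Commute.refl _
        | exact c1
        | exact c1.symm
        | exact (Commute.refl _).mul_left c1.symm |>.symm
        | exact c1.mul_left (Commute.refl _)
        | exact (c1.mul_left (Commute.refl _)).symm
        | exact (Commute.refl _).mul_left c1.symm
        | exact ((Commute.refl _).mul_left c1.symm).symm
  have hK : ∀ w, (w = z ∨ w = u ∨ w = u * z) → w ∈ K ∧ w * w = 1 ∧ w ≠ 1 := by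
    have huK : u ∈ K := L.az ▸ K.mul_mem (K.mul_mem D.aK D.zK) (K.inv_mem D.aK)
    rintro w (rfl | rfl | rfl)
    exacts [⟨D.zK, S.zz, S.zne⟩, ⟨huK, L.hu.2.1, L.hu.2.2.1⟩,
      ⟨K.mul_mem huK D.zK, hu'.2.1, hu'.2.2.1⟩]
  have hfin : ({z, u, u * z} : Finset G).card = 3 := Finset.card_eq_three.2
    ⟨z, u, u * z, Ne.symm L.hu.2.2.2, Ne.symm hu'.2.2.2, S.ne_mul_z u, rfl⟩
  rw [← hfin, ← Nat.card_eq_finsetCard]
  refine Nat.card_congr (Equiv.ofBijective (fun r => ⟨(r.1.1 : G), ?_⟩) ⟨?_, ?_⟩)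
  · have := h _ r.1.1.2 (congrArg Subtype.val r.2.1)
    simp only [Finset.mem_insert, Finset.mem_singleton]
    exact this.resolve_left fun e => r.2.2.1 (Subtype.ext e)
  · have same : ∀ k l : K, k * k = 1 → l * l = 1 → (∃ n : ℕ, Odd n ∧ (k * l) ^ n = 1) → l = k := by
      rintro k l hk hl ⟨n, ⟨j, rfl⟩, hn⟩
      have hc : Commute k l := Subtype.ext
        (comm4 _ _ (h _ k.2 (congrArg Subtype.val hk)) (h _ l.2 (congrArg Subtype.val hl))).eq
      have h2 : (k * l) ^ 2 = 1 := by rw [hc.mul_pow, pow_two, pow_two, hk, hl, one_mul]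
      rw [pow_add, pow_mul, h2, one_pow, one_mul, pow_one, mul_eq_one_iff_inv_eq, inv_of_sq hk] at hn
      exact hn.symm
    rintro ⟨⟨k, l⟩, a1, a2, a3, a4⟩ ⟨⟨k', l'⟩, b1, b2, b3, b4⟩ he
    have hkk : k = k' := Subtype.ext (Subtype.ext_iff.1 he :)
    subst hkk
    obtain rfl := same k l a1 a3 a4
    obtain rfl := same _ l' b1 b3 b4
    rfl
  · rintro ⟨w, hw⟩
    simp only [Finset.mem_insert, Finset.mem_singleton] at hw
    obtain ⟨hwK, hw2, hw1⟩ := hK w hw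
    exact ⟨⟨(⟨w, hwK⟩, ⟨w, hwK⟩), Subtype.ext hw2, fun e => hw1 (congrArg Subtype.val e),
      Subtype.ext hw2, 1, odd_one, by rw [pow_one]; exact Subtype.ext hw2⟩, rfl⟩

end CentData

/-- The order of the group and the structure of the centraliser of the outer involution. -/
theorem Setup.exists_main (S : Setup z Q φ) :
    ∃ u a x s K V, Loc z Q u a x s ∧ CentData z Q u a x s K V ∧ Nonempty (K ≃* A5) ∧
      (∀ k ∈ K, x * k = k * x) ∧ Nat.card G = 604800 := by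
  obtain ⟨u, a, x, s, L⟩ := S.exists_loc
  obtain ⟨K, V, D⟩ := S.exists_cent L
  have hform := Cfsg.Agent.S0213.result z s (orderOf_eq_two_iff'.2 ⟨S.zz, S.zne⟩)
    (orderOf_eq_two_iff'.2 ⟨L.hs.2.1, fun e => L.hs.2.2 (e ▸ Q.one_mem)⟩)
    (fun h => by obtain ⟨g, hg⟩ := isConj_iff.1 h; exact S.outer_not_conj L.hs g hg)
    (fun t ht => by
      obtain ⟨h2, h1⟩ := orderOf_eq_two_iff'.1 ht
      exact (S.two_classes L.hs h2 h1).imp (fun h => isConj_iff.2 h) (fun h => isConj_iff.2 h))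
  simp only [isConj_iff] at hform
  have hs := D.count_s S L
  simp only [isConj_iff] at hs
  rw [S.count_z L.hs, S.card_H, hs, D.card_C S L] at hform
  rcases D.shape with ⟨⟨ε⟩, hx⟩ | ⟨h12, hinv⟩
  · refine ⟨u, a, x, s, K, V, L, D, ⟨ε⟩, hx, ?_⟩
    rw [hform, D.count_alt ε, Nat.card_congr ε.toEquiv, card_A5]
  · exfalso
    refine S.card_ne ?_
    rw [hform, D.count_twelve S L hinv, h12]

end Cfsg.Agent.HJ
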