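import Cfsg.Agent.Lib.HJ.Main
import Cfsg.Agent.Lib.Transfer.Basic
import Cfsg.Agent.Lib.JComp.Main

/-!
The centraliser of an outer involution and the normaliser of its 2-core.
-/

set_option autoImplicit false
set_option linter.style.haveILetI false

open scoped Pointwise

namespace Cfsg.Agent.HJ

variable {G : Type*} [Group G] [Finite G] {z : G} {Q : Subgroup G}
  {φ : ↥(Subgroup.centralizer ({z} : Set G)) →* A5} {u a x s : G} {K V : Subgroup G}

theorem center_A5 : ∀ σ : A5, (∀ τ : A5, σ * τ = τ * σ) → σ = 1 := by decide +kernel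

theorem pCore_A5 : Cfsg.pCore 2 A5 = ⊥ := by
  haveI : Fact (Nat.Prime 2) := ⟨Nat.prime_two⟩
  haveI : IsSimpleGroup A5 := alternatingGroup.isSimpleGroup (α := Fin 5) (by simp)
  haveI := Cfsg.pCore_normal 2 A5
  refine (Subgroup.Normal.eq_bot_or_eq_top (Cfsg.pCore_normal 2 A5)).resolve_right fun h => ?_
  obtain ⟨n, hn⟩ := IsPGroup.iff_card.1 (PBasic.pCore_isPGroup 2 A5)
  rw [h, Subgroup.card_top, card_A5] at hn
  have h3 : 3 ∣ 2 ^ n := ⟨20, hn.symm⟩
  exact absurd (Nat.prime_three.dvd_of_dvd_pow h3) (by norm_num)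

theorem pCore_prod {A B : Type*} [Group A] [Group B] (hA : IsPGroup 2 A)
    (hB : Cfsg.pCore 2 B = ⊥) :
    Cfsg.pCore 2 (A × B) = (MonoidHom.inl A B).range := by
  apply le_antisymm
  · intro w hw
    have : w.2 ∈ Cfsg.pCore 2 B := PBasic.map_pCore_le_of_surjective (MonoidHom.snd A B)
      Prod.snd_surjective ⟨w, hw, rfl⟩
    rw [hB, Subgroup.mem_bot] at this
    exact ⟨w.1, by ext <;> simp [this]⟩
  · refine PBasic.le_pCore ?_ ?_
    · constructor
      rintro _ ⟨v, rfl⟩ ⟨p, q⟩
      exact ⟨p * v * p⁻¹, by ext <;> simp⟩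
    · rw [MonoidHom.range_eq_map]
      exact (hA.to_subgroup ⊤).map _

/-- A group of order twelve of the shape four by three. -/
theorem alt_four {M : Type*} [Group M] (h12 : Nat.card M = 12) {p q : M} (hp : p * p = 1) (hp1 : p ≠ 1)
    (hq : q ^ 3 = 1) (hne : q * p * q⁻¹ ≠ p) (hpq : (p * (q * p * q⁻¹)) ^ 2 = 1) :
    Nonempty (M ≃* alternatingGroup (Fin 4)) := by
  classical
  haveI : Finite M := Nat.finite_of_card_ne_zero (by omega)
  haveI : Fact (Nat.Prime 3) := ⟨Nat.prime_three⟩
  have hq1 : q ≠ 1 := fun h => hne (by rw [h]; group)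
  let X := Subgroup.zpowers q
  have hX : Nat.card X = 3 := by rw [Nat.card_zpowers, orderOf_eq_prime hq hq1]
  have hcore : X.normalCore = ⊥ := by
    by_contra hb
    have hc : X.normalCore = X := by
      have hd := Subgroup.card_dvd_of_le X.normalCore_le
      rw [hX] at hd
      rcases (Nat.dvd_prime Nat.prime_three).1 hd with h | h
      · exact absurd (Subgroup.card_eq_one.1 h) hb
      · exact Subgroup.eq_of_le_of_card_ge X.normalCore_le (by rw [h, hX])
    have hmem : p * q * p⁻¹ ∈ X.normalCore :=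
      X.normalCore_normal.conj_mem _ (hc.symm ▸ Subgroup.mem_zpowers q) p
    rw [hc] at hmem
    have hw : p * (q * p * q⁻¹) ∈ X := by
      have := X.mul_mem hmem (X.inv_mem (Subgroup.mem_zpowers q))
      rwa [inv_of_sq hp, show p * q * p * q⁻¹ = p * (q * p * q⁻¹) by group] at this
    have h3 : orderOf (p * (q * p * q⁻¹)) ∣ 3 := hX ▸ Subgroup.orderOf_dvd_natCard X hw
    have h1 := Nat.dvd_gcd (orderOf_dvd_of_pow_eq_one hpq) h3
    rw [show Nat.gcd 2 3 = 1 from rfl, Nat.dvd_one, orderOf_eq_one_iff, mul_eq_one_iff_inv_eq,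
      inv_of_sq hp] at h1
    exact hne h1.symm
  have hidx : Nat.card (M ⧸ X) = 4 := by
    have h := X.card_mul_index
    rw [hX, h12] at h
    show X.index = 4
    omega
  haveI := Fintype.ofFinite (M ⧸ X)
  let e : M ⧸ X ≃ Fin 4 := Fintype.equivFinOfCardEq (by rw [← Nat.card_eq_fintype_card, hidx])
  let f : M →* Equiv.Perm (Fin 4) := e.permCongrHom.toMonoidHom.comp (MulAction.toPermHom M (M ⧸ X))
  have hf : Function.Injective f := by
    refine e.permCongrHom.injective.comp ((MonoidHom.ker_eq_bot_iff _).1 ?_)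
    rw [← Subgroup.normalCore_eq_ker, hcore]
  have hr : f.range.index = 2 := by
    have h := f.range.card_mul_index
    rw [← Nat.card_congr (MonoidHom.ofInjective hf).toEquiv, h12, Nat.card_perm, Nat.card_fin] at h
    rw [show Nat.factorial 4 = 24 from rfl] at h
    omega
  have he := Equiv.Perm.eq_alternatingGroup_of_index_eq_two hr
  exact ⟨(MonoidHom.ofInjective hf).trans (MulEquiv.subgroupCongr he)⟩

namespace CentData

variable (D : CentData z Q u a x s K V)
include D

theorem structure_data (S : Setup z Q φ) (L : Loc z Q u a x s) (ε : K ≃* A5)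
    (hx : ∀ k ∈ K, x * k = k * x) :
    Nonempty (↥(Subgroup.centralizer ({s} : Set G)) ≃*
        (Multiplicative (ZMod 2) × Multiplicative (ZMod 2)) × alternatingGroup (Fin 5)) ∧
      Cfsg.pCoreOf 2 (Subgroup.centralizer ({s} : Set G)) = V ∧
      Nonempty (↥(Subgroup.normalizer (V : Set G)) ≃* alternatingGroup (Fin 4) × alternatingGroup (Fin 5)) := by
  classical
  haveI : Fact (Nat.Prime 2) := ⟨Nat.prime_two⟩
  let f : V × K →* G := V.subtype.noncommCoprod K.subtype (fun v k => (D.comm k k.2 v v.2).symm)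
  have hf : Function.Injective f := by
    rintro ⟨v, k⟩ ⟨v', k'⟩ e
    have e' : (k : G) * v = k' * v' := by rw [D.comm k k.2 v v.2, D.comm k' k'.2 v' v'.2]; exact e
    obtain ⟨h1, h2⟩ := D.unique k.2 k'.2 v.2 v'.2 e'
    exact Prod.ext (Subtype.ext h2) (Subtype.ext h1)
  have hr : f.range = Subgroup.centralizer ({s} : Set G) := by
    ext c
    constructor
    · rintro ⟨⟨v, k⟩, rfl⟩
      refine mem_cent.2 ?_
      show (v : G) * k * s = s * (v * k)
      rw [← D.comm k k.2 v v.2]
      exact D.mem_C S L k.2 v.2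
    · intro hc
      obtain ⟨k, hk, v, hv, rfl⟩ := D.decomp c (mem_cent.1 hc)
      exact ⟨(⟨v, hv⟩, ⟨k, hk⟩), (D.comm k hk v hv).symm⟩
  have hV4 : Nat.card V = 4 := by
    have h := D.card_C S L
    rw [← hr, ← Nat.card_congr (MonoidHom.ofInjective hf).toEquiv, Nat.card_prod, mul_comm] at h
    exact Nat.eq_of_mul_eq_mul_left Nat.card_pos h
  have hVp : IsPGroup 2 V := IsPGroup.of_card (p := 2) (n := 2) (by rw [hV4]; rfl)
  let E : V × K ≃* ↥(Subgroup.centralizer ({s} : Set G)) :=
    (MonoidHom.ofInjective hf).trans (MulEquiv.subgroupCongr hr)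
  have hs1 : s ≠ 1 := fun h => L.hs.2.2 (by rw [h]; exact Q.one_mem)
  have hVv : ∀ v : V, v * v = 1 := fun v => Subtype.ext (D.vdata S L v.2).1.1
  refine ⟨?_, ?_, ?_⟩
  · haveI hk1 : IsKleinFour V := ⟨hV4, by
      refine Nat.dvd_antisymm (Monoid.exponent_dvd_of_forall_pow_eq_one fun v => by rw [pow_two, hVv]) ?_
      have h2 : orderOf (⟨s, D.sV⟩ : V) = 2 := orderOf_eq_two_iff'.2
        ⟨hVv _, fun h => hs1 (congrArg Subtype.val h)⟩
      exact h2 ▸ Monoid.order_dvd_exponent _⟩
    haveI hk2 : IsKleinFour (Multiplicative (ZMod 2) × Multiplicative (ZMod 2)) := ⟨by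
      simp [Nat.card_eq_fintype_card], by
      refine Nat.dvd_antisymm (Monoid.exponent_dvd_of_forall_pow_eq_one (by decide +revert)) ?_
      have h2 : orderOf ((Multiplicative.ofAdd (1 : ZMod 2), (1 : Multiplicative (ZMod 2)))) = 2 :=
        orderOf_eq_prime (by decide +revert) (by decide +revert)
      have hd := Monoid.order_dvd_exponent
        ((Multiplicative.ofAdd (1 : ZMod 2), (1 : Multiplicative (ZMod 2))))
      rwa [h2] at hd⟩
    obtain ⟨ν⟩ := IsKleinFour.nonempty_mulEquiv (G₁ := V)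
      (G₂ := Multiplicative (ZMod 2) × Multiplicative (ZMod 2))
    exact ⟨E.symm.trans (ν.prodCongr ε)⟩
  · have hK : Cfsg.pCore 2 K = ⊥ := by
      rw [← PBasic.map_pCore_equiv ε.symm, pCore_A5, Subgroup.map_bot]
    show (Cfsg.pCore 2 ↥(Subgroup.centralizer ({s} : Set G))).map _ = V
    rw [← PBasic.map_pCore_equiv E, pCore_prod hVp hK, Subgroup.map_map, MonoidHom.range_eq_map,
      Subgroup.map_map]
    ext c
    constructor
    · rintro ⟨v, -, rfl⟩
      show f (v, 1) ∈ V
      show (v : G) * 1 ∈ V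
      rw [mul_one]; exact v.2
    · exact fun hc => ⟨⟨c, hc⟩, Subgroup.mem_top _, (mul_one c : _)⟩
  · let N := Subgroup.normalizer (V : Set G)
    have hxV : ∀ v ∈ V, x * v * x⁻¹ ∈ V := by
      intro v hv
      rw [D.hV]
      rcases (D.hV v).1 hv with rfl | rfl | rfl | rfl
      · left; group
      · right; right; left; rfl
      · right; right; right; exact L.cyc
      · right; left
        rw [conj_mul', L.cyc, ← mul_assoc, ← L.comm, mul_assoc, L.hs'.2.1, mul_one]
    have hxN : x ∈ N := Subgroup.mem_normalizer_iff.2 fun w => ⟨hxV w, fun hw => by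
      have h := hxV _ (hxV _ hw)
      rwa [conj_conj, conj_conj, show x * x * x = 1 by rw [← pow_three', L.x3], one_mul, inv_one,
        mul_one] at h⟩
    have hVN : V ≤ N := Subgroup.le_normalizer
    let M := Subgroup.zpowers x ⊔ V
    have hxX : Subgroup.zpowers x ≤ N := Subgroup.zpowers_le.2 hxN
    have hMN : M ≤ N := sup_le hxX hVN
    have hMset : (M : Set G) = (Subgroup.zpowers x : Set G) * (V : Set G) :=
      Subgroup.coe_mul_of_left_le_normalizer_right _ _ hxX
    have hMK : ∀ m ∈ M, ∀ k ∈ K, Commute m k := by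
      intro m hm k hk
      rw [← SetLike.mem_coe, hMset] at hm
      obtain ⟨y, hy, v, hv, rfl⟩ := hm
      obtain ⟨n, rfl⟩ := Subgroup.mem_zpowers_iff.1 hy
      exact ((show Commute x k from hx k hk).zpow_left n).mul_left (D.comm k hk v hv).symm
    have hMK1 : ∀ m ∈ M, m ∈ K → m = 1 := by
      intro m hm hmK
      have : ε ⟨m, hmK⟩ = 1 := center_A5 _ fun τ => by
        obtain ⟨k, rfl⟩ := ε.surjective τ
        rw [← map_mul, ← map_mul]
        exact congrArg ε (Subtype.ext (hMK m hm k k.2).eq)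
      exact congrArg Subtype.val (ε.injective (this.trans (map_one ε).symm))
    have hx1 : x ≠ 1 := fun h => L.ne (by rw [h]; group)
    have hM12 : Nat.card M = 12 := by
      let g : Subgroup.zpowers x × V → M := fun p =>
        ⟨(p.1 : G) * p.2, M.mul_mem (le_sup_left (a := Subgroup.zpowers x) p.1.2) (le_sup_right (b := V) p.2.2)⟩
      have hg : Function.Bijective g := by
        constructor
        · rintro ⟨y, v⟩ ⟨y', v'⟩ e
          have e' : (y : G) * v = y' * v' := congrArg Subtype.val e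
          have h1 : (y' : G)⁻¹ * y = v' * (v : G)⁻¹ := by
            rw [eq_mul_inv_iff_mul_eq, mul_assoc, e', inv_mul_cancel_left]
          have hd1 : orderOf ((y' : G)⁻¹ * y) ∣ 3 := by
            have := Subgroup.orderOf_dvd_natCard (Subgroup.zpowers x)
              ((Subgroup.zpowers x).mul_mem ((Subgroup.zpowers x).inv_mem y'.2) y.2)
            rwa [Nat.card_zpowers, orderOf_eq_prime (hp := ⟨Nat.prime_three⟩) L.x3 hx1] at this
          have hd2 : orderOf ((y' : G)⁻¹ * y) ∣ 4 := by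
            rw [h1, ← hV4]
            exact Subgroup.orderOf_dvd_natCard V (V.mul_mem v'.2 (V.inv_mem v.2))
          have := Nat.dvd_gcd hd1 hd2
          rw [show Nat.gcd 3 4 = 1 from rfl, Nat.dvd_one, orderOf_eq_one_iff] at this
          have hyy : y = y' := Subtype.ext (inv_mul_eq_one.1 this).symm
          subst hyy
          exact Prod.ext rfl (Subtype.ext (mul_left_cancel e'))
        · rintro ⟨m, hm⟩
          have hm' : m ∈ (M : Set G) := hm
          rw [hMset] at hm'
          obtain ⟨y, hy, v, hv, rfl⟩ := hm'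
          exact ⟨(⟨y, hy⟩, ⟨v, hv⟩), rfl⟩
      rw [← Nat.card_congr (Equiv.ofBijective g hg), Nat.card_prod, Nat.card_zpowers,
        orderOf_eq_prime (hp := ⟨Nat.prime_three⟩) L.x3 hx1, hV4]
    have hsM : s ∈ M := le_sup_right (b := V) D.sV
    have hxM : x ∈ M := le_sup_left (a := Subgroup.zpowers x) (Subgroup.mem_zpowers x)
    obtain ⟨μ⟩ := alt_four hM12 (p := ⟨s, hsM⟩) (q := ⟨x, hxM⟩) (Subtype.ext L.hs.2.1)
      (fun h => hs1 (congrArg Subtype.val h)) (Subtype.ext L.x3)
      (fun h => L.ne (congrArg Subtype.val h))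
      (Subtype.ext (by rw [pow_two]; exact L.hss.2.1))
    let h : M × K →* G := M.subtype.noncommCoprod K.subtype (fun m k => hMK m m.2 k k.2)
    have hh : Function.Injective h := by
      rw [injective_iff_map_eq_one]
      rintro ⟨m, k⟩ e
      have e' : (m : G) * k = 1 := e
      have hm : (m : G) = (k : G)⁻¹ := mul_eq_one_iff_eq_inv.1 e'
      have hm1 := hMK1 m m.2 (hm ▸ K.inv_mem k.2)
      rw [hm1, one_mul] at e'
      exact Prod.ext (Subtype.ext hm1) (Subtype.ext e')
    have hKN : K ≤ N := by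
      intro k hk
      refine Subgroup.centralizer_le_normalizer _ ?_
      exact Subgroup.mem_centralizer_iff.2 fun v hv => (D.comm k hk v hv).symm
    have hhr : h.range = N := by
      apply le_antisymm
      · rintro _ ⟨⟨m, k⟩, rfl⟩
        exact N.mul_mem (hMN m.2) (hKN k.2)
      · intro g hg
        have hgs : g * s * g⁻¹ ∈ V := (Subgroup.mem_normalizer_iff.1 hg s).1 D.sV
        obtain ⟨y, hy, hys⟩ : ∃ y ∈ M, y * s * y⁻¹ = g * s * g⁻¹ := by
          rcases (D.hV _).1 hgs with e | e | e | e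
          · exact absurd e (conj_ne_one g hs1)
          · exact ⟨1, M.one_mem, by rw [e]; group⟩
          · exact ⟨x, hxM, e.symm⟩
          · exact ⟨x * x, M.mul_mem hxM hxM, by rw [e, ← conj_conj, L.cyc]⟩
        have hc : y⁻¹ * g * s = s * (y⁻¹ * g) := by
          rw [← conj_eq_iff_comm, ← conj_conj, ← hys]; group
        obtain ⟨k, hk, v, hv, e⟩ := D.decomp _ hc
        refine ⟨(⟨y * v, M.mul_mem hy (le_sup_right (b := V) hv)⟩, ⟨k, hk⟩), ?_⟩
        show y * v * k = g
        rw [mul_assoc, ← D.comm k hk v hv, ← e, mul_inv_cancel_left]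
    exact ⟨(((MonoidHom.ofInjective hh).trans (MulEquiv.subgroupCongr hhr)).symm).trans (μ.prodCongr ε)⟩

end CentData

/-- The centraliser of any outer involution. -/
theorem Setup.centralizer_outer (S : Setup z Q φ) {t : G} (ht : orderOf t = 2) (htz : ¬ IsConj t z) :
    Nonempty (↥(Subgroup.centralizer ({t} : Set G)) ≃*
        (Multiplicative (ZMod 2) × Multiplicative (ZMod 2)) × alternatingGroup (Fin 5)) ∧
      Nonempty (↥(Subgroup.normalizer ((Cfsg.pCoreOf 2 (Subgroup.centralizer ({t} : Set G)) : Subgroup G) : Set G)) ≃*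
        alternatingGroup (Fin 4) × alternatingGroup (Fin 5)) := by
  obtain ⟨u, a, x, s, K, V, L, D, ⟨ε⟩, hx, -⟩ := S.exists_main
  obtain ⟨⟨E⟩, hO, ⟨F⟩⟩ := D.structure_data S L ε hx
  obtain ⟨h2, h1⟩ := orderOf_eq_two_iff'.1 ht
  obtain ⟨g, rfl⟩ := (S.two_classes L.hs h2 h1).resolve_left fun ⟨g, hg⟩ =>
    htz (isConj_iff.2 ⟨g, hg⟩).symm
  have hC : Subgroup.centralizer ({g * s * g⁻¹} : Set G) =
      (Subgroup.centralizer ({s} : Set G)).map (MulAut.conj g).toMonoidHom := by
    ext c
    rw [Subgroup.mem_map_equiv, MulAut.conj_symm_apply, mem_cent, mem_cent,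
      ← conj_eq_iff_comm, ← conj_eq_iff_comm]
    constructor
    · intro h
      apply conj_inj' (a := g)
      calc g * (g⁻¹ * c * g * s * (g⁻¹ * c * g)⁻¹) * g⁻¹ = c * (g * s * g⁻¹) * c⁻¹ := by group
        _ = g * s * g⁻¹ := h
    · intro h
      calc c * (g * s * g⁻¹) * c⁻¹ = g * (g⁻¹ * c * g * s * (g⁻¹ * c * g)⁻¹) * g⁻¹ := by group
        _ = g * s * g⁻¹ := by rw [h]
  rw [hC]
  refine ⟨⟨((Subgroup.equivMapOfInjective _ _ (MulAut.conj g).injective).symm).trans E⟩, ?_⟩
  rw [JComp.pCoreOf_map, hO, ← Subgroup.map_equiv_normalizer_eq]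
  exact ⟨((Subgroup.equivMapOfInjective _ _ (MulAut.conj g).injective).symm).trans F⟩

end Cfsg.Agent.HJ
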