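import Cfsg.Agent.Lib.HJ.AltFive

/-!
The setting of groups of Hall–Janko type and generic helpers.
-/

set_option autoImplicit false

namespace Cfsg.Agent.HJ

variable {G : Type*} [Group G]

/-- An involution centraliser `2^{1+4}.A₅` with an involution of the normal 2-subgroup conjugate
to the central one and at least two classes of involutions. -/
structure Setup (z : G) (Q : Subgroup G)
    (φ : ↥(Subgroup.centralizer ({z} : Set G)) →* A5) : Prop where
  zz : z * z = 1
  zne : z ≠ 1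
  card : Nat.card Q = 32
  zQ : z ∈ Q
  center : ∀ x ∈ Q, (∀ y ∈ Q, x * y = y * x) → x = 1 ∨ x = z
  comm : ∀ x ∈ Q, ∀ y ∈ Q, x * y = y * x ∨ x * y = y * x * z
  sq : ∀ x ∈ Q, x * x = 1 ∨ x * x = z
  self : ∀ h : G, h * z = z * h → (∀ x ∈ Q, h * x = x * h) → h ∈ Q
  surj : Function.Surjective φ
  ker : ∀ h, φ h = 1 ↔ (h : G) ∈ Q
  nwc : ∃ g : G, g * z * g⁻¹ ∈ Q ∧ g * z * g⁻¹ ≠ z
  two : ∃ x : G, x * x = 1 ∧ x ≠ 1 ∧ ∀ g : G, g * z * g⁻¹ ≠ x

open Classical in
/-- The map to `A5`, extended by one. -/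
noncomputable def psi {z : G} (φ : ↥(Subgroup.centralizer ({z} : Set G)) →* A5) (g : G) : A5 :=
  if h : g ∈ Subgroup.centralizer ({z} : Set G) then φ ⟨g, h⟩ else 1

theorem mem_cent {a g : G} : g ∈ Subgroup.centralizer ({a} : Set G) ↔ g * a = a * g :=
  Subgroup.mem_centralizer_singleton_iff

theorem conj_eq_iff_comm {a g : G} : g * a * g⁻¹ = a ↔ g * a = a * g := mul_inv_eq_iff_eq_mul

theorem inv_of_sq {u : G} (h : u * u = 1) : u⁻¹ = u := inv_eq_of_mul_eq_one_right h

theorem conj_conj (a b x : G) : a * (b * x * b⁻¹) * a⁻¹ = a * b * x * (a * b)⁻¹ := by group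

theorem conj_mul' (a x y : G) : a * (x * y) * a⁻¹ = a * x * a⁻¹ * (a * y * a⁻¹) := by group

theorem conj_sq (a : G) {x : G} (h : x * x = 1) : a * x * a⁻¹ * (a * x * a⁻¹) = 1 := by
  rw [← conj_mul', h]; group

theorem conj_comm (a : G) {x y : G} (h : x * y = y * x) :
    a * x * a⁻¹ * (a * y * a⁻¹) = a * y * a⁻¹ * (a * x * a⁻¹) := by
  rw [← conj_mul', ← conj_mul', h]

theorem conj_inj' {a x y : G} (h : a * x * a⁻¹ = a * y * a⁻¹) : x = y :=
  mul_left_cancel (mul_right_cancel h)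

theorem conj_ne_one (a : G) {x : G} (h : x ≠ 1) : a * x * a⁻¹ ≠ 1 := fun e =>
  h (conj_inj' (a := a) (e.trans (by group)))

theorem orderOf_eq_two_iff' {x : G} : orderOf x = 2 ↔ x * x = 1 ∧ x ≠ 1 := by
  constructor
  · intro h
    refine ⟨?_, fun h1 => by rw [h1, orderOf_one] at h; omega⟩
    rw [← pow_two, ← h]; exact pow_orderOf_eq_one x
  · rintro ⟨h, h1⟩
    exact orderOf_eq_prime (by rw [pow_two]; exact h) h1

/-- Orbit-stabiliser for conjugation. -/
theorem card_conj_orbit [Finite G] (S : Subgroup G) (x : G) :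
    Nat.card {y : G // ∃ g ∈ S, g * x * g⁻¹ = y} *
      Nat.card ↥(S ⊓ Subgroup.centralizer ({x} : Set G)) = Nat.card S := by
  classical
  haveI := Fintype.ofFinite G
  let f : G → G := fun g => g * x * g⁻¹
  let SF : Finset G := Finset.univ.filter (· ∈ S)
  have hS : Nat.card S = SF.card := by
    rw [Nat.card_eq_fintype_card, Fintype.card_subtype]
  have hO : Nat.card {y : G // ∃ g ∈ S, g * x * g⁻¹ = y} = (SF.image f).card := by
    rw [Nat.card_eq_fintype_card, Fintype.card_subtype]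
    congr 1
    ext y
    simp [SF, f]
  have hC : Nat.card ↥(S ⊓ Subgroup.centralizer ({x} : Set G)) =
      (SF.filter fun g => f g = x).card := by
    rw [Nat.card_eq_fintype_card, Fintype.card_subtype]
    congr 1
    ext g
    simp [SF, f, Subgroup.mem_inf, mem_cent, conj_eq_iff_comm]
  rw [hS, hO, hC, Finset.card_eq_sum_card_image f SF,
    Finset.sum_const_nat (m := (SF.filter fun g => f g = x).card)]
  intro y hy
  simp only [Finset.mem_image, SF, Finset.mem_filter, Finset.mem_univ, true_and, f] at hy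
  obtain ⟨a, ha, rfl⟩ := hy
  refine Finset.card_nbij' (fun g => a⁻¹ * g) (fun g => a * g) ?_ ?_ ?_ ?_
  · intro g hg
    simp only [Finset.mem_coe, SF, f, Finset.mem_filter, Finset.mem_univ, true_and] at hg ⊢
    refine ⟨S.mul_mem (S.inv_mem ha) hg.1, conj_inj' (a := a) ?_⟩
    rw [← hg.2]; group
  · intro g hg
    simp only [Finset.mem_coe, SF, f, Finset.mem_filter, Finset.mem_univ, true_and] at hg ⊢
    refine ⟨S.mul_mem ha hg.1, ?_⟩
    rw [← conj_conj, hg.2]
  · intro g _; simp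
  · intro g _; simp

/-- Fixed points of an element of prime order acting by conjugation on an invariant set. -/
theorem card_fixed_modEq [Finite G] {p : ℕ} [Fact p.Prime] {f : G} (hf : f ^ p = 1) (s : Set G)
    (hs : ∀ y ∈ s, f * y * f⁻¹ ∈ s) :
    Nat.card {y : G // y ∈ s} ≡ Nat.card {y : G // y ∈ s ∧ f * y = y * f} [MOD p] := by
  classical
  haveI := Fintype.ofFinite G
  let F : Function.End {y : G // y ∈ s} := fun y => ⟨f * y * f⁻¹, hs y y.2⟩
  have hpow : ∀ n : ℕ, ∀ y : {y : G // y ∈ s}, ((F ^ n) y : G) = f ^ n * y * (f ^ n)⁻¹ := by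
    intro n
    induction n with
    | zero => intro y; simp; rfl
    | succ n ih =>
      intro y
      rw [pow_succ', pow_succ', ← conj_conj]
      show f * ((F ^ n) y : G) * f⁻¹ = _
      rw [ih]
  have hF : F ^ p ^ 1 = 1 := by
    funext y
    apply Subtype.ext
    rw [pow_one, hpow, hf]
    simp
    rfl
  have h := Equiv.Perm.card_fixedPoints_modEq hF
  rw [← Nat.card_eq_fintype_card, ← Nat.card_eq_fintype_card] at h
  refine h.trans (Eq.subst (motive := fun n => _ ≡ n [MOD p]) ?_ (Nat.ModEq.refl _))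
  refine Nat.card_congr
    { toFun := fun y => ⟨y.1.1, y.1.2, conj_eq_iff_comm.1 (congrArg Subtype.val y.2)⟩
      invFun := fun y => ⟨⟨y.1, y.2.1⟩, Subtype.ext (conj_eq_iff_comm.2 y.2.2)⟩
      left_inv := fun y => rfl
      right_inv := fun y => rfl }

variable {z : G} {Q : Subgroup G} {φ : ↥(Subgroup.centralizer ({z} : Set G)) →* A5}

namespace Setup

variable (S : Setup z Q φ)
include S

theorem zinv : z⁻¹ = z := inv_of_sq S.zz

theorem Q_comm_z {x : G} (hx : x ∈ Q) : x * z = z * x := by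
  rcases S.comm x hx z S.zQ with h | h
  · exact h
  · exfalso
    rw [mul_assoc z, ] at h
    have : x * z = z * (x * z) := h
    exact S.zne (mul_right_cancel (this.symm.trans (one_mul _).symm))

theorem Q_le {x : G} (hx : x ∈ Q) : x ∈ Subgroup.centralizer ({z} : Set G) :=
  mem_cent.2 (S.Q_comm_z hx)

omit S in
theorem z_mem_H : z ∈ Subgroup.centralizer ({z} : Set G) := mem_cent.2 rfl

theorem psi_mul {a b : G} (ha : a * z = z * a) (hb : b * z = z * b) :
    psi φ (a * b) = psi φ a * psi φ b := by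
  have ha' := mem_cent.2 ha
  have hb' := mem_cent.2 hb
  rw [psi, psi, psi, dif_pos ha', dif_pos hb', dif_pos (mul_mem ha' hb'), ← map_mul]
  rfl

theorem psi_inv {a : G} (ha : a * z = z * a) : psi φ a⁻¹ = (psi φ a)⁻¹ := by
  have ha' := mem_cent.2 ha
  rw [psi, psi, dif_pos ha', dif_pos (inv_mem ha'), ← map_inv]
  rfl

theorem psi_pow {a : G} (ha : a * z = z * a) (n : ℕ) : psi φ (a ^ n) = psi φ a ^ n := by
  have ha' := mem_cent.2 ha
  rw [psi, psi, dif_pos ha', dif_pos (pow_mem ha' n), ← map_pow]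
  rfl

theorem psi_eq_one {a : G} (ha : a * z = z * a) : psi φ a = 1 ↔ a ∈ Q := by
  rw [psi, dif_pos (mem_cent.2 ha)]
  exact S.ker ⟨a, mem_cent.2 ha⟩

theorem psi_surj (g : A5) : ∃ h, h * z = z * h ∧ psi φ h = g := by
  obtain ⟨⟨h, hh⟩, rfl⟩ := S.surj g
  exact ⟨h, mem_cent.1 hh, by rw [psi, dif_pos hh]⟩

theorem psi_conj {a b : G} (ha : a * z = z * a) (hb : b * z = z * b) :
    psi φ (a * b * a⁻¹) = psi φ a * psi φ b * (psi φ a)⁻¹ := by
  have h1 : a⁻¹ * z = z * a⁻¹ := mem_cent.1 (inv_mem (mem_cent.2 ha))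
  have h2 : a * b * z = z * (a * b) := mem_cent.1 (mul_mem (mem_cent.2 ha) (mem_cent.2 hb))
  rw [S.psi_mul h2 h1, S.psi_mul ha hb, S.psi_inv ha]

theorem conj_mem_Q {h x : G} (hh : h * z = z * h) (hx : x ∈ Q) : h * x * h⁻¹ ∈ Q := by
  have hh' : h * x * h⁻¹ * z = z * (h * x * h⁻¹) :=
    mem_cent.1 (mul_mem (mul_mem (mem_cent.2 hh) (S.Q_le hx)) (inv_mem (mem_cent.2 hh)))
  rw [← S.psi_eq_one hh', S.psi_conj hh (S.Q_comm_z hx), (S.psi_eq_one (S.Q_comm_z hx)).2 hx]
  simp

theorem card_H [Finite G] : Nat.card (Subgroup.centralizer ({z} : Set G)) = 1920 := by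
  rw [← φ.ker.card_mul_index, Subgroup.index_ker, MonoidHom.range_eq_top.2 S.surj,
    Subgroup.card_top, card_A5]
  have : Nat.card φ.ker = 32 := by
    rw [← S.card]
    exact Nat.card_congr
      { toFun := fun h => ⟨h.1.1, (S.ker h.1).1 h.2⟩
        invFun := fun x => ⟨⟨x.1, S.Q_le x.2⟩, (S.ker ⟨x.1, S.Q_le x.2⟩).2 x.2⟩
        left_inv := fun h => rfl
        right_inv := fun x => rfl }
  rw [this]

end Setup

end Cfsg.Agent.HJ
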