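import Cfsg.Agent.Lib.HJ.FiveMain

/-!
The Sylow 7-subgroups.
-/

set_option autoImplicit false
set_option linter.style.haveILetI false

open scoped Pointwise

namespace Cfsg.Agent.HJ

variable {G : Type*} [Group G] [Finite G] {z : G} {Q : Subgroup G}
  {φ : ↥(Subgroup.centralizer ({z} : Set G)) →* A5} {u a x s : G} {K V : Subgroup G}

namespace Ctx

variable (C : Ctx z Q φ u a x s K V)
include C

theorem two_not_seven {t : G} (ht : orderOf t = 2) :
    ¬ 7 ∣ Nat.card (Subgroup.centralizer ({t} : Set G)) := by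
  obtain ⟨h2, h1⟩ := orderOf_eq_two_iff'.1 ht
  rcases C.S.two_classes C.L.hs h2 h1 with ⟨g, rfl⟩ | ⟨g, rfl⟩
  · rw [show g * z * g⁻¹ = MulAut.conj g z from rfl, ← card_cent_equiv, C.S.card_H]
    norm_num
  · obtain ⟨ε⟩ := C.iso
    rw [show g * s * g⁻¹ = MulAut.conj g s from rfl, ← card_cent_equiv, C.D.card_C C.S C.L,
      Nat.card_congr ε.toEquiv, card_A5]
    norm_num

theorem three_not_seven {t : G} (ht : orderOf t = 3) :
    ¬ 7 ∣ Nat.card (Subgroup.centralizer ({t} : Set G)) := by
  rcases C.three_classes ht with e | e <;> obtain ⟨k, hk⟩ := isConj_iff.1 e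
  · rw [card_cent_equiv (MulAut.conj k), show MulAut.conj k t = x from hk, C.card_M]
    norm_num
  · rw [card_cent_equiv (MulAut.conj k), show MulAut.conj k t = a from hk]
    rcases C.card_cent_a with e' | e' <;> rw [e'] <;> norm_num

theorem seven (D : Sylow 7 G) :
    Subgroup.centralizer ((D : Subgroup G) : Set G) = (D : Subgroup G) ∧
      Nat.card (Subgroup.normalizer ((D : Subgroup G) : Set G)) = 42 ∧
      ¬ IsMulCommutative (Subgroup.normalizer ((D : Subgroup G) : Set G)) := by
  classical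
  haveI : Fact (Nat.Prime 7) := ⟨by norm_num⟩
  have hD : Nat.card (D : Subgroup G) = 7 := by
    rw [D.card_eq_multiplicity, C.S.card_G, show (604800 : ℕ) = 7 ^ 1 * 86400 by norm_num,
      Nat.factorization_mul (by norm_num) (by norm_num),
      Finsupp.add_apply, Nat.factorization_pow_self (by norm_num),
      Nat.factorization_eq_zero_of_not_dvd (by norm_num)]
    norm_num
  obtain ⟨⟨d, hd⟩, hdo⟩ := exists_prime_orderOf_dvd_card' (p := 7) (G := (D : Subgroup G)) (by rw [hD])
  rw [Subgroup.orderOf_mk] at hdo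
  have hDz : (D : Subgroup G) = Subgroup.zpowers d :=
    (Subgroup.eq_of_le_of_card_ge (Subgroup.zpowers_le.2 hd) (by rw [hD, Nat.card_zpowers, hdo])).symm
  set Cd := Subgroup.centralizer ((D : Subgroup G) : Set G) with hCd
  have hle : (D : Subgroup G) ≤ Cd := by
    intro w hw
    refine Subgroup.mem_centralizer_iff.2 fun v hv => ?_
    rw [hDz] at hw
    rw [SetLike.mem_coe, hDz] at hv
    obtain ⟨i, rfl⟩ := Subgroup.mem_zpowers_iff.1 hw
    obtain ⟨j, rfl⟩ := Subgroup.mem_zpowers_iff.1 hv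
    exact (((Commute.refl d).zpow_left j).zpow_right i).eq
  have hno : ∀ p : ℕ, p.Prime → (p = 2 ∨ p = 3 ∨ p = 5) → ¬ p ∣ Nat.card Cd := by
    intro p hp hcase hdv
    haveI := Fact.mk hp
    obtain ⟨⟨t, ht⟩, hto⟩ := exists_prime_orderOf_dvd_card' (p := p) hdv
    rw [Subgroup.orderOf_mk] at hto
    have h7 : 7 ∣ Nat.card (Subgroup.centralizer ({t} : Set G)) := by
      rw [← hdo]
      exact Subgroup.orderOf_dvd_natCard _ (mem_cent.2 (Subgroup.mem_centralizer_iff.1 ht d hd))
    rcases hcase with rfl | rfl | rfl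
    · exact C.two_not_seven hto h7
    · exact C.three_not_seven hto h7
    · exact C.five_not_seven hto h7
  have hCeq : Cd = (D : Subgroup G) := by
    refine (Subgroup.eq_of_le_of_card_ge hle ?_).symm
    have hdv : Nat.card Cd ∣ 7 * (2 ^ 7 * 3 ^ 3 * 5 ^ 2) := by
      rw [show 7 * (2 ^ 7 * 3 ^ 3 * 5 ^ 2) = 604800 by norm_num, ← C.S.card_G]
      exact Subgroup.card_subgroup_dvd_card _
    have hcop : ∀ p : ℕ, p.Prime → (p = 2 ∨ p = 3 ∨ p = 5) → ∀ k, Nat.Coprime (Nat.card Cd) (p ^ k) :=
      fun p hp hc k => ((hp.coprime_iff_not_dvd).2 (hno p hp hc)).symm.pow_right k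
    have hc : Nat.Coprime (Nat.card Cd) (2 ^ 7 * 3 ^ 3 * 5 ^ 2) :=
      ((hcop 2 Nat.prime_two (by tauto) 7).mul_right (hcop 3 Nat.prime_three (by tauto) 3)).mul_right
        (hcop 5 Nat.prime_five (by tauto) 2)
    rw [hD]
    exact Nat.le_of_dvd (by norm_num) (hc.dvd_of_dvd_mul_right hdv)
  set N := Subgroup.normalizer ((D : Subgroup G) : Set G) with hN
  -- the automorphisms induced on `D`
  let f : N →* MulAut (D : Subgroup G) :=
    { toFun := fun n =>
        { toFun := fun w => ⟨(n : G) * w * (n : G)⁻¹, (Subgroup.mem_normalizer_iff.1 n.2 w).1 w.2⟩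
          invFun := fun w => ⟨(n : G)⁻¹ * w * (n : G), by
            have := (Subgroup.mem_normalizer_iff.1 (N.inv_mem n.2) w).1 w.2
            rwa [inv_inv] at this⟩
          left_inv := fun w => Subtype.ext (by group)
          right_inv := fun w => Subtype.ext (by group)
          map_mul' := fun v w => Subtype.ext (by
            show (n : G) * ((v : G) * w) * (n : G)⁻¹ = _
            exact conj_mul' _ _ _) }
      map_one' := MulEquiv.ext fun w => Subtype.ext (by
        show (1 : G) * w * (1 : G)⁻¹ = w; group)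
      map_mul' := fun n m => MulEquiv.ext fun w => Subtype.ext (by
        show (n : G) * m * w * ((n : G) * m)⁻¹ = n * (m * w * (m : G)⁻¹) * (n : G)⁻¹; group) }
  have hker : Nat.card f.ker = 7 := by
    have he : f.ker = Cd.subgroupOf N := by
      ext n
      rw [Subgroup.mem_subgroupOf, hCd, Subgroup.mem_centralizer_iff, MonoidHom.mem_ker]
      constructor
      · intro h v hv
        exact (conj_eq_iff_comm.1 (congrArg Subtype.val (DFunLike.congr_fun h ⟨v, hv⟩))).symm
      · intro h
        exact MulEquiv.ext fun w => Subtype.ext (conj_eq_iff_comm.2 (h w w.2).symm)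
    rw [he, Nat.card_congr (Subgroup.subgroupOfEquivOfLe (hCeq.le.trans Subgroup.le_normalizer)).toEquiv,
      hCeq, hD]
  have hidx : f.ker.index ∣ 6 := by
    rw [Subgroup.index_ker]
    refine (Subgroup.card_subgroup_dvd_card _).trans ?_
    haveI : IsCyclic (D : Subgroup G) := isCyclic_of_prime_card hD
    rw [IsCyclic.card_mulAut, hD, Nat.totient_prime (by norm_num)]
  obtain ⟨m, hm, hNm⟩ : ∃ m, m ∣ 6 ∧ Nat.card N = 7 * m :=
    ⟨_, hidx, by rw [← f.ker.card_mul_index, hker]⟩
  have hmul := N.card_mul_index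
  rw [hNm, C.S.card_G] at hmul
  have hi : N.index % 7 = 1 := by
    have h1 := card_sylow_modEq_one 7 G
    rw [D.card_eq_index_normalizer] at h1
    exact h1
  have hmI : m * N.index = 86400 := by
    rw [mul_assoc] at hmul
    exact Nat.eq_of_mul_eq_mul_left (show 0 < 7 by norm_num) (hmul.trans (by norm_num))
  have hm6 : m = 6 := by
    have := congrArg (· % 7) hmI
    simp only [Nat.mul_mod, hi, mul_one, Nat.mod_mod] at this
    have hle := Nat.le_of_dvd (by norm_num) hm
    omega
  refine ⟨hCeq, by rw [hNm, hm6], fun hcomm => ?_⟩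
  have hsub : N ≤ Cd := fun n hn => Subgroup.mem_centralizer_iff.2 fun v hv =>
    congrArg Subtype.val (hcomm.is_comm.comm ⟨v, Subgroup.le_normalizer hv⟩ ⟨n, hn⟩)
  have := Subgroup.card_dvd_of_le hsub
  rw [hNm, hm6, hCeq, hD] at this
  omega

end Ctx

end Cfsg.Agent.HJ
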