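import Cfsg.Agent.Lib.HJ.ThreeBase
import Cfsg.Agent.Lib.Involutions.Dihedral
import Cfsg.Agent.Lib.Fusion.SmallCentreOdd
import Cfsg.Agent.Lib.Transfer.Basic
import Cfsg.Agent.S3035

/-!
The centraliser of the element `x` of order three, and the Sylow 3-subgroups.
-/

set_option autoImplicit false
set_option linter.style.haveILetI false

open scoped Pointwise commutatorElement

namespace Cfsg.Agent.HJ

theorem invol_eq_of_quot {M : Type*} [Group M] [Finite M] (X : Subgroup M) [X.Normal]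
    (hX : Odd (Nat.card X)) (hc : ∀ w ∈ X, ∀ g : M, w * g = g * w) {t t' : M}
    (ht : t * t = 1) (ht' : t' * t' = 1) (h : QuotientGroup.mk' X t = QuotientGroup.mk' X t') :
    t = t' := by
  have hw : t⁻¹ * t' ∈ X := QuotientGroup.eq.1 h
  obtain ⟨w, hwdef⟩ : ∃ w, w = t⁻¹ * t' := ⟨_, rfl⟩
  rw [← hwdef] at hw
  have e : t' = t * w := by rw [hwdef]; group
  rw [e] at ht'
  have h2 : w * w = 1 := by
    calc w * w = t * t * (w * w) := by rw [ht, one_mul]
      _ = t * (t * w) * w := by group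
      _ = t * (w * t) * w := by rw [← hc w hw t]
      _ = t * w * (t * w) := by group
      _ = 1 := ht'
  rw [e, sq_eq_one_of_odd X hX hw h2, mul_one]

theorem card_cent_equiv {A B : Type*} [Group A] [Group B] (ι : A ≃* B) (y : A) :
    Nat.card (Subgroup.centralizer ({y} : Set A)) = Nat.card (Subgroup.centralizer ({ι y} : Set B)) :=
  Nat.card_congr
    { toFun := fun g => ⟨ι g, mem_cent.2 (by rw [← map_mul, ← map_mul, mem_cent.1 g.2])⟩
      invFun := fun g => ⟨ι.symm g, mem_cent.2 (ι.injective (by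
        rw [map_mul, map_mul, ι.apply_symm_apply, mem_cent.1 g.2]))⟩
      left_inv := fun g => by simp
      right_inv := fun g => by simp }

variable {G : Type*} [Group G] [Finite G] {z : G} {Q : Subgroup G}
  {φ : ↥(Subgroup.centralizer ({z} : Set G)) →* A5} {u a x s : G} {K V : Subgroup G}

namespace Ctx

variable (C : Ctx z Q φ u a x s K V)
include C

/-- An involution centralising `x` is conjugate to `z` by an element centralising `x`. -/
theorem invol_x {t : G} (htx : t * x = x * t) (ht : t * t = 1) (ht1 : t ≠ 1) :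
    ∃ m, m * x = x * m ∧ m * t * m⁻¹ ∈ Q := by
  classical
  haveI : Fact (Nat.Prime 2) := ⟨Nat.prime_two⟩
  obtain ⟨w, hw, hxw, huw, -, -⟩ := C.exists_w
  set M := Subgroup.centralizer ({x} : Set G)
  let CQ : Subgroup M := (Q ⊓ M).subgroupOf M
  have hCQ : Nat.card CQ = 8 := by
    rw [Nat.card_congr (Subgroup.subgroupOfEquivOfLe inf_le_right).toEquiv, C.card_CQ]
  obtain ⟨R, hR⟩ := (IsPGroup.of_card (p := 2) (n := 3) (G := CQ) (by rw [hCQ]; norm_num)).exists_le_sylow
  have hzM : z ∈ M := mem_cent.2 C.L.xz.symm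
  have hzCQ : (⟨z, hzM⟩ : M) ∈ CQ := ⟨C.S.zQ, hzM⟩
  haveI : Nontrivial (R : Subgroup M) :=
    ⟨⟨⟨_, hR hzCQ⟩, 1, fun h => C.S.zne (congrArg (fun q : (R : Subgroup M) => ((q : M) : G)) h)⟩⟩
  haveI := R.2.center_nontrivial
  obtain ⟨c', hc'⟩ := exists_prime_orderOf_dvd_card' (p := 2)
    (show 2 ∣ Nat.card (Subgroup.center (R : Subgroup M)) by
      obtain ⟨k, hk⟩ := IsPGroup.iff_card.1 (R.2.to_subgroup (Subgroup.center (R : Subgroup M)))
      rw [hk]
      refine dvd_pow_self 2 ?_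
      rintro rfl
      have h1 : 1 < Nat.card (Subgroup.center (R : Subgroup M)) := Finite.one_lt_card
      simp [hk] at h1)
  obtain ⟨c, hcdef⟩ : ∃ c : G, c = (((c' : (R : Subgroup M)) : M) : G) := ⟨_, rfl⟩
  have hc2 : orderOf c = 2 := by
    rw [hcdef, Subgroup.orderOf_coe, Subgroup.orderOf_coe, Subgroup.orderOf_coe, hc']
  obtain ⟨hcc, hc1⟩ := orderOf_eq_two_iff'.1 hc2
  have hcx : c * x = x * c := hcdef ▸ mem_cent.1 ((c' : (R : Subgroup M)) : M).2
  have hccomm : ∀ y : M, y ∈ (R : Subgroup M) → (y : G) * c = c * (y : G) := fun y hy => by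
    rw [hcdef]
    exact congrArg (fun q : (R : Subgroup M) => ((q : M) : G))
      (Subgroup.mem_center_iff.1 c'.2 ⟨y, hy⟩)
  have hcz : c * z = z * c := (hccomm _ (hR hzCQ)).symm
  have hcQ : c ∈ Q := by
    rw [← C.S.psi_eq_one hcz]
    by_contra h
    have h1 : psi φ c * psi φ c = 1 := by
      rw [← C.S.psi_mul hcz hcz, hcc]; exact (C.S.psi_eq_one (by simp)).2 Q.one_mem
    have hcomm : psi φ c * psi φ x = psi φ x * psi φ c := by
      rw [← C.S.psi_mul hcz C.L.xz, hcx, C.S.psi_mul C.L.xz hcz]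
    have hcen := A5_cent_three _ C.psi_x.1 C.psi_x.2
    have hsub : ({1, psi φ x, psi φ x ^ 2, psi φ c} : Finset A5) ⊆
        Finset.univ.filter fun τ : A5 => τ * psi φ x = psi φ x * τ := by
      intro τ hτ
      simp only [Finset.mem_insert, Finset.mem_singleton] at hτ
      simp only [Finset.mem_filter, Finset.mem_univ, true_and]
      rcases hτ with rfl | rfl | rfl | rfl
      · simp
      · rfl
      · exact (Commute.refl (psi φ x)).pow_left 2
      · exact hcomm
    have ho := orderOf_eq_two_iff'.2 ⟨h1, h⟩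
    have ho3 := orderOf_eq_prime (hp := ⟨Nat.prime_three⟩) C.psi_x.1 C.psi_x.2
    have ho3' : orderOf (psi φ x ^ 2) = 3 := by rw [Nat.Coprime.orderOf_pow (by rw [ho3]; norm_num), ho3]
    have n1 : psi φ x ≠ psi φ x ^ 2 := fun e => C.psi_x.2 (by
      rw [pow_two] at e; exact mul_left_cancel (e.symm.trans (mul_one _).symm))
    have n2 : psi φ x ≠ psi φ c := fun e => by rw [e] at ho3; omega
    have n3 : psi φ x ^ 2 ≠ psi φ c := fun e => by rw [e] at ho3'; omega
    have n4 : (1 : A5) ≠ psi φ x ^ 2 := fun e => by rw [← e, orderOf_one] at ho3'; omega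
    have hle := Finset.card_le_card hsub
    rw [hcen, Finset.card_insert_of_notMem (by simp [Ne.symm C.psi_x.2, n4, Ne.symm h]),
      Finset.card_insert_of_notMem (by simp [n1, n2]), Finset.card_pair n3] at hle
    omega
  have hwM : w ∈ M := mem_cent.2 hxw.symm
  have huM : u ∈ M := mem_cent.2 C.L.xu.symm
  have hcu := hccomm ⟨u, huM⟩ (hR ⟨C.L.hu.1, huM⟩)
  have hcw := hccomm ⟨w, hwM⟩ (hR ⟨hw.1, hwM⟩)
  have hc_eq : c = z := by
    rcases C.S.fix_W C.L.hu C.L.xz C.L.xu C.L.x3 C.x_ne hcQ hcu.symm hcx.symm with e | e | e | e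
    · exact absurd e hc1
    · exact e
    · subst e; exact absurd hcw.symm huw
    · exfalso
      apply huw
      have h1 : Commute w (u * z) := by rw [← e]; exact hcw
      have h2 : Commute w (u * z * z) := h1.mul_right (C.S.Q_comm_z hw.1)
      rw [C.S.mul_z_z] at h2
      exact h2.eq.symm
  have hRz : ∀ y : M, y ∈ (R : Subgroup M) → (y : G) * z = z * (y : G) := fun y hy => hc_eq ▸ hccomm y hy
  have hR8 : Nat.card (R : Subgroup M) ≤ 8 := by
    obtain ⟨k, hk⟩ := IsPGroup.iff_card.1 R.2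
    have hd : Nat.card (R : Subgroup M) ∣ 24 := by
      rw [← C.card_CH]
      exact Subgroup.card_dvd_of_injective
        (((M.subtype.comp (R : Subgroup M).subtype)).codRestrict _
          fun y => ⟨mem_cent.2 (hRz y.1 y.2), y.1.2⟩)
        (fun p q e => Subtype.ext (Subtype.ext (Subtype.ext_iff.1 e :)))
    rw [hk] at hd ⊢
    by_contra hlt
    have hk4 : 4 ≤ k := by
      by_contra h4
      exact hlt (le_of_le_of_eq (Nat.pow_le_pow_right (by norm_num) (show k ≤ 3 by omega)) rfl)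
    have := (pow_dvd_pow 2 hk4).trans hd
    norm_num at this
  have hReq : (R : Subgroup M) = CQ := (Subgroup.eq_of_le_of_card_ge hR (hCQ ▸ hR8)).symm
  have htM : t ∈ M := mem_cent.2 htx
  obtain ⟨T, hT⟩ := (IsPGroup.of_card (p := 2) (n := 1)
    (G := Subgroup.zpowers (⟨t, htM⟩ : M)) (by
      rw [pow_one, Nat.card_zpowers, Subgroup.orderOf_mk, orderOf_eq_two_iff'.2 ⟨ht, ht1⟩])).exists_le_sylow
  obtain ⟨m, hm⟩ := MulAction.exists_smul_eq M T R
  refine ⟨(m : G), mem_cent.1 m.2, ?_⟩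
  have hmem : (m * ⟨t, htM⟩ * m⁻¹ : M) ∈ (R : Subgroup M) := by
    rw [← hm, Sylow.coe_subgroup_smul]
    exact ⟨_, hT (Subgroup.mem_zpowers _), rfl⟩
  rw [hReq] at hmem
  exact hmem.1

theorem invol_x_z {t : G} (htx : t * x = x * t) (ht : t * t = 1) (ht1 : t ≠ 1) :
    ∃ g, g * z * g⁻¹ = t := by
  obtain ⟨m, -, hm⟩ := C.invol_x htx ht ht1
  obtain ⟨g, hg⟩ := C.S.inQ_conj_z hm (conj_sq m ht) (conj_ne_one m ht1)
  exact ⟨m⁻¹ * g, by rw [← conj_conj, hg]; group⟩

/-- An element of order three centralising an outer involution centralises no central one. -/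
theorem three_s {y : G} (hys : y * s = s * y) (hy3 : y ^ 3 = 1) (hy1 : y ≠ 1) :
    ∀ t, t * y = y * t → t * t = 1 → t ≠ 1 → ∃ g, g * s * g⁻¹ = t := by
  intro t hty ht ht1
  refine (C.S.two_classes C.L.hs ht ht1).resolve_left fun ⟨g, hg⟩ => ?_
  have hyz : g⁻¹ * y * g * z = z * (g⁻¹ * y * g) := by
    have h1 : y * (g * z * g⁻¹) = g * z * g⁻¹ * y := by rw [hg]; exact hty.symm
    calc g⁻¹ * y * g * z = g⁻¹ * (y * (g * z * g⁻¹)) * g := by group
      _ = _ := by rw [h1]; group
  obtain ⟨k, -, hk⟩ := C.three_conj hyz (by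
      have := conj_pow (a := g⁻¹) (b := y) (i := 3)
      rw [inv_inv] at this
      rw [this, hy3]; group)
    (fun h => hy1 (by
      calc y = g * (g⁻¹ * y * g) * g⁻¹ := by group
        _ = 1 := by rw [h]; group))
  have hy : y = g * k * x * (g * k)⁻¹ := by rw [← conj_conj, hk]; group
  obtain ⟨r, hr⟩ := C.invol_x_z (t := (g * k)⁻¹ * s * (g * k)) (by
      calc (g * k)⁻¹ * s * (g * k) * x = (g * k)⁻¹ * (s * (g * k * x * (g * k)⁻¹)) * (g * k) := by group
        _ = (g * k)⁻¹ * (g * k * x * (g * k)⁻¹ * s) * (g * k) := by rw [← hy, hys]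
        _ = _ := by group)
    (by
      calc (g * k)⁻¹ * s * (g * k) * ((g * k)⁻¹ * s * (g * k)) = (g * k)⁻¹ * (s * s) * (g * k) := by group
        _ = 1 := by rw [C.L.hs.2.1]; group)
    (fun h => C.s_ne (by
      calc s = g * k * ((g * k)⁻¹ * s * (g * k)) * (g * k)⁻¹ := by group
        _ = 1 := by rw [h]; group))
  exact C.S.outer_not_conj C.L.hs (g * k * r) (by rw [← conj_conj, hr]; group)

omit [Finite G] in
theorem a_s : a * s = s * a := C.L.sa.symm

omit [Finite G] in
theorem a_ne : a ≠ 1 := fun h => C.L.hu.2.2.2 (by rw [← C.L.az, h]; group)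

/-- The order of the centraliser of `a`. -/
theorem card_cent_a : Nat.card (Subgroup.centralizer ({a} : Set G)) = 36 ∨
    Nat.card (Subgroup.centralizer ({a} : Set G)) = 180 :=
  C.small_cent (p := 3) (Or.inl rfl) C.D.aK C.L.a3 C.a_ne (C.three_s C.a_s C.L.a3 C.a_ne)

/-- An element of the centraliser of `x` moving the involution `z` to a prescribed partner. -/
theorem exists_cycle {t : G} (htQ : Nci z Q t) (htx : x * t = t * x) :
    ∃ b g, b * x = x * b ∧ b * z * b⁻¹ = t ∧ b * t * b⁻¹ = t * z ∧ b ^ 3 = 1 ∧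
      (g * a * g⁻¹ = b ∨ g * (a * a) * g⁻¹ = b) := by
  obtain ⟨w, hw, hxw, huw, honly, h, hhz, hhx, hhu⟩ := C.exists_w
  have huz := C.S.Q_comm_z C.L.hu.1
  have auz : a * (u * z) * a⁻¹ = z := by
    rw [conj_mul', C.L.au, C.L.az]
    calc u * z * u = z * (u * u) := by rw [huz]; group
      _ = z := by rw [C.L.hu.2.1, mul_one]
  have a23 : (a * a) ^ 3 = 1 := by
    rw [(Commute.refl a).mul_pow, C.L.a3, one_mul]
  have hxa2 : a * a * x = x * (a * a) := Setup.comm_mul C.L.xa.symm C.L.xa.symm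
  have base : ∀ t, (t = u ∨ t = u * z) → ∃ b g, b * x = x * b ∧ b * z * b⁻¹ = t ∧
      b * t * b⁻¹ = t * z ∧ b ^ 3 = 1 ∧ (g * a * g⁻¹ = b ∨ g * (a * a) * g⁻¹ = b) := by
    rintro t (rfl | rfl)
    · exact ⟨a, 1, C.L.xa.symm, C.L.az, C.L.au, C.L.a3, Or.inl (by group)⟩
    · refine ⟨a * a, 1, hxa2, by rw [← conj_conj, C.L.az, C.L.au], ?_, a23, Or.inr (by group)⟩
      rw [← conj_conj, auz, C.L.az, C.S.mul_z_z]
  have hx' : h⁻¹ * x * h = x⁻¹ := by
    calc h⁻¹ * x * h = h⁻¹ * (h * x * h⁻¹)⁻¹ * h := by rw [hhx, inv_inv]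
      _ = x⁻¹ := by group
  have trans : ∀ t, (t = u ∨ t = u * z) → ∃ b g, b * x = x * b ∧ b * z * b⁻¹ = h * t * h⁻¹ ∧
      b * (h * t * h⁻¹) * b⁻¹ = h * t * h⁻¹ * z ∧ b ^ 3 = 1 ∧
      (g * a * g⁻¹ = b ∨ g * (a * a) * g⁻¹ = b) := by
    intro t ht
    obtain ⟨b, g, hbx, hbz, hbt, hb3, hbg⟩ := base t ht
    refine ⟨h * b * h⁻¹, h * g, ?_, ?_, ?_, by rw [conj_pow, hb3]; group, ?_⟩
    · have h1 := conj_comm h hbx
      rw [hhx] at h1
      have h2 := (show Commute (h * b * h⁻¹) x⁻¹ from h1).inv_right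
      rwa [inv_inv] at h2
    · calc h * b * h⁻¹ * z * (h * b * h⁻¹)⁻¹ = h * b * (h⁻¹ * z * h) * b⁻¹ * h⁻¹ := by group
        _ = h * (b * z * b⁻¹) * h⁻¹ := by
            rw [show h⁻¹ * z * h = z by rw [mul_assoc, ← hhz, inv_mul_cancel_left]]; group
        _ = _ := by rw [hbz]
    · calc h * b * h⁻¹ * (h * t * h⁻¹) * (h * b * h⁻¹)⁻¹ = h * (b * t * b⁻¹) * h⁻¹ := by group
        _ = h * (t * z) * h⁻¹ := by rw [hbt]
        _ = _ := by rw [conj_mul', conj_eq_iff_comm.2 hhz]
    · rcases hbg with rfl | rfl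
      · left; rw [← conj_conj]
      · right; rw [← conj_conj]
  rcases honly t htQ htx with rfl | rfl | rfl | rfl
  · exact base _ (Or.inl rfl)
  · exact base _ (Or.inr rfl)
  · rcases hhu with e | e
    · rw [← e]; exact trans u (Or.inl rfl)
    · have : t = h * (u * z) * h⁻¹ := by rw [conj_mul', e, conj_eq_iff_comm.2 hhz, C.S.mul_z_z]
      rw [this]; exact trans _ (Or.inr rfl)
  · rcases hhu with e | e
    · have : w * z = h * (u * z) * h⁻¹ := by rw [conj_mul', e, conj_eq_iff_comm.2 hhz]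
      rw [this]; exact trans _ (Or.inr rfl)
    · rw [← e]; exact trans u (Or.inl rfl)

/-- The structure of the centraliser of `x`. -/
theorem exists_quot : ∃ (_ : (Subgroup.zpowers (⟨x, mem_cent.2 rfl⟩ :
      Subgroup.centralizer ({x} : Set G))).Normal),
    Nonempty (↥(Subgroup.centralizer ({x} : Set G)) ⧸ Subgroup.zpowers (⟨x, mem_cent.2 rfl⟩ :
      Subgroup.centralizer ({x} : Set G)) ≃* A6) := by
  classical
  set M := Subgroup.centralizer ({x} : Set G) with hM
  let xM : M := ⟨x, mem_cent.2 rfl⟩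
  set X := Subgroup.zpowers xM with hX
  have hcy : ∀ g : M, Commute g xM := fun g => Subtype.ext (mem_cent.1 g.2)
  have hcen : ∀ w ∈ X, ∀ g : M, w * g = g * w := by
    intro w hw g
    obtain ⟨n, rfl⟩ := Subgroup.mem_zpowers_iff.1 hw
    exact ((hcy g).zpow_right n).symm.eq
  haveI hXn : X.Normal := ⟨fun w hw g => by rw [← hcen w hw g, mul_inv_cancel_right]; exact hw⟩
  have hXc : Nat.card X = 3 := by rw [hX, Nat.card_zpowers, Subgroup.orderOf_mk, C.orderOf_x]
  have hXodd : Odd (Nat.card X) := by rw [hXc]; decide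
  refine ⟨hXn, ?_⟩
  let π := QuotientGroup.mk' X
  have hcent : ∀ q : M ⧸ X, q * q = 1 → q ≠ 1 →
      Nat.card (Subgroup.centralizer ({q} : Set (M ⧸ X))) = 8 := by
    intro q hq hq1
    obtain ⟨t, ht, ht1, rfl⟩ := lift_invol X hXodd hq hq1
    have h := card_cent_quot X hXodd hcen ht
    obtain ⟨g, hg⟩ := C.invol_x_z (mem_cent.1 t.2) (congrArg Subtype.val ht)
      (fun e => ht1 (Subtype.ext e))
    have hxz' : g⁻¹ * x * g * z = z * (g⁻¹ * x * g) := by
      have h1 : x * (g * z * g⁻¹) = g * z * g⁻¹ * x := by rw [hg]; exact (mem_cent.1 t.2).symm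
      calc g⁻¹ * x * g * z = g⁻¹ * (x * (g * z * g⁻¹)) * g := by group
        _ = _ := by rw [h1]; group
    obtain ⟨k, hkz, hk⟩ := C.three_conj hxz' (by
        have := conj_pow (a := g⁻¹) (b := x) (i := 3)
        rw [inv_inv] at this
        rw [this, C.L.x3]; group)
      (fun e => C.x_ne (by
        calc x = g * (g⁻¹ * x * g) * g⁻¹ := by group
          _ = 1 := by rw [e]; group))
    obtain ⟨r, hrdef⟩ : ∃ r, r = g * k := ⟨_, rfl⟩
    have hrz : r * z * r⁻¹ = (t : G) := by rw [hrdef, ← conj_conj, conj_eq_iff_comm.2 hkz, hg]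
    have hrx : r * x * r⁻¹ = x := by rw [hrdef, ← conj_conj, hk]; group
    have e : Nat.card (Subgroup.centralizer ({t} : Set M)) =
        Nat.card ↥(Subgroup.centralizer ({z} : Set G) ⊓ M) := Nat.card_congr
      { toFun := fun c => ⟨r⁻¹ * c.1.1 * r, mem_cent.2 (by
            have h1 : c.1.1 * (r * z * r⁻¹) = r * z * r⁻¹ * c.1.1 := by
              rw [hrz]; exact congrArg Subtype.val (mem_cent.1 c.2)
            calc r⁻¹ * c.1.1 * r * z = r⁻¹ * (c.1.1 * (r * z * r⁻¹)) * r := by group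
              _ = _ := by rw [h1]; group), mem_cent.2 (by
            have h1 : c.1.1 * (r * x * r⁻¹) = r * x * r⁻¹ * c.1.1 := by
              rw [hrx]; exact mem_cent.1 c.1.2
            calc r⁻¹ * c.1.1 * r * x = r⁻¹ * (c.1.1 * (r * x * r⁻¹)) * r := by group
              _ = _ := by rw [h1]; group)⟩
        invFun := fun c => ⟨⟨r * c.1 * r⁻¹, mem_cent.2 (by
            rw [← hrx]; exact conj_comm r (mem_cent.1 c.2.2))⟩, mem_cent.2 (Subtype.ext (by
            show r * c.1 * r⁻¹ * (t : G) = (t : G) * (r * c.1 * r⁻¹)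
            rw [← hrz]; exact conj_comm r (mem_cent.1 c.2.1)))⟩
        left_inv := fun c => Subtype.ext (Subtype.ext (by group))
        right_inv := fun c => Subtype.ext (by group) }
    rw [e, C.card_CH, hXc] at h
    show Nat.card (Subgroup.centralizer ({π t} : Set (M ⧸ X))) = 8
    exact Nat.eq_of_mul_eq_mul_left (show 0 < 3 by norm_num) (h.trans (by norm_num))
  -- the involution and its dihedral centraliser
  obtain ⟨w, hw, hxw, huw, -, -⟩ := C.exists_w
  have hzM : z ∈ M := mem_cent.2 C.L.xz.symm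
  let zT : M := ⟨z, hzM⟩
  have hne : ∀ (v : M), v * v = 1 → v ≠ 1 → π v ≠ 1 := fun v h2 h1 h =>
    h1 (sq_eq_one_of_odd X hXodd ((QuotientGroup.eq_one_iff v).1 h) h2)
  have hz2 : zT * zT = 1 := Subtype.ext C.S.zz
  have hz1 : zT ≠ 1 := fun h => C.S.zne (congrArg Subtype.val h)
  have hqz : orderOf (π zT) = 2 :=
    orderOf_eq_two_iff'.2 ⟨by rw [← map_mul, hz2, map_one], hne _ hz2 hz1⟩
  set CQ := Q ⊓ M with hCQdef
  let j : CQ →* Subgroup.centralizer ({π zT} : Set (M ⧸ X)) :=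
    (π.comp (Subgroup.inclusion (show CQ ≤ M from inf_le_right))).codRestrict _ fun g => mem_cent.2 (by
      show π _ * π zT = π zT * π _
      rw [← map_mul, ← map_mul]
      exact congrArg π (Subtype.ext (C.S.Q_comm_z g.2.1)))
  have hj : Function.Injective j := by
    rw [injective_iff_map_eq_one]
    intro g hg
    have hgX : Subgroup.inclusion (show CQ ≤ M from inf_le_right) g ∈ X :=
      (QuotientGroup.eq_one_iff _).1 (congrArg Subtype.val hg)
    have h1 : orderOf (g : G) ∣ 3 := by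
      have := Subgroup.orderOf_dvd_natCard X hgX
      rwa [hXc, ← Subgroup.orderOf_coe] at this
    have h2 : orderOf (g : G) ∣ 8 := C.card_CQ ▸ Subgroup.orderOf_dvd_natCard CQ g.2
    have := Nat.dvd_gcd h1 h2
    rw [show Nat.gcd 3 8 = 1 from rfl, Nat.dvd_one, orderOf_eq_one_iff] at this
    exact Subtype.ext this
  have hqz2 : π zT * π zT = 1 := by rw [← map_mul, hz2, map_one]
  have hjb : Function.Bijective j := (Nat.bijective_iff_injective_and_card j).2
    ⟨hj, by rw [C.card_CQ, hcent _ hqz2 (hne _ hz2 hz1)]⟩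
  have ou : orderOf u = 2 := orderOf_eq_two_iff'.2 ⟨C.L.hu.2.1, C.L.hu.2.2.1⟩
  have ow : orderOf w = 2 := orderOf_eq_two_iff'.2 ⟨hw.2.1, hw.2.2.1⟩
  have huwne : u ≠ w := fun e => huw (by rw [e])
  have huw4 : orderOf (u * w) = 4 := by
    have h1 : w * u = u * w * z := C.S.nc_eq hw.1 C.L.hu.1 (Ne.symm huw)
    have h2 : u * w * (u * w) = z := by
      calc u * w * (u * w) = u * (w * u) * w := by group
        _ = u * u * w * (z * w) := by rw [h1]; group
        _ = w * w * z := by rw [C.L.hu.2.1, one_mul, ← C.S.Q_comm_z hw.1]; group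
        _ = z := by rw [hw.2.1, one_mul]
    haveI : Fact (Nat.Prime 2) := ⟨Nat.prime_two⟩
    exact orderOf_eq_prime_pow (p := 2) (n := 1)
      (by rw [pow_one, pow_two, h2]; exact C.S.zne)
      (by rw [show 2 ^ (1 + 1) = 2 * 2 by norm_num, pow_mul, pow_two, pow_two, h2, C.S.zz])
  have hrange : (Invol.dihHom ou ow).range = CQ := by
    refine Subgroup.eq_of_le_of_card_ge ?_ ?_
    · rw [Invol.dihHom_range, Subgroup.closure_le]
      rintro y (rfl | rfl)
      · exact ⟨C.L.hu.1, mem_cent.2 C.L.xu.symm⟩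
      · exact ⟨hw.1, mem_cent.2 hxw.symm⟩
    · rw [C.card_CQ, ← Nat.card_congr (MonoidHom.ofInjective (Invol.dihHom_injective ou ow huwne)).toEquiv,
        DihedralGroup.nat_card, huw4]
  have hD : Nonempty (↥(Subgroup.centralizer ({π zT} : Set (M ⧸ X))) ≃* DihedralGroup 4) := by
    have e := ((MonoidHom.ofInjective (Invol.dihHom_injective ou ow huwne)).trans
      (MulEquiv.subgroupCongr hrange)).trans (MulEquiv.ofBijective j hjb)
    rw [huw4] at e
    exact ⟨e.symm⟩
  -- it contains the alternating group of degree five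
  have hKM : K ≤ M := fun k hk => mem_cent.2 (C.xK k hk).symm
  have h60 : 60 ∣ Nat.card (M ⧸ X) := by
    obtain ⟨ε⟩ := C.iso
    let i : K →* M ⧸ X := π.comp (Subgroup.inclusion hKM)
    have hi : Function.Injective i := by
      rw [injective_iff_map_eq_one]
      intro k hk
      have hkX : Subgroup.inclusion hKM k ∈ X := (QuotientGroup.eq_one_iff _).1 hk
      refine ε.injective ((A5_center _ fun τ => ?_).trans (map_one ε).symm)
      obtain ⟨l, rfl⟩ := ε.surjective τ
      rw [← map_mul, ← map_mul]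
      have e : ((k : G) * (l : G)) = (l : G) * (k : G) :=
        congrArg Subtype.val (hcen _ hkX (Subgroup.inclusion hKM l))
      exact congrArg ε (Subtype.ext e)
    have := Subgroup.card_dvd_of_injective i hi
    rwa [Nat.card_congr ε.toEquiv, card_A5] at this
  rcases Cfsg.Agent.S3035.result (π zT) hqz hD with h | ⟨⟨ι⟩⟩ | ⟨⟨ι⟩⟩ | ⟨⟨ι⟩⟩ | h
  · exfalso
    haveI : Fact (Nat.Prime 2) := ⟨Nat.prime_two⟩
    haveI hOn : (Cfsg.oddCore (M ⧸ X)).Normal := Cfsg.pPrimeCore_normal 2 _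
    have hodd := PBasic.pPrimeCore_coprime 2 (M ⧸ X)
    have hu' := C.L.hu
    have huM : u ∈ M := mem_cent.2 C.L.xu.symm
    let aT : M := ⟨a, mem_cent.2 C.L.xa.symm⟩
    let uT : M := ⟨u, huM⟩
    let ρ := QuotientGroup.mk' (Cfsg.oddCore (M ⧸ X))
    have hsur : ∀ q : M ⧸ X, ∃ c ∈ Subgroup.centralizer ({π zT} : Set (M ⧸ X)), ρ q = ρ c := by
      intro q
      have hq : q ∈ Subgroup.centralizer ({π zT} : Set (M ⧸ X)) ⊔ Cfsg.oddCore (M ⧸ X) := h ▸ Subgroup.mem_top q
      rw [← SetLike.mem_coe, Subgroup.mul_normal] at hq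
      obtain ⟨c, hc, o, ho, rfl⟩ := hq
      exact ⟨c, hc, by rw [map_mul, show ρ o = 1 from (QuotientGroup.eq_one_iff o).2 ho, mul_one]⟩
    have ha1 : ρ (π aT) = 1 := by
      obtain ⟨c, hc, hac⟩ := hsur (π aT)
      have h8 : (⟨c, hc⟩ : Subgroup.centralizer ({π zT} : Set (M ⧸ X))) ^ 8 = 1 := by
        rw [← hcent _ hqz2 (hne _ hz2 hz1)]; exact pow_card_eq_one'
      have h8' : c ^ 8 = 1 := congrArg Subtype.val h8
      have h3 : ρ (π aT) ^ 3 = 1 := by
        rw [← map_pow, ← map_pow, show aT ^ 3 = 1 from Subtype.ext C.L.a3, map_one, map_one]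
      have h8'' : ρ (π aT) ^ 8 = 1 := by rw [hac, ← map_pow, h8', map_one]
      have := pow_gcd_eq_one.2 ⟨h3, h8''⟩
      rwa [show Nat.gcd 3 8 = 1 from rfl, pow_one] at this
    have huz : ρ (π uT) = ρ (π zT) := by
      rw [show uT = aT * zT * aT⁻¹ from Subtype.ext C.L.az.symm, map_mul π, map_mul π, map_inv π,
        map_mul ρ, map_mul ρ, map_inv ρ, ha1]; group
    have hmem : π uT * π zT ∈ Cfsg.oddCore (M ⧸ X) := by
      refine (QuotientGroup.eq_one_iff _).1 ?_
      show ρ (π uT * π zT) = 1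
      rw [map_mul, huz, ← map_mul, hqz2, map_one]
    have huz' := C.S.nci_mul_z C.L.hu
    have ho : orderOf (π (uT * zT)) = 2 := orderOf_eq_two_iff'.2
      ⟨by rw [← map_mul, show uT * zT * (uT * zT) = 1 from Subtype.ext huz'.2.1, map_one],
        hne _ (Subtype.ext huz'.2.1) fun e => huz'.2.2.1 (congrArg Subtype.val e)⟩
    rw [← map_mul] at hmem
    have h2 := Subgroup.orderOf_dvd_natCard _ hmem
    rw [ho] at h2
    exact (Nat.prime_two.coprime_iff_not_dvd).1 hodd.symm h2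
  · exfalso
    rw [Nat.card_congr ι.toEquiv, Nat.card_perm, Nat.card_fin] at h60
    exact absurd h60 (by decide)
  · exfalso
    have h2 : Equiv.swap (0 : Fin 5) 1 * Equiv.swap 0 1 = 1 := by decide
    have h1 : Equiv.swap (0 : Fin 5) 1 ≠ 1 := by decide
    have h := hcent (ι.symm (Equiv.swap 0 1)) (by rw [← map_mul, h2, map_one])
      (fun e => h1 (ι.symm.injective (e.trans (map_one _).symm)))
    rw [card_cent_equiv ι, ι.apply_symm_apply] at h
    rw [Nat.card_eq_fintype_card, Fintype.card_subtype] at h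
    have h12 := S5_swap
    simp only [mem_cent] at h
    rw [h] at h12
    omega
  · exfalso
    rw [Nat.card_congr ι.toEquiv, Cfsg.Agent.S3035.sl32.2] at h60
    exact absurd h60 (by decide)
  · exact h

end Ctx

end Cfsg.Agent.HJ
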