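import Cfsg.Agent.Lib.HJ.Small
import Cfsg.Agent.Lib.HJ.AltSix

/-!
The centraliser of the element of order three inside the centraliser of the central involution.
-/

set_option autoImplicit false
set_option linter.style.haveILetI false

namespace Cfsg.Agent.HJ

variable {G : Type*} [Group G] [Finite G] {z : G} {Q : Subgroup G}
  {φ : ↥(Subgroup.centralizer ({z} : Set G)) →* A5} {u a x s : G} {K V : Subgroup G}

namespace Ctx

variable (C : Ctx z Q φ u a x s K V)
include C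

omit [Finite G] in
theorem x_ne : x ≠ 1 := fun h => C.L.ne (by rw [h]; group)

theorem orderOf_x : orderOf x = 3 := orderOf_eq_prime (hp := ⟨Nat.prime_three⟩) C.L.x3 C.x_ne

theorem x_notQ : x ∉ Q := fun h => by
  have h1 := Subgroup.orderOf_dvd_natCard Q h
  rw [C.orderOf_x, C.S.card] at h1
  omega

theorem psi_x : psi φ x ^ 3 = 1 ∧ psi φ x ≠ 1 := by
  refine ⟨?_, fun h => C.x_notQ ((C.S.psi_eq_one C.L.xz).1 h)⟩
  rw [← C.S.psi_pow C.L.xz, C.L.x3]
  exact (C.S.psi_eq_one (by simp)).2 Q.one_mem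

/-- The points fixed by `x`. -/
theorem fixed_points : ∃ j, j ≠ pt φ u ∧ ap (psi φ x) j = j ∧
    ∀ k, ap (psi φ x) k = k → k = pt φ u ∨ k = j := by
  exact order_three_fix (pt φ u) (psi φ x) (C.S.pt_fix C.L.hu x C.L.xz C.L.xu) C.psi_x.1 C.psi_x.2

/-- The second four-group. -/
theorem exists_w : ∃ w, Nci z Q w ∧ x * w = w * x ∧ u * w ≠ w * u ∧
    (∀ t, Nci z Q t → x * t = t * x → t = u ∨ t = u * z ∨ t = w ∨ t = w * z) ∧
    ∃ h, h * z = z * h ∧ h * x * h⁻¹ = x⁻¹ ∧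
      (h * u * h⁻¹ = w ∨ h * u * h⁻¹ = w * z) := by
  classical
  obtain ⟨j, hji, hxj, honly⟩ := C.fixed_points
  obtain ⟨w, hw, hwj⟩ := C.S.pt_surj j
  have hxw : x * w * x⁻¹ = w := by
    rcases (C.S.pt_fix_iff C.L.xz hw).1 (by rw [hwj]; exact hxj) with e | e
    · exact e
    · exfalso
      have h3 : x * x * x * w * (x * x * x)⁻¹ = w * z := by
        rw [← conj_conj, e, conj_mul', conj_eq_iff_comm.2 (C.S.H_mul C.L.xz C.L.xz),
          ← conj_conj, e, conj_mul', e, conj_eq_iff_comm.2 C.L.xz, C.S.mul_z_z]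
      rw [show x * x * x = 1 by rw [← pow_three', C.L.x3], one_mul, inv_one, mul_one] at h3
      exact C.S.ne_mul_z w h3
  refine ⟨w, hw, conj_eq_iff_comm.1 hxw, C.S.nc_of_pt_ne C.L.hu hw (by rw [hwj]; exact hji.symm),
    ?_, ?_⟩
  · intro t ht hxt
    have hfix : ap (psi φ x) (pt φ t) = pt φ t :=
      (C.S.pt_fix_iff C.L.xz ht).2 (Or.inl (conj_eq_iff_comm.2 hxt))
    rcases honly _ hfix with e | e
    · rcases (C.S.pt_eq_iff C.L.hu ht).1 e with e | e <;> tauto
    · rcases (C.S.pt_eq_iff hw ht).1 (e.trans hwj.symm) with e | e <;> tauto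
  · -- an element inverting `x`
    obtain ⟨g, hg⟩ := A5_real_three _ C.psi_x.1
    obtain ⟨h0, hh0, rfl⟩ := C.S.psi_surj g
    let M0 : Subgroup G :=
      { carrier := {y | y * z = z * y ∧ psi φ y ∈ Subgroup.zpowers (psi φ x)}
        mul_mem' := fun {a b} ha hb => ⟨C.S.H_mul ha.1 hb.1, by
          rw [C.S.psi_mul ha.1 hb.1]; exact mul_mem ha.2 hb.2⟩
        one_mem' := ⟨by simp, by rw [(C.S.psi_eq_one (by simp)).2 Q.one_mem]; exact one_mem _⟩
        inv_mem' := fun {a} ha => ⟨C.S.H_inv ha.1, by rw [C.S.psi_inv ha.1]; exact inv_mem ha.2⟩ }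
    have hyz : h0 * x * h0⁻¹ * z = z * (h0 * x * h0⁻¹) :=
      C.S.H_mul (C.S.H_mul hh0 C.L.xz) (C.S.H_inv hh0)
    have hψy : psi φ (h0 * x * h0⁻¹) = (psi φ x)⁻¹ := by rw [C.S.psi_conj hh0 C.L.xz, hg]
    have hxM : x ∈ M0 := ⟨C.L.xz, Subgroup.mem_zpowers _⟩
    have hyM : h0 * x * h0⁻¹ ∈ M0 := ⟨hyz, by rw [hψy]; exact inv_mem (Subgroup.mem_zpowers _)⟩
    haveI : Fact (Nat.Prime 3) := ⟨Nat.prime_three⟩
    -- Sylow in the preimage
    have hcard : Nat.card M0 ∣ 96 := by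
      let f : M0 →* Subgroup.zpowers (psi φ x) :=
        { toFun := fun y => ⟨psi φ y, y.2.2⟩
          map_one' := Subtype.ext ((C.S.psi_eq_one (by simp)).2 Q.one_mem)
          map_mul' := fun a b => Subtype.ext (C.S.psi_mul a.2.1 b.2.1) }
      rw [← f.ker.card_mul_index, Subgroup.index_ker]
      refine (mul_dvd_mul (b := 32) (d := 3) ?_ ?_).trans (by norm_num)
      · rw [← C.S.card]
        exact Subgroup.card_dvd_of_injective
          ((M0.subtype.comp f.ker.subtype).codRestrict Q fun y =>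
            (C.S.psi_eq_one y.1.2.1).1 (congrArg Subtype.val (MonoidHom.mem_ker.1 y.2)))
          (fun a b e => Subtype.ext (Subtype.ext (Subtype.ext_iff.1 e :)))
      · refine (Subgroup.card_subgroup_dvd_card _).trans ?_
        rw [Nat.card_zpowers]
        exact orderOf_dvd_of_pow_eq_one C.psi_x.1
    have hX : Nat.card (Subgroup.zpowers (⟨x, hxM⟩ : M0)) = 3 := by
      rw [Nat.card_zpowers, Subgroup.orderOf_mk, C.orderOf_x]
    have hY : Nat.card (Subgroup.zpowers (⟨h0 * x * h0⁻¹, hyM⟩ : M0)) = 3 := by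
      rw [Nat.card_zpowers, Subgroup.orderOf_mk]
      refine orderOf_eq_prime ?_ (conj_ne_one h0 C.x_ne)
      rw [conj_pow, C.L.x3]; group
    have hP : (Nat.card M0).factorization 3 ≤ 1 := by
      have := (Nat.factorization_le_iff_dvd (Nat.card_pos.ne') (by norm_num)).2 hcard 3
      refine this.trans (le_of_eq ?_)
      rw [show (96 : ℕ) = 3 ^ 1 * 32 by norm_num, Nat.factorization_mul (by norm_num) (by norm_num),
        Finsupp.add_apply, Nat.factorization_pow_self Nat.prime_three,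
        Nat.factorization_eq_zero_of_not_dvd (by norm_num)]
    have hP' : (Nat.card M0).factorization 3 = 1 := le_antisymm hP
      ((Nat.Prime.pow_dvd_iff_le_factorization Nat.prime_three Nat.card_pos.ne').1 (by
        rw [pow_one, ← hX]; exact Subgroup.card_subgroup_dvd_card _))
    let PX : Sylow 3 M0 := Sylow.ofCard _ (by rw [hX, hP', pow_one])
    let PY : Sylow 3 M0 := Sylow.ofCard _ (by rw [hY, hP', pow_one])
    obtain ⟨m, hm⟩ := MulAction.exists_smul_eq M0 PY PX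
    have hmem : (m * ⟨h0 * x * h0⁻¹, hyM⟩ * m⁻¹ : M0) ∈ (PX : Subgroup M0) := by
      rw [← hm, Sylow.coe_subgroup_smul, Sylow.coe_ofCard]
      exact ⟨_, Subgroup.mem_zpowers _, rfl⟩
    rw [Sylow.coe_ofCard, mem_zpowers_iff_mem_range_orderOf, Subgroup.orderOf_mk, C.orderOf_x,
      Finset.mem_image] at hmem
    obtain ⟨n, hn3, hn⟩ := hmem
    rw [Finset.mem_range] at hn3
    have hn' : x ^ n = (m : G) * (h0 * x * h0⁻¹) * (m : G)⁻¹ := congrArg Subtype.val hn
    have hψm : psi φ (x ^ n) = (psi φ x)⁻¹ := by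
      rw [hn', C.S.psi_conj m.2.1 hyz, hψy]
      obtain ⟨k, hk⟩ := Subgroup.mem_zpowers_iff.1 m.2.2
      rw [← hk]; group
    rw [C.S.psi_pow C.L.xz] at hψm
    have hn2 : n = 2 := by
      interval_cases n
      · rw [pow_zero, eq_comm, inv_eq_one] at hψm; exact absurd hψm C.psi_x.2
      · exfalso
        apply C.psi_x.2
        have h3 := C.psi_x.1
        rw [pow_one] at hψm
        rw [pow_succ, pow_two] at h3
        nth_rw 2 [hψm] at h3
        simpa using h3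
      · rfl
    subst hn2
    have hinv : x ^ 2 = x⁻¹ := eq_inv_of_mul_eq_one_left (by rw [← pow_succ, C.L.x3])
    obtain ⟨h, hh⟩ : ∃ h, h = (m : G) * h0 := ⟨_, rfl⟩
    have hhz : h * z = z * h := hh ▸ C.S.H_mul m.2.1 hh0
    have hhx : h * x * h⁻¹ = x⁻¹ := by rw [hh, ← conj_conj, ← hn', hinv]
    refine ⟨h, hhz, hhx, ?_⟩
    have hψh : psi φ h * psi φ x * (psi φ h)⁻¹ = (psi φ x)⁻¹ := by
      rw [← C.S.psi_conj hhz C.L.xz, hhx, C.S.psi_inv C.L.xz]
    have hswap := A5_invert_swap _ C.psi_x.1 C.psi_x.2 _ hψh (pt φ u) j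
      (C.S.pt_fix C.L.hu x C.L.xz C.L.xu) hxj (Ne.symm hji)
    rw [← C.S.pt_conj hhz C.L.hu, ← hwj] at hswap
    exact (C.S.pt_eq_iff hw (C.S.nci_conj hhz C.L.hu)).1 hswap

/-- The fixed points of `x` on `Q`. -/
theorem card_CQ : Nat.card ↥(Q ⊓ Subgroup.centralizer ({x} : Set G)) = 8 := by
  classical
  haveI := Fintype.ofFinite G
  obtain ⟨w, hw, hxw, huw, -, -⟩ := C.exists_w
  have h := C.S.card_cent_step (Q ⊓ Subgroup.centralizer ({x} : Set G)) inf_le_left C.L.hu.1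
    ⟨w, ⟨hw.1, mem_cent.2 hxw.symm⟩, Ne.symm huw⟩
  rw [← h]
  suffices e : Nat.card ↥(Q ⊓ Subgroup.centralizer ({x} : Set G) ⊓ Subgroup.centralizer ({u} : Set G)) = 4 by
    rw [e]
  have hu' := C.S.nci_mul_z C.L.hu
  have h4 : ({1, z, u, u * z} : Finset G).card = 4 := by
    rw [Finset.card_insert_of_notMem
        (by simp [Ne.symm C.S.zne, Ne.symm C.L.hu.2.2.1, Ne.symm hu'.2.2.1]),
      Finset.card_insert_of_notMem (by simp [Ne.symm C.L.hu.2.2.2, Ne.symm hu'.2.2.2]),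
      Finset.card_pair (C.S.ne_mul_z u)]
  rw [← h4, Nat.card_eq_fintype_card, Fintype.card_subtype]
  congr 1
  ext y
  simp only [Finset.mem_filter, Finset.mem_univ, true_and, Subgroup.mem_inf, mem_cent,
    Finset.mem_insert, Finset.mem_singleton]
  have huz := C.S.Q_comm_z C.L.hu.1
  constructor
  · rintro ⟨⟨hy, hyx⟩, hyu⟩
    exact C.S.fix_W C.L.hu C.L.xz C.L.xu C.L.x3 C.x_ne hy hyu hyx.symm
  · rintro (rfl | rfl | rfl | rfl)
    · exact ⟨⟨Q.one_mem, by simp⟩, by simp⟩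
    · exact ⟨⟨C.S.zQ, C.L.xz.symm⟩, huz.symm⟩
    · exact ⟨⟨C.L.hu.1, C.L.xu.symm⟩, rfl⟩
    · exact ⟨⟨hu'.1, (Setup.comm_mul C.L.xu.symm C.L.xz.symm)⟩, Setup.comm_mul rfl huz.symm⟩

/-- The centraliser of `x` in the centraliser of `z`. -/
theorem card_CH : Nat.card ↥(Subgroup.centralizer ({z} : Set G) ⊓ Subgroup.centralizer ({x} : Set G)) = 24 := by
  classical
  set A := Subgroup.centralizer ({z} : Set G) ⊓ Subgroup.centralizer ({x} : Set G)
  let χ : A →* A5 := φ.comp (Subgroup.inclusion inf_le_left)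
  have hχ : ∀ g : A, χ g = psi φ (g : G) := fun g => by
    rw [psi, dif_pos (show (g : G) ∈ Subgroup.centralizer ({z} : Set G) from g.2.1)]; rfl
  have hk : Nat.card χ.ker = 8 := by
    rw [← C.card_CQ]
    exact Nat.card_congr
      { toFun := fun g => ⟨g.1.1, (C.S.ker _).1 g.2, g.1.2.2⟩
        invFun := fun y => ⟨⟨y.1, C.S.Q_le y.2.1, y.2.2⟩, (C.S.ker ⟨y.1, C.S.Q_le y.2.1⟩).2 y.2.1⟩
        left_inv := fun g => rfl
        right_inv := fun y => rfl }
  have hr : Nat.card χ.range = 3 := by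
    refine le_antisymm ?_ ?_
    · rw [← A5_cent_three _ C.psi_x.1 C.psi_x.2, Nat.card_eq_fintype_card, Fintype.card_subtype]
      refine Finset.card_le_card fun σ hσ => ?_
      simp only [Finset.mem_filter, Finset.mem_univ, true_and, MonoidHom.mem_range] at hσ ⊢
      obtain ⟨g, rfl⟩ := hσ
      rw [hχ, ← C.S.psi_mul (mem_cent.1 g.2.1) C.L.xz, ← C.S.psi_mul C.L.xz (mem_cent.1 g.2.1),
        mem_cent.1 g.2.2]
    · have hd : orderOf (psi φ x) ∣ Nat.card χ.range := Subgroup.orderOf_dvd_natCard _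
        ⟨⟨x, mem_cent.2 C.L.xz, mem_cent.2 rfl⟩, hχ _⟩
      rw [orderOf_eq_prime (hp := ⟨Nat.prime_three⟩) C.psi_x.1 C.psi_x.2] at hd
      exact Nat.le_of_dvd Nat.card_pos hd
  rw [← χ.ker.card_mul_index, Subgroup.index_ker, hk, hr]

/-- Every element of order three centralising `z` is conjugate to `x`. -/
theorem three_conj {y : G} (hyz : y * z = z * y) (hy3 : y ^ 3 = 1) (hy1 : y ≠ 1) :
    ∃ g, g * z = z * g ∧ g * x * g⁻¹ = y := by
  classical
  haveI : Fact (Nat.Prime 3) := ⟨Nat.prime_three⟩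
  obtain ⟨-, -, -, -, -, h, hhz, hhx, -⟩ := C.exists_w
  set H := Subgroup.centralizer ({z} : Set G)
  have hf : (Nat.card H).factorization 3 = 1 := by
    rw [C.S.card_H, show (1920 : ℕ) = 3 ^ 1 * 640 by norm_num,
      Nat.factorization_mul (by norm_num) (by norm_num),
      Finsupp.add_apply, Nat.factorization_pow_self Nat.prime_three,
      Nat.factorization_eq_zero_of_not_dvd (by norm_num)]
  let PX : Sylow 3 H := Sylow.ofCard (Subgroup.zpowers ⟨x, mem_cent.2 C.L.xz⟩) (by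
    rw [hf, pow_one, Nat.card_zpowers, Subgroup.orderOf_mk, C.orderOf_x])
  let PY : Sylow 3 H := Sylow.ofCard (Subgroup.zpowers ⟨y, mem_cent.2 hyz⟩) (by
    rw [hf, pow_one, Nat.card_zpowers, Subgroup.orderOf_mk, orderOf_eq_prime hy3 hy1])
  obtain ⟨m, hm⟩ := MulAction.exists_smul_eq H PY PX
  have hmem : (m * ⟨y, mem_cent.2 hyz⟩ * m⁻¹ : H) ∈ (PX : Subgroup H) := by
    rw [← hm, Sylow.coe_subgroup_smul, Sylow.coe_ofCard]
    exact ⟨_, Subgroup.mem_zpowers _, rfl⟩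
  rw [Sylow.coe_ofCard, mem_zpowers_iff_mem_range_orderOf, Subgroup.orderOf_mk, C.orderOf_x,
    Finset.mem_image] at hmem
  obtain ⟨n, hn3, hn⟩ := hmem
  rw [Finset.mem_range] at hn3
  have hn' : x ^ n = (m : G) * y * (m : G)⁻¹ := congrArg Subtype.val hn
  have hm' : (m : G) * z = z * (m : G) := mem_cent.1 m.2
  interval_cases n
  · rw [pow_zero] at hn'
    exact absurd hn'.symm (conj_ne_one _ hy1)
  · rw [pow_one] at hn'
    exact ⟨(m : G)⁻¹, C.S.H_inv hm', by rw [hn']; group⟩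
  · refine ⟨(m : G)⁻¹ * h, C.S.H_mul (C.S.H_inv hm') hhz, ?_⟩
    have hinv : x ^ 2 = x⁻¹ := eq_inv_of_mul_eq_one_left (by rw [← pow_succ, C.L.x3])
    rw [← conj_conj, hhx, ← hinv, hn']; group

end Ctx

end Cfsg.Agent.HJ
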