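import Cfsg.Agent.Lib.HJ.Main
import Cfsg.Agent.Lib.HJ.Iso
import Cfsg.Agent.Lib.Components.FStar
import Cfsg.Agent.Lib.Components.Local
import Cfsg.Agent.Lib.Transfer.PGroup

/-!
From the standard hypotheses to the setting of a group of Hall–Janko type.
-/

set_option autoImplicit false
set_option linter.style.haveILetI false

open scoped commutatorElement

namespace Cfsg.Agent.HJ

variable {G : Type*} [Group G] [Finite G]

/-- An extraspecial group of order 32 has an involution other than the central one. -/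
theorem exists_invol {z : G} {Q : Subgroup G} (hc : Nat.card Q = 32) (hzQ : z ∈ Q) (hzz : z * z = 1)
    (comm : ∀ x ∈ Q, ∀ y ∈ Q, x * y = y * x ∨ x * y = y * x * z)
    (sq : ∀ x ∈ Q, x * x = 1 ∨ x * x = z) : ∃ y ∈ Q, y * y = 1 ∧ y ≠ 1 ∧ y ≠ z := by
  classical
  haveI := Fintype.ofFinite G
  by_contra hno
  push Not at hno
  obtain ⟨a, haQ, ha1, haz⟩ : ∃ a ∈ Q, a ≠ 1 ∧ a ≠ z := by
    by_contra h
    push Not at h
    have hsub : (Finset.univ.filter fun w => w ∈ Q) ⊆ ({1, z} : Finset G) := fun w hw => by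
      simp only [Finset.mem_filter, Finset.mem_univ, true_and] at hw
      simp only [Finset.mem_insert, Finset.mem_singleton]
      by_cases h1 : w = 1
      · exact Or.inl h1
      · exact Or.inr (h w hw h1)
    have h2 := Finset.card_le_card hsub
    rw [Nat.card_eq_fintype_card, Fintype.card_subtype] at hc
    rw [hc] at h2
    exact absurd (h2.trans Finset.card_le_two) (by norm_num)
  have ha2 : a * a = z := (sq a haQ).resolve_left fun h => haz (hno a haQ h ha1)
  have horb : Nat.card {y : G // ∃ g ∈ Q, g * a * g⁻¹ = y} ≤ 2 := by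
    rw [Nat.card_eq_fintype_card, Fintype.card_subtype]
    refine (Finset.card_le_card (t := {a, a * z}) fun y hy => ?_).trans Finset.card_le_two
    simp only [Finset.mem_filter, Finset.mem_univ, true_and] at hy
    obtain ⟨g, hg, rfl⟩ := hy
    simp only [Finset.mem_insert, Finset.mem_singleton]
    rcases comm g hg a haQ with h | h
    · left; rw [h]; group
    · right
      have hzg : z * g⁻¹ = g⁻¹ * z := by
        rcases comm z hzQ g⁻¹ (Q.inv_mem hg) with e | e
        · exact e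
        · exfalso
          rw [mul_assoc, hzz, mul_one] at e
          have e' : z = 1 := mul_right_cancel (e.trans (one_mul _).symm)
          exact haz ((hno a haQ (ha2.trans e') ha1))
      rw [h, mul_assoc (a * g), hzg]; group
  have h := card_conj_orbit Q a
  rw [hc] at h
  have h16 : 16 ≤ Nat.card ↥(Q ⊓ Subgroup.centralizer ({a} : Set G)) := by nlinarith
  obtain ⟨c, ⟨hcQ, hca⟩, hc'⟩ : ∃ c, (c ∈ Q ∧ c * a = a * c) ∧
      c ∉ ({1, z, a, a * z} : Finset G) := by
    by_contra h'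
    push Not at h'
    have hsub : (Finset.univ.filter fun w => w ∈ Q ⊓ Subgroup.centralizer ({a} : Set G)) ⊆
        ({1, z, a, a * z} : Finset G) := fun w hw => by
      simp only [Finset.mem_filter, Finset.mem_univ, true_and, Subgroup.mem_inf, mem_cent] at hw
      exact h' w hw
    rw [Nat.card_eq_fintype_card, Fintype.card_subtype] at h16
    exact absurd (h16.trans ((Finset.card_le_card hsub).trans Finset.card_le_four)) (by norm_num)
  simp only [Finset.mem_insert, Finset.mem_singleton, not_or] at hc'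
  have hc2 : c * c = z := (sq c hcQ).resolve_left fun e => hc'.2.1 (hno c hcQ e hc'.1)
  have hsq : a * c * (a * c) = 1 := by
    calc a * c * (a * c) = a * (c * a) * c := by group
      _ = a * a * (c * c) := by rw [hca]; group
      _ = 1 := by rw [ha2, hc2, hzz]
  have hne1 : a * c ≠ 1 := fun e => hc'.2.2.2 (by
    calc c = a⁻¹ * (a * c) := by group
      _ = a⁻¹ := by rw [e, mul_one]
      _ = a * (a * a)⁻¹ := by group
      _ = a * z := by rw [ha2, inv_of_sq hzz])
  have := hno _ (Q.mul_mem haQ hcQ) hsq hne1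
  rw [← ha2] at this
  exact hc'.2.2.1 (mul_left_cancel this)

/-- The setting from an extraspecial generalized Fitting subgroup of the centraliser. -/
theorem setup_of (z : G) (hz : orderOf z = 2) (Q : Subgroup (Subgroup.centralizer ({z} : Set G)))
    (hF : Cfsg.generalizedFittingSubgroup (Subgroup.centralizer ({z} : Set G)) = Q)
    (hQ : Cfsg.IsExtraspecial 2 Q) (hcard : Nat.card Q = 32)
    (φ : ↥(Subgroup.centralizer ({z} : Set G)) →* A5) (hφ : Function.Surjective φ)
    (hker : ∀ h, φ h = 1 ↔ h ∈ Q)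
    (hnwc : (∃ y ∈ Q.map (Subgroup.centralizer ({z} : Set G)).subtype, y * y = 1 ∧ y ≠ 1 ∧ y ≠ z) →
      ∃ g : G, g * z * g⁻¹ ∈ Q.map (Subgroup.centralizer ({z} : Set G)).subtype ∧
      g * z * g⁻¹ ≠ z)
    (hcl : ∃ x y : G, orderOf x = 2 ∧ orderOf y = 2 ∧ ¬ IsConj x y) :
    Setup z (Q.map (Subgroup.centralizer ({z} : Set G)).subtype) φ := by
  obtain ⟨⟨hP, hfr, hder⟩, hc2⟩ := hQ
  obtain ⟨hzz, hz1⟩ := orderOf_eq_two_iff'.1 hz
  haveI : Fact (Nat.Prime 2) := ⟨Nat.prime_two⟩
  have hzH : z ∈ (Subgroup.centralizer ({z} : Set G)) := mem_cent.2 rfl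
  have hcent : ∀ q : (Subgroup.centralizer ({z} : Set G)), q * ⟨z, hzH⟩ = ⟨z, hzH⟩ * q := fun q => Subtype.ext (mem_cent.1 q.2)
  have hzQ : (⟨z, hzH⟩ : (Subgroup.centralizer ({z} : Set G))) ∈ Q := by
    rw [← hF]
    refine Components.centralizer_generalizedFitting_le (Subgroup.mem_centralizer_iff.2 fun q _ => ?_)
    exact hcent q
  let zQ : Q := ⟨⟨z, hzH⟩, hzQ⟩
  have hzQ1 : zQ ≠ 1 := fun h => hz1 (congrArg (fun w : Q => ((w : (Subgroup.centralizer ({z} : Set G))) : G)) h)
  have hzc : zQ ∈ Subgroup.center Q := Subgroup.mem_center_iff.2 fun q => Subtype.ext (hcent q.1)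
  have hcen : ∀ w ∈ Subgroup.center Q, w = 1 ∨ w = zQ := by
    intro w hw
    obtain ⟨⟨y, hy⟩, hy1, huniq⟩ := (Nat.card_eq_two_iff' (1 : Subgroup.center Q)).1 hc2
    by_cases hw1 : w = 1
    · exact Or.inl hw1
    · right
      have e1 := huniq ⟨w, hw⟩ fun h => hw1 (congrArg Subtype.val h)
      have e2 := huniq ⟨zQ, hzc⟩ fun h => hzQ1 (congrArg Subtype.val h)
      exact congrArg Subtype.val (e1.trans e2.symm)
  have hval : ∀ w : Q, (w = 1 ∨ w = zQ) → ((w : (Subgroup.centralizer ({z} : Set G))) : G) = 1 ∨ ((w : (Subgroup.centralizer ({z} : Set G))) : G) = z := by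
    rintro w (rfl | rfl)
    · exact Or.inl rfl
    · exact Or.inr rfl
  have hsq : ∀ q : Q, q * q = 1 ∨ q * q = zQ := fun q => hcen _ (by
    rw [← hfr, ← pow_two]; exact PGroupBasics.pow_mem_frattini hP q)
  have hcm : ∀ p q : Q, ⁅p, q⁆ = 1 ∨ ⁅p, q⁆ = zQ := fun p q => hcen _ (by
    rw [← hder, commutator_def]
    exact Subgroup.commutator_mem_commutator (Subgroup.mem_top p) (Subgroup.mem_top q))
  have memQ : ∀ {x : G}, x ∈ Q.map (Subgroup.centralizer ({z} : Set G)).subtype → ∃ q : Q, ((q : (Subgroup.centralizer ({z} : Set G))) : G) = x := by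
    rintro x ⟨q, hq, rfl⟩; exact ⟨⟨q, hq⟩, rfl⟩
  have fcard : Nat.card ↥(Q.map (Subgroup.centralizer ({z} : Set G)).subtype) = 32 := by rw [Nat.card_congr (Q.equivMapOfInjective _ (Subgroup.centralizer ({z} : Set G)).subtype_injective).toEquiv.symm, hcard]
  have fcomm : ∀ x ∈ (Q.map (Subgroup.centralizer ({z} : Set G)).subtype), ∀ y ∈ (Q.map (Subgroup.centralizer ({z} : Set G)).subtype), x * y = y * x ∨ x * y = y * x * z := by
      intro x hx y hy
      obtain ⟨p, rfl⟩ := memQ hx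
      obtain ⟨q, rfl⟩ := memQ hy
      have e : p * q = ⁅p, q⁆ * (q * p) := by rw [commutatorElement_def]; group
      rcases hcm p q with h | h
      · left
        rw [h, one_mul] at e
        exact congrArg (fun w : Q => ((w : (Subgroup.centralizer ({z} : Set G))) : G)) e
      · right
        rw [h, ← (Subgroup.mem_center_iff.1 hzc (q * p))] at e
        exact congrArg (fun w : Q => ((w : (Subgroup.centralizer ({z} : Set G))) : G)) e
  have fsq : ∀ x ∈ (Q.map (Subgroup.centralizer ({z} : Set G)).subtype), x * x = 1 ∨ x * x = z := by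
      intro x hx
      obtain ⟨q, rfl⟩ := memQ hx
      exact hval (q * q) (hsq q)
  exact
  { zz := hzz
    zne := hz1
    card := fcard
    zQ := ⟨⟨z, hzH⟩, hzQ, rfl⟩
    center := by
      intro x hx hall
      obtain ⟨q, rfl⟩ := memQ hx
      exact hval q (hcen q (Subgroup.mem_center_iff.2 fun p => Subtype.ext (Subtype.ext
        (hall _ ⟨p.1, p.2, rfl⟩).symm)))
    comm := fcomm
    sq := fsq
    self := by
      intro h hh hall
      refine ⟨⟨h, mem_cent.2 hh⟩, ?_, rfl⟩
      show (⟨h, mem_cent.2 hh⟩ : (Subgroup.centralizer ({z} : Set G))) ∈ Q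
      rw [← hF]
      refine Components.centralizer_generalizedFitting_le (Subgroup.mem_centralizer_iff.2 fun q hq => ?_)
      rw [hF] at hq
      exact Subtype.ext (hall _ ⟨q, hq, rfl⟩).symm
    surj := hφ
    ker := fun h => by
      rw [hker]
      exact ⟨fun hq => ⟨h, hq, rfl⟩, fun ⟨q, hq, e⟩ => by rwa [← Subtype.ext e]⟩
    nwc := hnwc (exists_invol fcard ⟨⟨z, hzH⟩, hzQ, rfl⟩ hzz fcomm fsq)
    two := by
      obtain ⟨p, q, hp, hq, hpq⟩ := hcl
      by_contra hno
      push Not at hno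
      obtain ⟨hp2, hp1⟩ := orderOf_eq_two_iff'.1 hp
      obtain ⟨hq2, hq1⟩ := orderOf_eq_two_iff'.1 hq
      exact hpq ((isConj_iff.2 (hno p hp2 hp1)).symm.trans (isConj_iff.2 (hno q hq2 hq1))) }

/-- The setting from the hypotheses with an orthogonal quotient. -/
theorem setup_of_omega (z : G) (hz : orderOf z = 2)
    (Q : Subgroup (Subgroup.centralizer ({z} : Set G))) [Q.Normal]
    (hF : Cfsg.generalizedFittingSubgroup (Subgroup.centralizer ({z} : Set G)) = Q)
    (hQ : Cfsg.IsExtraspecial 2 Q) (hcard : Nat.card Q = 2 ^ 5)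
    (e : (Subgroup.centralizer ({z} : Set G)) ⧸ Q ≃* Cfsg.Omega (ZMod 2) (Cfsg.quadFormMinus 1 (ZMod 2) 1 1))
    (hnwc : ∃ g : G, (∃ hq : g * z * g⁻¹ ∈ Subgroup.centralizer ({z} : Set G),
      (⟨g * z * g⁻¹, hq⟩ : Subgroup.centralizer ({z} : Set G)) ∈ Q) ∧ g * z * g⁻¹ ≠ z)
    (hcl : ∃ x y : G, orderOf x = 2 ∧ orderOf y = 2 ∧ ¬ IsConj x y) :
    ∃ φ, Setup z (Q.map (Subgroup.centralizer ({z} : Set G)).subtype) φ := by
  obtain ⟨ι⟩ := omega_alt
  refine ⟨(e.trans ι).toMonoidHom.comp (QuotientGroup.mk' Q), setup_of z hz Q hF hQ hcard _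
    ((e.trans ι).surjective.comp (QuotientGroup.mk'_surjective Q)) (fun h => ?_) ?_ hcl⟩
  · show (e.trans ι) (QuotientGroup.mk' Q h) = 1 ↔ h ∈ Q
    rw [EmbeddingLike.map_eq_one_iff]
    exact QuotientGroup.eq_one_iff h
  · obtain ⟨g, ⟨hq, hgQ⟩, hne⟩ := hnwc
    exact fun _ => ⟨g, ⟨_, hgQ, rfl⟩, hne⟩

end Cfsg.Agent.HJ

namespace Cfsg.Agent.HJ

variable {G : Type*} [Group G] [Finite G]

/-- The setting when the 2-core of the centraliser has a complement isomorphic to `A₅`. -/
theorem setup_of_complement (z t : G) (hz : orderOf z = 2) (ht : orderOf t = 2) (hzt : ¬ IsConj z t)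
    (hex : Cfsg.IsExtraspecial 2 ↥(Cfsg.generalizedFittingSubgroup ↥(Subgroup.centralizer ({z} : Set G))))
    (hQ : Nat.card ↥(Cfsg.pCore 2 ↥(Subgroup.centralizer ({z} : Set G))) = 32)
    (K : Subgroup G) (hK : Nonempty (↥K ≃* alternatingGroup (Fin 5)))
    (hKC : K ⊔ (Cfsg.pCore 2 ↥(Subgroup.centralizer ({z} : Set G))).map (Subgroup.centralizer ({z} : Set G)).subtype = Subgroup.centralizer ({z} : Set G))
    (hKQ : K ⊓ (Cfsg.pCore 2 ↥(Subgroup.centralizer ({z} : Set G))).map (Subgroup.centralizer ({z} : Set G)).subtype = ⊥)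
    (hQz : ∀ x ∈ (Cfsg.pCore 2 ↥(Subgroup.centralizer ({z} : Set G))).map (Subgroup.centralizer ({z} : Set G)).subtype, orderOf x = 2 → IsConj x z) :
    ∃ φ, Setup z ((Cfsg.pCore 2 ↥(Subgroup.centralizer ({z} : Set G))).map (Subgroup.centralizer ({z} : Set G)).subtype) φ := by
  obtain ⟨ε⟩ := hK
  haveI : Fact (Nat.Prime 2) := ⟨Nat.prime_two⟩
  have hFO : Cfsg.generalizedFittingSubgroup ↥(Subgroup.centralizer ({z} : Set G)) =
      Cfsg.pCore 2 ↥(Subgroup.centralizer ({z} : Set G)) := le_antisymm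
    (le_sSup ⟨Components.generalizedFitting_normal, hex.1.1⟩)
    (Components.pCore_le_fittingSubgroup.trans Components.fitting_le_generalizedFitting)
  haveI hN : (Cfsg.pCore 2 ↥(Subgroup.centralizer ({z} : Set G))).Normal := by
    rw [← hFO]; exact Components.generalizedFitting_normal
  have hle : K ≤ Subgroup.centralizer ({z} : Set G) := hKC ▸ le_sup_left
  let f : K →* ↥(Subgroup.centralizer ({z} : Set G)) ⧸ Cfsg.pCore 2 ↥(Subgroup.centralizer ({z} : Set G)) :=
    (QuotientGroup.mk' _).comp (Subgroup.inclusion hle)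
  have hf : Function.Bijective f := by
    constructor
    · rw [injective_iff_map_eq_one]
      intro k hk
      have h1 : Subgroup.inclusion hle k ∈ Cfsg.pCore 2 ↥(Subgroup.centralizer ({z} : Set G)) :=
        (QuotientGroup.eq_one_iff _).1 hk
      have h2 : (k : G) ∈ K ⊓ (Cfsg.pCore 2 ↥(Subgroup.centralizer ({z} : Set G))).map
          (Subgroup.centralizer ({z} : Set G)).subtype := ⟨k.2, _, h1, rfl⟩
      rw [hKQ, Subgroup.mem_bot] at h2
      exact Subtype.ext h2
    · intro w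
      obtain ⟨h, rfl⟩ := QuotientGroup.mk'_surjective _ w
      have hmem : h ∈ K.subgroupOf (Subgroup.centralizer ({z} : Set G)) ⊔
          Cfsg.pCore 2 ↥(Subgroup.centralizer ({z} : Set G)) := by
        rw [← Subgroup.mem_map_iff_mem (Subgroup.centralizer ({z} : Set G)).subtype_injective,
          Subgroup.map_sup, Subgroup.map_subgroupOf_eq_of_le hle, hKC]
        exact h.2
      rw [← SetLike.mem_coe, Subgroup.mul_normal] at hmem
      obtain ⟨k, hk, q, hq, rfl⟩ := hmem
      refine ⟨⟨(k : G), hk⟩, ?_⟩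
      show QuotientGroup.mk' _ (Subgroup.inclusion hle ⟨(k : G), hk⟩) = QuotientGroup.mk' _ (k * q)
      rw [map_mul, show QuotientGroup.mk' _ q = 1 from (QuotientGroup.eq_one_iff q).2 hq, mul_one]
      rfl
  let g := (MulEquiv.ofBijective f hf).symm.trans ε
  refine ⟨g.toMonoidHom.comp (QuotientGroup.mk' _), setup_of z hz _ hFO ?_ hQ _
    (g.surjective.comp (QuotientGroup.mk'_surjective _)) (fun h => ?_) ?_ ⟨z, t, hz, ht, hzt⟩⟩
  · rw [← hFO]; exact hex
  · show g (QuotientGroup.mk' _ h) = 1 ↔ _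
    rw [EmbeddingLike.map_eq_one_iff]
    exact QuotientGroup.eq_one_iff h
  · rintro ⟨y, hy, hy2, hy1, hyz⟩
    obtain ⟨c, hc⟩ := isConj_iff.1 (hQz y hy (orderOf_eq_two_iff'.2 ⟨hy2, hy1⟩)).symm
    exact ⟨c, by rw [hc]; exact ⟨hy, hyz⟩⟩

end Cfsg.Agent.HJ
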